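import Mathlib
import Cfsg.Prelude.Def_Balance
import Cfsg.Agent.Lib.H1.UniqueSub
import Cfsg.Agent.Lib.H26.ZStarUse
import Cfsg.Agent.Lib.H26.Quasisimple
import Cfsg.Agent.Lib.H26.Basic

/-!
Quasisimple groups of even order and `2`-rank one.
-/

set_option autoImplicit false
set_option linter.unusedSectionVars false
set_option linter.style.haveILetI false

open Subgroup Cfsg H26.Basic
open scoped commutatorElement

universe u

namespace H27.RankOne

section pgroup
variable {P : Type*} [Group P] [Finite P]

local instance instFactTwo : Fact (Nat.Prime 2) := ⟨Nat.prime_two⟩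

/-- a nontrivial `2`-group of `2`-rank one has a unique involution, which is central -/
theorem unique_involution (hP : IsPGroup 2 P) (hrk : PRankLE 2 1 P) (hP1 : Nontrivial P) :
    ∃ z : P, orderOf z = 2 ∧ z ∈ center P ∧ ∀ u : P, orderOf u = 2 → u = z := by
  have hZ : Nontrivial (center P) := hP.center_nontrivial
  obtain ⟨z, hz⟩ : ∃ z : center P, orderOf z = 2 := by
    apply exists_prime_orderOf_dvd_card' 2
    obtain ⟨n, hn⟩ := IsPGroup.iff_card.mp (hP.to_subgroup (center P))
    have h1 : 1 < Nat.card (center P) := Finite.one_lt_card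
    rw [hn] at h1 ⊢
    exact dvd_pow_self 2 (by rintro rfl; simp at h1)
  have hz2 : orderOf (z : P) = 2 := by rw [← hz]; exact Subgroup.orderOf_coe z
  refine ⟨z, hz2, z.2, fun u hu => ?_⟩
  by_contra hne
  have hzc : ∀ g : P, g * z = z * g := Subgroup.mem_center_iff.mp z.2
  have hzz : (z : P) * z = 1 := by
    have := pow_orderOf_eq_one (z : P); rwa [hz2, pow_two] at this
  have huu : u * u = 1 := by
    have := pow_orderOf_eq_one u; rwa [hu, pow_two] at this
  -- the four-group
  let A : Subgroup P := closure {(z : P), u}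
  have hA1 : IsMulCommutative A := by
    apply Subgroup.isMulCommutative_closure
    intro x hx y hy
    simp only [Set.mem_insert_iff, Set.mem_singleton_iff] at hx hy
    rcases hx with rfl | rfl <;> rcases hy with rfl | rfl
    · rfl
    · exact (hzc _).symm
    · exact hzc _
    · rfl
  have hA2 : ∀ a ∈ A, a ^ 2 = 1 := by
    intro a ha
    induction ha using Subgroup.closure_induction with
    | mem x hx =>
      simp only [Set.mem_insert_iff, Set.mem_singleton_iff] at hx
      rcases hx with rfl | rfl
      · rw [pow_two, hzz]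
      · rw [pow_two, huu]
    | one => simp
    | mul x y hx hy h1 h2 =>
      have hxy : x * y = y * x :=
        congrArg Subtype.val (hA1.is_comm.comm ⟨x, hx⟩ ⟨y, hy⟩)
      rw [(show Commute x y from hxy).mul_pow, h1, h2, one_mul]
    | inv x _ h1 => rw [inv_pow, h1, inv_one]
  have h3 := hrk A hA1 hA2
  have hz1 : (z : P) ≠ 1 := by rintro h; rw [h, orderOf_one] at hz2; omega
  have hu1 : u ≠ 1 := by rintro rfl; rw [orderOf_one] at hu; omega
  have hzA : (z : P) ∈ A := subset_closure (by simp)
  have huA : u ∈ A := subset_closure (by simp)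
  have hle : zpowers (z : P) ≤ A := zpowers_le.mpr hzA
  have h4 : zpowers (z : P) = A := by
    apply Subgroup.eq_of_le_of_card_ge hle
    rw [Nat.card_zpowers, hz2]; simpa using h3
  rw [← h4] at huA
  obtain ⟨i, hi⟩ := mem_zpowers_iff.mp huA
  rcases Int.even_or_odd' i with ⟨j, rfl | rfl⟩
  · apply hu1
    rw [← hi, zpow_mul, zpow_two, hzz, one_zpow]
  · apply hne
    rw [← hi, zpow_add, zpow_mul, zpow_two, hzz, one_zpow, one_mul, zpow_one]

end pgroup

section quasi
variable {L : Type u} [Group L] [Finite L]

local instance instFactTwo' : Fact (Nat.Prime 2) := ⟨Nat.prime_two⟩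

theorem not_cyclic_sylow (hL : IsQuasisimple L) (heven : 2 ∣ Nat.card L) (P : Sylow 2 L) :
    ¬ IsCyclic P := by
  intro hcyc
  have hmin : (Nat.card L).minFac = 2 := by
    rw [Nat.minFac_eq_two_iff]; exact heven
  have h1 := IsCyclic.isComplement' hmin hcyc
  set N := (MonoidHom.transferSylow P (hcyc.normalizer_le_centralizer hmin)).ker with hN
  have hcard := h1.card_mul_card
  have hPc : 2 ∣ Nat.card P := by
    by_contra h
    have h2 := P.card_eq_multiplicity
    have h3 : 1 ≤ (Nat.card L).factorization 2 :=
      (Nat.Prime.dvd_iff_one_le_factorization Nat.prime_two Nat.card_pos.ne').mp heven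
    apply h
    rw [h2]
    exact dvd_pow_self 2 (by omega)
  rcases H26.Quasisimple.normal_eq_top_or_le_center hL N with h2 | h2
  · rw [h2, Subgroup.card_top] at hcard
    have h3 : Nat.card P = 1 := by
      have h4 : 0 < Nat.card L := Nat.card_pos
      exact Nat.eq_of_mul_eq_mul_left h4 (by rw [hcard, mul_one])
    rw [h3] at hPc; omega
  · -- `L = N P` is nilpotent-by-..., in fact solvable
    have h3 : Group.IsSolvable L := by
      have h4 : Group.IsSolvable N := by
        exact Group.isSolvable_of_comm fun a b => Subtype.ext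
          ((Subgroup.mem_center_iff.mp (h2 a.2) (b : L)).symm)
      have h5 : Group.IsSolvable (MonoidHom.transferSylow P
          (hcyc.normalizer_le_centralizer hmin)).range := by
        infer_instance
      exact Group.isSolvable_of_ker_le_range N.subtype
        (MonoidHom.transferSylow P (hcyc.normalizer_le_centralizer hmin))
        (by rw [Subgroup.range_subtype])
    exact H26.Quasisimple.not_isSolvable hL h3

/-- quasisimple groups of even order and `2`-rank one have quaternion Sylow `2`-subgroups and
a central involution -/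
theorem exists_central (hZ : H26.ZStarUse.ZStarHyp.{u}) (hL : IsQuasisimple L)
    (heven : 2 ∣ Nat.card L) (hrk : PRankLE 2 1 L) :
    ∃ t : L, orderOf t = 2 ∧ t ∈ center L ∧
      ∃ S : Sylow 2 L, ∃ n : ℕ, Nonempty (↥(S : Subgroup L) ≃* QuaternionGroup (2 ^ (n + 1))) := by
  obtain ⟨P⟩ : Nonempty (Sylow 2 L) := inferInstance
  have hncyc := not_cyclic_sylow hL heven P
  have hPnt : Nontrivial P := by
    by_contra h
    rw [not_nontrivial_iff_subsingleton] at h
    exact hncyc inferInstance
  have hrkP : PRankLE 2 1 P := by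
    intro A hA1 hA2
    have h1 := hrk (A.map (P : Subgroup L).subtype) (by
      constructor; constructor
      rintro ⟨_, x, hx, rfl⟩ ⟨_, y, hy, rfl⟩
      have h : x * y = y * x := congrArg Subtype.val (hA1.is_comm.comm ⟨x, hx⟩ ⟨y, hy⟩)
      refine Subtype.ext ?_
      change (x : L) * (y : L) = (y : L) * (x : L)
      exact congrArg (fun w : P => (w : L)) h) (by
      rintro _ ⟨x, hx, rfl⟩
      rw [← map_pow, hA2 x hx, map_one])
    rwa [Subgroup.card_map_of_injective (P : Subgroup L).subtype_injective] at h1
  obtain ⟨z, hz2, hzc, hzu⟩ := unique_involution P.2 hrkP hPnt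
  have hz2' : orderOf (z : L) = 2 := (Subgroup.orderOf_coe z).trans hz2
  obtain ⟨N, hN, hNodd, hNc⟩ := hZ L P z hz2' z.2 (by
    intro g hg
    have h1 : orderOf (⟨g * z * g⁻¹, hg⟩ : P) = 2 := by
      rw [Subgroup.orderOf_mk]
      exact (orderOf_injective (MulAut.conj g).toMonoidHom (MulAut.conj g).injective (z : L)).trans
        hz2'
    exact congrArg Subtype.val (hzu _ h1))
  have hNle : N ≤ center L := by
    rcases H26.Quasisimple.normal_eq_top_or_le_center hL N with h | h
    · rw [h, Subgroup.card_top] at hNodd
      exact absurd heven (by rw [← even_iff_two_dvd, Nat.not_even_iff_odd]; exact hNodd)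
    · exact h
  have hzL : (z : L) ∈ center L := by
    have h1 := H26.Quasisimple.comap_center_of_perfect hL.1 (QuotientGroup.mk' (center L))
      (QuotientGroup.mk'_surjective _) (by rw [QuotientGroup.ker_mk'])
    rw [← h1, Subgroup.mem_comap, Subgroup.mem_center_iff]
    intro g
    obtain ⟨g, rfl⟩ := QuotientGroup.mk'_surjective _ g
    rw [← map_mul, ← map_mul]
    have h2 := hNle (hNc g)
    have h3 : (g * z)⁻¹ * (z * g) ∈ center L := by
      have e : (g * (z : L))⁻¹ * (z * g) = g⁻¹ * ((z : L)⁻¹ * (z * g * (z : L)⁻¹ * g⁻¹) * z) * g := by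
        group
      rw [e]
      have hc : ∀ x y : L, x ∈ center L → y⁻¹ * x * y = x := by
        intro x y hx
        have := Subgroup.mem_center_iff.mp hx y
        rw [mul_assoc, ← this]; group
      have h4 := hc _ (z : L) h2
      rw [h4, hc _ g h2]
      exact h2
    exact QuotientGroup.eq.mpr h3
  refine ⟨z, hz2', hzL, P, ?_⟩
  rcases H1.UniqueSub.cyclic_or_quaternion 2 P.2 (by
    intro H K hH hK
    have key : ∀ H : Subgroup P, Nat.card H = 2 → H = zpowers z := by
      intro H hH
      obtain ⟨u, hu⟩ : ∃ u : H, orderOf u = 2 := exists_prime_orderOf_dvd_card' 2 (by rw [hH])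
      have hu' : orderOf (u : P) = 2 := (Subgroup.orderOf_coe u).trans hu
      have h1 := hzu u hu'
      symm
      apply Subgroup.eq_of_le_of_card_ge
      · rw [zpowers_le, ← h1]; exact u.2
      · rw [hH, Nat.card_zpowers, hz2]
    rw [key H hH, key K hK]) with h | ⟨-, n, hn⟩
  · exact absurd h hncyc
  · rcases n with _ | n
    · exfalso
      apply hncyc
      obtain ⟨e⟩ := hn
      have h1 : IsCyclic (QuaternionGroup (2 ^ 0)) := QuaternionGroup.quaternionGroup_one_isCyclic
      exact isCyclic_of_surjective e.symm e.symm.surjective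
    · exact ⟨n, hn⟩

end quasi

end H27.RankOne
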