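import Mathlib
import Cfsg.Agent.Lib.H59.EarlyTwo
import Cfsg.Agent.Lib.H83.BdC3
import Cfsg.Agent.Lib.H24.SzIso
import Cfsg.Agent.Lib.H11.InvSub
import Cfsg.Agent.S0330
import Cfsg.Agent.S1141

/-!
# Simple groups with abelian Sylow 2-subgroups and solvable centralizers of involutions, part 1

2-rank at least three: the solvable signalizer functor theorem gives a strongly embedded subgroup.
-/

set_option autoImplicit false
set_option linter.unusedVariables false
set_option linter.unusedSectionVars false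

namespace H27.AB

open Subgroup Cfsg H59.EarlyTwo

universe u

variable {G : Type u} [Group G] [Finite G]

/-- an involution of a subgroup `M ≥ S` is `M`-conjugate into `S` -/
theorem exists_conj_mem {S : Sylow 2 G} {M : Subgroup G} (hSM : (S : Subgroup G) ≤ M) {t : G} (htM : t ∈ M)
    (ht : orderOf t = 2) : ∃ m ∈ M, m * t * m⁻¹ ∈ (S : Subgroup G) := by
  haveI : Fact (Nat.Prime 2) := ⟨Nat.prime_two⟩
  have h1 : orderOf (⟨t, htM⟩ : M) = 2 := by rw [Subgroup.orderOf_mk]; exact ht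
  obtain ⟨g, hg⟩ := H5.PLocal.exists_conj_mem_sylow (S.subtype hSM) h1
  refine ⟨g, g.2, ?_⟩
  have h2 : g * ⟨t, htM⟩ * g⁻¹ ∈ ((S.subtype hSM : Sylow 2 M) : Subgroup M) := hg
  rw [Sylow.coe_subtype, Subgroup.mem_subgroupOf] at h2
  exact h2

/-- strongly embedded from centralizers -/
theorem se_of_cent (S : Sylow 2 G) (hS : ∀ a ∈ (S : Subgroup G), ∀ b ∈ (S : Subgroup G), a * b = b * a)
    {M : Subgroup G} (hM : M ≠ ⊤) (hS1 : (S : Subgroup G) ≠ ⊥)
    (hSM : normalizer ((S : Subgroup G) : Set G) ≤ M)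
    (hc : ∀ t ∈ (S : Subgroup G), orderOf t = 2 → centralizer {t} ≤ M) : IsStronglyEmbedded M := by
  haveI : Fact (Nat.Prime 2) := ⟨Nat.prime_two⟩
  have hle : (S : Subgroup G) ≤ M := le_normalizer.trans hSM
  have hev : 2 ∣ Nat.card (S : Subgroup G) := by
    obtain ⟨k, hk⟩ := IsPGroup.iff_card.mp S.2
    rw [hk]
    apply dvd_pow_self
    rintro rfl
    rw [pow_zero, Subgroup.card_eq_one] at hk
    exact hS1 hk
  refine ⟨hM, even_iff_two_dvd.2 (hev.trans (card_dvd_of_le hle)), fun g hg => ?_⟩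
  rw [← Nat.not_even_iff_odd, even_iff_two_dvd]
  intro h2
  apply hg
  obtain ⟨x, hx, hxo⟩ := H51.SPE.exists_order_p h2
  obtain ⟨hx1, y, hyM, hyx⟩ := mem_inf.1 hx
  have hyx' : g * y * g⁻¹ = x := hyx
  have hyo : orderOf y = 2 := by
    rw [← hxo, ← hyx', H5.Dihedral.orderOf_conj]
  obtain ⟨m, hm, hmx⟩ := exists_conj_mem hle hx1 hxo
  obtain ⟨n, hn, hny⟩ := exists_conj_mem hle hyM hyo
  set x' := m * x * m⁻¹ with hx'
  set y' := n * y * n⁻¹ with hy'
  have hxo' : orderOf x' = 2 := by rw [hx', H5.Dihedral.orderOf_conj, hxo]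
  set h := m * g * n⁻¹ with hh
  have h3 : h * y' * h⁻¹ = x' := by
    rw [hh, hx', hy', ← hyx']; group
  haveI : IsMulCommutative (S : Subgroup G) :=
    ⟨⟨fun a b => Subtype.ext (hS a a.2 b b.2)⟩⟩
  obtain ⟨k, hk, hke⟩ := Sylow.conj_eq_normalizer_conj_of_mem S y' h⁻¹ hny (by
    rw [inv_inv, h3]; exact hmx)
  rw [inv_inv, h3] at hke
  -- `hke : x' = k⁻¹ * y' * k`
  have h4 : h * k ∈ centralizer ({x'} : Set G) := by
    rw [mem_centralizer_singleton_iff]
    have h5 : y' = k * x' * k⁻¹ := by rw [hke]; group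
    calc h * k * x' = h * (k * x' * k⁻¹) * h⁻¹ * (h * k) := by group
      _ = h * y' * h⁻¹ * (h * k) := by rw [← h5]
      _ = x' * (h * k) := by rw [h3]
  have h6 : h * k ∈ M := hc x' hmx hxo' h4
  have h7 : h ∈ M := by
    have := M.mul_mem h6 (M.inv_mem (hSM hk))
    rwa [mul_assoc, mul_inv_cancel, mul_one] at this
  have h8 : g = m⁻¹ * h * n := by rw [hh]; group
  rw [h8]
  exact M.mul_mem (M.mul_mem (M.inv_mem hm) h7) hn

/-- a solvable group with abelian Sylow 2-subgroup: Frattini -/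
theorem frat {H : Type u} [Group H] [Finite H] (hs : Group.IsSolvable H) (P : Sylow 2 H)
    (hP : ∀ a ∈ (P : Subgroup H), ∀ b ∈ (P : Subgroup H), a * b = b * a) :
    pPrimeCore 2 H ⊔ normalizer ((P : Subgroup H) : Set H) = ⊤ := by
  haveI : Fact (Nat.Prime 2) := ⟨Nat.prime_two⟩
  set N := pPrimeCore 2 H with hN
  have hqs : Function.Surjective (QuotientGroup.mk' N) := QuotientGroup.mk'_surjective N
  set R := pCore 2 (H ⧸ N) with hR
  have hCR : centralizer (R : Set (H ⧸ N)) ≤ R := H26.SolvBal.centralizer_pCore_quotient_le_of_isSolvable hs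
  have hRP : R ≤ (P : Subgroup H).map (QuotientGroup.mk' N) := H1.Cores.pCore_le_sylow (P.mapSurjective hqs)
  have hPR : (P : Subgroup H).map (QuotientGroup.mk' N) ≤ R := by
    refine le_trans ?_ hCR
    rintro _ ⟨x, hx, rfl⟩
    rw [mem_centralizer_iff]
    intro r hr
    obtain ⟨y, hy, rfl⟩ := hRP hr
    rw [← map_mul, ← map_mul, hP x hx y hy]
  have heq : (P : Subgroup H).map (QuotientGroup.mk' N) = R := le_antisymm hPR hRP
  set K := R.comap (QuotientGroup.mk' N) with hK
  haveI hKn : K.Normal := Subgroup.Normal.comap inferInstance _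
  have hPK : (P : Subgroup H) ≤ K := by
    intro x hx
    rw [hK, Subgroup.mem_comap, ← heq]
    exact ⟨x, hx, rfl⟩
  have h1 := Sylow.normalizer_sup_eq_top' P hPK
  have h2 : K = (P : Subgroup H) ⊔ N := by
    rw [hK, ← heq, Subgroup.comap_map_eq, QuotientGroup.ker_mk']
  rw [h2] at h1
  rw [eq_top_iff, ← h1]
  refine sup_le le_sup_right (sup_le ?_ le_sup_left)
  exact le_normalizer.trans le_sup_right

theorem le_centralizer {S : Subgroup G} (hS : ∀ a ∈ S, ∀ b ∈ S, a * b = b * a) {t : G} (ht : t ∈ S) :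
    S ≤ centralizer ({t} : Set G) := by
  intro x hx
  rw [mem_centralizer_singleton_iff]
  exact hS x hx t ht

/-- `C(t) ≤ O(C(t)) N(S)` -/
theorem cent_le (S : Sylow 2 G) (hS : ∀ a ∈ (S : Subgroup G), ∀ b ∈ (S : Subgroup G), a * b = b * a)
    {t : G} (htS : t ∈ (S : Subgroup G)) (hs : Group.IsSolvable ↥(centralizer ({t} : Set G))) :
    centralizer {t} ≤ centralizerPPrimeCore 2 t ⊔ normalizer ((S : Subgroup G) : Set G) := by
  have hle := le_centralizer hS htS
  have h1 := frat hs (S.subtype hle) (by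
    rintro a ha b hb
    apply Subtype.ext
    rw [Sylow.coe_subtype, Subgroup.mem_subgroupOf] at ha hb
    exact hS a ha b hb)
  have h2 : (⊤ : Subgroup (centralizer ({t} : Set G))).map (centralizer ({t} : Set G)).subtype =
      centralizer {t} := by rw [← MonoidHom.range_eq_map, Subgroup.range_subtype]
  rw [← h2, ← h1, Subgroup.map_sup]
  refine sup_le_sup le_rfl ?_
  rintro _ ⟨x, hx, rfl⟩
  rw [Sylow.coe_subtype] at hx
  apply H75.Basic.mem_normalizer_of_conj_mem
  intro y hy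
  have := (mem_normalizer_iff.1 hx ⟨y, hle hy⟩).1 (by rw [Subgroup.mem_subgroupOf]; exact hy)
  rw [Subgroup.mem_subgroupOf] at this
  exact this

/-- balance -/
theorem bal' (S : Sylow 2 G) (hS : ∀ a ∈ (S : Subgroup G), ∀ b ∈ (S : Subgroup G), a * b = b * a)
    {a b : G} (ha : a ∈ (S : Subgroup G)) (hb : b ∈ (S : Subgroup G))
    (hs : Group.IsSolvable ↥(centralizer ({b} : Set G))) :
    centralizerPPrimeCore 2 a ⊓ centralizer {b} ≤ centralizerPPrimeCore 2 b := by
  haveI : Fact (Nat.Prime 2) := ⟨Nat.prime_two⟩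
  have hle := le_centralizer hS hb
  have hla := le_centralizer hS ha
  intro x hx
  have hxb := (mem_inf.1 hx).2
  have hSc : ∀ c ∈ ((S.subtype hle : Sylow 2 (centralizer ({b} : Set G))) : Subgroup (centralizer ({b} : Set G))),
      (c : G) ∈ (S : Subgroup G) := by
    intro c hc
    rw [Sylow.coe_subtype, Subgroup.mem_subgroupOf] at hc
    exact hc
  have h1 := H11.InvSub.le_pPrimeCore_of_sylow hs 2 (S.subtype hle)
    ((S.subtype hle : Sylow 2 (centralizer ({b} : Set G))) : Subgroup (centralizer ({b} : Set G)))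
    ((centralizerPPrimeCore 2 a).subgroupOf (centralizer {b})) le_rfl le_normalizer inf_le_left ?_ ?_
  · exact ⟨⟨x, hxb⟩, h1 (by rw [Subgroup.mem_subgroupOf]; exact (mem_inf.1 hx).1), rfl⟩
  · have h2 : (Nat.card (centralizerPPrimeCore 2 a)).Coprime 2 := H26.LocalFitting.card_ppc 2 _
    exact Nat.Coprime.coprime_dvd_left (Subgroup.card_comap_dvd_of_injective _ _ (Subgroup.subtype_injective _)) h2
  · intro c hc
    apply H75.Basic.mem_normalizer_of_conj_mem
    intro y hy
    rw [Subgroup.mem_subgroupOf] at hy ⊢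
    have h3 := conj_mem_core hy (c : G)
    have h4 : (c : G) * a * (c : G)⁻¹ = a := by
      rw [hS _ (hSc c hc) a ha, mul_inv_cancel_right]
    rw [h4] at h3
    exact h3

/-- **2-rank at least three**: there is a strongly embedded subgroup -/
theorem exists_se [IsSimpleGroup G] (hG : ∃ x y : G, x * y ≠ y * x) (S : Sylow 2 G)
    (hS : ∀ a ∈ (S : Subgroup G), ∀ b ∈ (S : Subgroup G), a * b = b * a)
    (hC : ∀ t : G, orderOf t = 2 → Group.IsSolvable ↥(centralizer ({t} : Set G)))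
    (h3 : ¬ PRankLE 2 2 ↥(S : Subgroup G)) : ∃ M : Subgroup G, IsStronglyEmbedded M := by
  haveI : Fact (Nat.Prime 2) := ⟨Nat.prime_two⟩
  have h8 := eight_le_card_omg hS h3
  have hS1 : (S : Subgroup G) ≠ ⊥ := by
    intro h
    have h1 : Nat.card (omg (S : Subgroup G) hS) ≤ Nat.card (S : Subgroup G) :=
      card_le_of_le (fun x hx => hx.1)
    have h2 : Nat.card (S : Subgroup G) = 1 := by rw [Subgroup.card_eq_one]; exact h
    omega
  have hord : ∀ a ∈ omg (S : Subgroup G) hS, a ≠ 1 → orderOf a = 2 := fun a h h1 => orderOf_of_mem_omg h h1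
  have hcomm : ∀ a ∈ omg (S : Subgroup G) hS, ∀ b ∈ omg (S : Subgroup G) hS, a * b = b * a :=
    fun a ha b hb => hS a ha.1 b hb.1
  obtain ⟨hW, -⟩ := Cfsg.Agent.S0217.result (p := 2) (omg (S : Subgroup G) hS) hcomm (fun a ha => ha.2)
    (by omega) (centralizerPPrimeCore 2)
    (fun a _ _ => map_subtype_le _) (fun a _ _ => not_two_dvd_core a)
    (fun a ha _ b hb x hx => by
      have := conj_mem_core hx b
      rwa [show b * a * b⁻¹ = a by rw [hcomm b hb a ha, mul_inv_cancel_right]] at this)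
    (fun a _ _ => by
      apply Cfsg.Agent.S0205.result
      rw [← Nat.not_even_iff_odd, even_iff_two_dvd]
      exact not_two_dvd_core a)
    (fun a ha ha1 b hb hb1 => bal' S hS ha.1 hb.1 (hC b (hord b hb hb1)))
  set W : Subgroup G := ⨆ a : {a : G // a ∈ omg (S : Subgroup G) hS ∧ a ≠ 1}, centralizerPPrimeCore 2 (a : G)
    with hWd
  have hNW : normalizer ((S : Subgroup G) : Set G) ≤ normalizer (W : Set G) := by
    intro s hs
    apply H75.Basic.mem_normalizer_of_conj_mem
    have h1 : W ≤ W.comap (MulAut.conj s).toMonoidHom := by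
      rw [hWd]
      apply iSup_le
      rintro ⟨b, hb, hb1⟩ x hx
      rw [Subgroup.mem_comap]
      have hb' : s * b * s⁻¹ ∈ omg (S : Subgroup G) hS := by
        refine ⟨(mem_normalizer_iff.1 hs b).1 hb.1, ?_⟩
        have : (s * b * s⁻¹) ^ 2 = s * b ^ 2 * s⁻¹ := by rw [pow_two, pow_two]; group
        rw [this, hb.2, mul_one, mul_inv_cancel]
      have hb1' : s * b * s⁻¹ ≠ 1 := by
        intro h
        apply hb1
        have : b = s⁻¹ * (s * b * s⁻¹) * s := by group
        rw [this, h]; group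
      exact le_iSup (fun a : {a : G // a ∈ omg (S : Subgroup G) hS ∧ a ≠ 1} => centralizerPPrimeCore 2 (a : G))
        ⟨s * b * s⁻¹, hb', hb1'⟩ (conj_mem_core hx s)
    intro z hz
    exact h1 hz
  refine ⟨W ⊔ normalizer ((S : Subgroup G) : Set G), se_of_cent S hS ?_ hS1 le_sup_right ?_⟩
  · intro htop
    have hWn : W.Normal := by
      rw [← normalizer_eq_top_iff, eq_top_iff, ← htop]
      exact sup_le le_normalizer hNW
    rcases hWn.eq_bot_or_eq_top with h | h
    · rw [h, bot_sup_eq, normalizer_eq_top_iff] at htop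
      rcases htop.eq_bot_or_eq_top with h5 | h5
      · exact hS1 h5
      · obtain ⟨x, y, hxy⟩ := hG
        exact hxy (hS x (by rw [h5]; exact mem_top x) y (by rw [h5]; exact mem_top y))
    · apply hW
      rw [h, Subgroup.card_top]
      obtain ⟨k, hk⟩ := IsPGroup.iff_card.mp S.2
      have h6 : 2 ∣ Nat.card (S : Subgroup G) := by
        rw [hk]
        apply dvd_pow_self
        rintro rfl
        rw [pow_zero, Subgroup.card_eq_one] at hk
        exact hS1 hk
      exact h6.trans (Subgroup.card_subgroup_dvd_card _)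
  · intro t htS ht
    refine (cent_le S hS htS (hC t ht)).trans (sup_le_sup ?_ le_rfl)
    have ht' : t ∈ omg (S : Subgroup G) hS := ⟨htS, by rw [← ht, pow_orderOf_eq_one]⟩
    have ht1 : t ≠ 1 := by rintro rfl; rw [orderOf_one] at ht; omega
    exact le_iSup (fun a : {a : G // a ∈ omg (S : Subgroup G) hS ∧ a ≠ 1} => centralizerPPrimeCore 2 (a : G))
      ⟨t, ht', ht1⟩

section excl

/-- Sylow 2-subgroups of the Suzuki groups are not abelian -/
theorem not_suzuki (S : Sylow 2 G)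
    (hS : ∀ a ∈ (S : Subgroup G), ∀ b ∈ (S : Subgroup G), a * b = b * a) : ¬ Cfsg.Lie.IsoSuzuki G := by
  rintro ⟨F, iF, iFf, m, hm, hc, ⟨e⟩⟩
  haveI : Fact (Nat.Prime 2) := ⟨Nat.prime_two⟩
  have e' : G ≃* Cfsg.Sz F m := e.trans (H24.SzIso.equiv hc hm).symm
  haveI : Finite (Cfsg.Sz F m) := Finite.of_equiv G e'.toEquiv
  let P : Sylow 2 (Cfsg.Sz F m) := S.mapSurjective (f := e'.toMonoidHom) e'.surjective
  obtain ⟨h1, -, -, h4⟩ := Cfsg.Agent.S0330.result hm hc P
  have hcomm : Subgroup.center P = ⊤ := by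
    rw [eq_top_iff]
    rintro x -
    rw [mem_center_iff]
    intro y
    obtain ⟨x, x', hx, rfl⟩ := x
    obtain ⟨y, y', hy, rfl⟩ := y
    apply Subtype.ext
    change e' y' * e' x' = e' x' * e' y'
    rw [← map_mul, ← map_mul, hS y' hy x' hx]
  rw [hcomm, Subgroup.card_top, h1] at h4
  have h5 : 1 < 2 ^ (2 * m + 1) := Nat.one_lt_two_pow (by omega)
  nlinarith

theorem not_psu {F : Type} [Field F] [Fintype F] {n : ℕ} (hn : 2 ≤ n) (hc : Fintype.card F = (2 ^ n) ^ 2)
    (e : G ≃* Cfsg.PSU 3 F (2 ^ n)) (S : Sylow 2 G)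
    (hS : ∀ a ∈ (S : Subgroup G), ∀ b ∈ (S : Subgroup G), a * b = b * a) : False := by
  haveI : Fact (Nat.Prime 2) := ⟨Nat.prime_two⟩
  haveI : Finite (Cfsg.PSU 3 F (2 ^ n)) := Finite.of_equiv G e.toEquiv
  let P : Sylow 2 (Cfsg.PSU 3 F (2 ^ n)) := S.mapSurjective (f := e.toMonoidHom) e.surjective
  obtain ⟨-, -, -, -, ⟨x, y, hxy⟩, -⟩ := Cfsg.Agent.S1141.result hn hc P
  apply hxy
  obtain ⟨x, x', hx, rfl⟩ := x
  obtain ⟨y, y', hy, rfl⟩ := y
  apply Subtype.ext
  change e x' * e y' = e y' * e x'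
  rw [← map_mul, ← map_mul, hS y' hy x' hx]

/-- simple groups with abelian Sylow 2-subgroups and a strongly embedded subgroup -/
theorem psl_of_se (main : H16.BD.BenderThm.{u, u}) (main1 : H16.BSSimple.RankOneThm.{u, u}) [IsSimpleGroup G]
    (S : Sylow 2 G) (hS : ∀ a ∈ (S : Subgroup G), ∀ b ∈ (S : Subgroup G), a * b = b * a)
    {M : Subgroup G} (hM : IsStronglyEmbedded M) :
    ∃ (F : Type) (_ : Field F) (_ : Fintype F), (∃ n : ℕ, 2 ≤ n ∧ Fintype.card F = 2 ^ n) ∧
      Nonempty (G ≃* Matrix.ProjectiveSpecialLinearGroup (Fin 2) F) := by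
  rcases H83.BdC.concl_of_se main main1 hM with h | h | ⟨F, iF, iFf, n, hn, hc, ⟨e⟩⟩
  · exact h
  · exact absurd h (not_suzuki S hS)
  · exact (not_psu hn hc e S hS).elim

end excl

end H27.AB
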