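import Mathlib
import Cfsg.Agent.Lib.H27.AB1
import Cfsg.Agent.Lib.H27.PRank
import Cfsg.Agent.Lib.H28.GW4D
import Cfsg.Agent.Lib.Lead.TwoRankTwo

/-!
# Simple groups with abelian Sylow 2-subgroups and solvable centralizers of involutions, part 2

2-rank at most two, and the general case.
-/

set_option autoImplicit false
set_option linter.unusedVariables false
set_option linter.unusedSectionVars false

namespace H27.AB

open Subgroup Cfsg H59.EarlyTwo

universe u

theorem dihedral_comm {n : ℕ} (hn : 2 ≤ n) {S : Type*} [Group S] (e : S ≃* DihedralGroup n)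
    (h : ∀ a b : S, a * b = b * a) : Nat.card S = 4 := by
  have h1 : (DihedralGroup.r 1 : DihedralGroup n) * DihedralGroup.sr 0 = DihedralGroup.sr 0 * DihedralGroup.r 1 := by
    apply e.symm.injective
    rw [map_mul, map_mul]
    exact h _ _
  rw [DihedralGroup.r_mul_sr, DihedralGroup.sr_mul_r] at h1
  have h2 : (0 : ZMod n) - 1 = 0 + 1 := DihedralGroup.sr.inj h1
  have h3 : ((2 : ℕ) : ZMod n) = 0 := by
    push_cast
    linear_combination -h2
  rw [ZMod.natCast_eq_zero_iff] at h3
  have h4 : n ≤ 2 := Nat.le_of_dvd (by norm_num) h3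
  have h5 : n = 2 := le_antisymm h4 hn
  subst h5
  rw [Nat.card_congr e.toEquiv, DihedralGroup.nat_card]

theorem not_qd {S : Type*} [Group S] (h : ∀ a b : S, a * b = b * a) : ¬ IsQuasiDihedral S := by
  rintro ⟨n, hn, -, x, y, hx, -, hxy⟩
  have h1 : y * x * y⁻¹ = x := by rw [h y x, mul_inv_cancel_right]
  rw [h1] at hxy
  have h8 : 2 ^ 2 ≤ 2 ^ (n - 1) := Nat.pow_le_pow_right (by norm_num) (by omega)
  have h9 : 2 ^ n = 2 ^ (n - 1) * 2 := by rw [← pow_succ]; congr 1; omega
  have h2 : x ^ (2 ^ (n - 1) - 2) = 1 := by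
    have h3 : 2 ^ (n - 1) - 1 = (2 ^ (n - 1) - 2) + 1 := by omega
    rw [h3, pow_succ] at hxy
    exact (mul_eq_right.mp hxy.symm)
  have h4 := orderOf_dvd_of_pow_eq_one h2
  rw [hx] at h4
  have h5 := Nat.le_of_dvd (by omega) h4
  omega

theorem not_wr {S : Type*} [Group S] (h : ∀ a b : S, a * b = b * a) : ¬ IsWreathed S := by
  rintro ⟨n, hn, -, x, y, z, hx, -, hxy, -, hz⟩
  have h1 : z * x * z⁻¹ = x := by rw [h z x, mul_inv_cancel_right]
  rw [h1] at hz
  rw [← hz, inf_idem, zpowers_eq_bot] at hxy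
  rw [hxy, orderOf_one] at hx
  have : 1 < 2 ^ n := Nat.one_lt_two_pow (by omega)
  omega

variable {G : Type u} [Group G] [Finite G]

/-- rank of a Sylow subgroup -/
theorem prank_of_sylow (S : Sylow 2 G) (h : PRankLE 2 2 ↥(S : Subgroup G)) : PRankLE 2 2 G := by
  haveI : Fact (Nat.Prime 2) := ⟨Nat.prime_two⟩
  intro A hA hA2
  have hp : IsPGroup 2 A := fun x => ⟨1, by
    rw [pow_one]; exact Subtype.ext (hA2 x x.2)⟩
  obtain ⟨P, hP⟩ := hp.exists_le_sylow
  obtain ⟨g, hg⟩ := MulAction.exists_smul_eq G P S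
  have e : (P : Subgroup G) ≃* (S : Subgroup G) := by
    rw [← hg, Sylow.coe_subgroup_smul]
    exact Subgroup.equivSMul (MulAut.conj g) (P : Subgroup G)
  have hP2 : PRankLE 2 2 ↥(P : Subgroup G) := (H27.PRank.pRankLE_congr e).2 h
  have h1 := hP2 (A.subgroupOf P) (by
    refine ⟨⟨fun a b => ?_⟩⟩
    apply Subtype.ext
    apply Subtype.ext
    have := hA.is_comm.comm (⟨a.1.1, mem_subgroupOf.1 a.2⟩ : A) ⟨b.1.1, mem_subgroupOf.1 b.2⟩
    change (a.1.1 : G) * b.1.1 = b.1.1 * a.1.1
    exact congrArg Subtype.val this) (by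
    intro a ha
    exact Subtype.ext (hA2 _ (mem_subgroupOf.1 ha)))
  rwa [Nat.card_congr (subgroupOfEquivOfLe hP).toEquiv] at h1

/-- the conclusion -/
def Concl (X : Type*) [Group X] : Prop :=
  ∃ (F : Type) (_ : Field F) (_ : Fintype F),
    (((Fintype.card F % 8 = 3 ∨ Fintype.card F % 8 = 5) ∧ 5 ≤ Fintype.card F) ∨
      (∃ n : ℕ, 2 ≤ n ∧ Fintype.card F = 2 ^ n)) ∧
    Nonempty (X ≃* Matrix.ProjectiveSpecialLinearGroup (Fin 2) F)

theorem simple_case (main : H16.BD.BenderThm.{u, u}) (main1 : H16.BSSimple.RankOneThm.{u, u})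
    (gw : H28.GW4.GW4Thm.{u}) [IsSimpleGroup G] (hG : ¬ IsMulCommutative G) (S : Sylow 2 G)
    (hS : ∀ a ∈ (S : Subgroup G), ∀ b ∈ (S : Subgroup G), a * b = b * a)
    (hC : ∀ t : G, orderOf t = 2 → Group.IsSolvable ↥(centralizer ({t} : Set G))) : Concl G := by
  haveI : Fact (Nat.Prime 2) := ⟨Nat.prime_two⟩
  have hG' : ∃ x y : G, x * y ≠ y * x := by
    by_contra hcon
    push Not at hcon
    exact hG ⟨⟨hcon⟩⟩
  by_cases h3 : PRankLE 2 2 ↥(S : Subgroup G)
  · have hcomm : ∀ a b : (S : Subgroup G), a * b = b * a := fun a b => Subtype.ext (hS a a.2 b b.2)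
    letI : Fintype (GaloisField 2 4) := Fintype.ofFinite _
    have hF : Fintype.card (GaloisField 2 4) = 16 := by
      rw [← Nat.card_eq_fintype_card, GaloisField.card 2 4 (by norm_num)]; norm_num
    let P : Sylow 2 (Cfsg.PSU 3 (GaloisField 2 4) 4) := default
    rcases Lead.TwoRankTwo.main (fun X _ _ h => Cfsg.Agent.S0205.result h) hG (prank_of_sylow S h3) S hF P with
      ⟨n, hn, ⟨e⟩⟩ | h | h | ⟨⟨e⟩⟩
    · obtain ⟨F, iF, iFf, h8, h9, he⟩ := gw G inferInstance ⟨S, dihedral_comm hn e hcomm⟩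
      exact ⟨F, iF, iFf, Or.inl ⟨h8, by omega⟩, he⟩
    · exact absurd h (not_qd hcomm)
    · exact absurd h (not_wr hcomm)
    · exfalso
      obtain ⟨-, -, -, -, ⟨x, y, hxy⟩, -⟩ := Cfsg.Agent.S1141.result (F := GaloisField 2 4) (n := 2) le_rfl
        (by rw [hF]; norm_num) P
      apply hxy
      have := hcomm (e.symm x) (e.symm y)
      rw [← map_mul, ← map_mul] at this
      exact e.symm.injective this
  · obtain ⟨M, hM⟩ := exists_se hG' S hS hC h3
    obtain ⟨F, iF, iFf, hn, he⟩ := psl_of_se main main1 S hS hM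
    exact ⟨F, iF, iFf, Or.inr hn, he⟩

theorem isSolvable_of_odd (ho : Odd (Nat.card G)) : Group.IsSolvable G := Cfsg.Agent.S0205.result ho

theorem exists_inv {K : Subgroup G} (h : ¬ Group.IsSolvable K) : ∃ t ∈ K, orderOf t = 2 := by
  haveI : Fact (Nat.Prime 2) := ⟨Nat.prime_two⟩
  have h2 : 2 ∣ Nat.card K := by
    rw [← even_iff_two_dvd, ← Nat.not_odd_iff_even]
    exact fun ho => h (isSolvable_of_odd ho)
  exact H51.SPE.exists_order_p h2

theorem solvable_mono {A B : Subgroup G} (h : A ≤ B) (hB : Group.IsSolvable B) : Group.IsSolvable A := by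
  haveI := hB
  exact Group.isSolvable_of_isSolvable_injective (Subgroup.inclusion_injective h)

/-- the core-free case: there is a simple normal subgroup with trivial centralizer -/
theorem exists_simple (S : Sylow 2 G)
    (hS : ∀ a ∈ (S : Subgroup G), ∀ b ∈ (S : Subgroup G), a * b = b * a)
    (hC : ∀ t : G, orderOf t = 2 → Group.IsSolvable ↥(centralizer ({t} : Set G)))
    (hO : pPrimeCore 2 G = ⊥) (hns : ¬ Group.IsSolvable G) :
    ∃ K : Subgroup G, K.Normal ∧ IsSimpleGroup K ∧ ¬ IsMulCommutative K ∧ centralizer (K : Set G) = ⊥ := by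
  haveI : Fact (Nat.Prime 2) := ⟨Nat.prime_two⟩
  obtain ⟨K, hK⟩ : ∃ K : Subgroup G, IsComponent K := by
    by_contra hcon
    push Not at hcon
    have hE : layer G = ⊥ := H26.Components.layer_eq_bot_iff.2 hcon
    have h1 := H26.GenFitting.gFitting_eq_of_pPrimeCore_eq_bot hO
    rw [hE, bot_sup_eq] at h1
    have h2 := H26.GenFitting.gFitting_eq_pCore_iff.1 h1
    have h3 : pCore 2 G ≤ (S : Subgroup G) := H1.Cores.pCore_le_sylow S
    have h4 : (S : Subgroup G) ≤ pCore 2 G := by
      refine le_trans ?_ h2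
      intro s hs
      rw [mem_centralizer_iff]
      intro r hr
      exact hS r (h3 hr) s hs
    have h5 : (S : Subgroup G) = pCore 2 G := le_antisymm h4 h3
    have h6 : (S : Subgroup G).Normal := by rw [h5]; infer_instance
    apply hns
    have h7 : Group.IsSolvable (G ⧸ (S : Subgroup G)) := by
      apply Cfsg.Agent.S0205.result
      rw [← Nat.not_even_iff_odd, even_iff_two_dvd]
      exact S.not_dvd_index
    have h8 : Group.IsSolvable (S : Subgroup G) := by
      haveI := S.2.isNilpotent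
      infer_instance
    exact Group.isSolvable_of_ker_le_range (S : Subgroup G).subtype (QuotientGroup.mk' (S : Subgroup G)) (by
      rw [QuotientGroup.ker_mk', Subgroup.range_subtype])
  have hKns : ¬ Group.IsSolvable K := H26.Quasisimple.not_isSolvable hK.2
  -- an involution commuting with `K` is impossible
  have hno : ∀ t : G, orderOf t = 2 → ¬ K ≤ centralizer {t} := fun t ht h =>
    hKns (solvable_mono h (hC t ht))
  have hno' : ∀ A : Subgroup G, ⁅K, A⁆ = ⊥ → ¬ 2 ∣ Nat.card A := by
    intro A hA h2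
    obtain ⟨t, htA, ht⟩ := H51.SPE.exists_order_p h2
    apply hno t ht
    intro k hk
    rw [mem_centralizer_singleton_iff]
    exact (mem_centralizer_iff.1 ((Subgroup.commutator_eq_bot_iff_le_centralizer.1 hA) hk) t htA).symm
  have h2K : 2 ∣ Nat.card K := by
    rw [← even_iff_two_dvd, ← Nat.not_odd_iff_even]
    exact fun ho => hKns (isSolvable_of_odd ho)
  -- the centre of `K` is trivial
  have hZ : K ⊓ centralizer (K : Set G) = ⊥ := by
    have h1 : K ⊓ centralizer (K : Set G) ≤ pCore 2 G := by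
      rw [← H1.Cores.fittingSubgroup_eq_pCore_of 2 hO]
      exact (H26.GenFitting.component_centre_le_layer_centre hK).trans H26.GenFitting.centre_layer_le_fitting
    by_contra hne
    apply hno' (K ⊓ centralizer (K : Set G))
    · rw [Subgroup.commutator_eq_bot_iff_le_centralizer]
      intro k hk
      rw [mem_centralizer_iff]
      intro z hz
      exact (mem_centralizer_iff.1 hz.2 k hk).symm
    · have hp : IsPGroup 2 (K ⊓ centralizer (K : Set G) : Subgroup G) := (H1.Cores.isPGroup_pCore 2).to_le h1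
      obtain ⟨k, hk⟩ := IsPGroup.iff_card.mp hp
      rw [hk]
      apply dvd_pow_self
      rintro rfl
      rw [pow_zero, Subgroup.card_eq_one] at hk
      exact hne hk
  have hcen : center K = ⊥ := by
    rw [eq_bot_iff]
    intro x hx
    have h1 : (x : G) ∈ K ⊓ centralizer (K : Set G) := by
      refine mem_inf.2 ⟨x.2, mem_centralizer_iff.2 ?_⟩
      intro y hy
      exact congrArg Subtype.val (mem_center_iff.1 hx ⟨y, hy⟩)
    rw [hZ, mem_bot] at h1
    exact Subtype.ext h1
  have hsim : IsSimpleGroup K := by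
    haveI := hK.2.2
    have e : K ⧸ center K ≃* K :=
      (QuotientGroup.quotientMulEquivOfEq hcen).trans QuotientGroup.quotientBot
    exact e.symm.isSimpleGroup
  have hnc : ¬ IsMulCommutative K := by
    intro hc
    exact hKns (Group.isSolvable_of_comm fun a b => hc.is_comm.comm a b)
  have hnorm : K.Normal := by
    have hcon : ∀ g : G, K.map (MulAut.conj g).toMonoidHom = K := by
      intro g
      have h1 : IsComponent (K.map (MulAut.conj g).toMonoidHom) := (H26.Components.map_conj_iff g).2 hK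
      rcases H26.Components.eq_or_commutator_eq_bot hK h1 with h | h
      · exact h.symm
      · exfalso
        apply hno' _ h
        rw [Subgroup.card_map_of_injective (MulAut.conj g).injective]
        exact h2K
    refine ⟨fun x hx g => ?_⟩
    rw [← hcon g]
    exact ⟨x, hx, rfl⟩
  refine ⟨K, hnorm, hsim, hnc, ?_⟩
  have hCn : (centralizer (K : Set G)).Normal := inferInstance
  have h1 : ¬ 2 ∣ Nat.card (centralizer (K : Set G)) := by
    apply hno'
    rw [Subgroup.commutator_eq_bot_iff_le_centralizer]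
    intro k hk
    rw [mem_centralizer_iff]
    intro z hz
    exact (mem_centralizer_iff.1 hz k hk).symm
  rw [eq_bot_iff, ← hO]
  apply H1.Cores.le_pPrimeCore hCn
  exact ((Nat.Prime.coprime_iff_not_dvd Nat.prime_two).2 h1).symm

/-- the Sylow 2-subgroups of subgroups are abelian -/
theorem sylow_sub (S : Sylow 2 G)
    (hS : ∀ a ∈ (S : Subgroup G), ∀ b ∈ (S : Subgroup G), a * b = b * a) {K : Subgroup G} (T : Sylow 2 K) :
    ∀ a ∈ (T : Subgroup K), ∀ b ∈ (T : Subgroup K), a * b = b * a := by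
  haveI : Fact (Nat.Prime 2) := ⟨Nat.prime_two⟩
  have hp : IsPGroup 2 ((T : Subgroup K).map K.subtype) := T.2.map _
  obtain ⟨P, hP⟩ := hp.exists_le_sylow
  obtain ⟨g, hg⟩ := MulAction.exists_smul_eq G P S
  have hmem : ∀ a ∈ (T : Subgroup K), g * (a : G) * g⁻¹ ∈ (S : Subgroup G) := by
    intro a ha
    rw [← hg, Sylow.coe_subgroup_smul]
    exact Subgroup.smul_mem_pointwise_smul _ (MulAut.conj g) _ (hP ⟨a, ha, rfl⟩)
  intro a ha b hb
  apply Subtype.ext
  have h1 := hS _ (hmem a ha) _ (hmem b hb)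
  have h2 : g * ((a : G) * b) * g⁻¹ = g * ((b : G) * a) * g⁻¹ := by
    calc g * ((a : G) * b) * g⁻¹ = g * (a : G) * g⁻¹ * (g * b * g⁻¹) := by group
      _ = g * b * g⁻¹ * (g * a * g⁻¹) := h1
      _ = g * ((b : G) * a) * g⁻¹ := by group
  exact mul_left_cancel (mul_right_cancel h2)

/-- the core-free case -/
theorem core_free (main : H16.BD.BenderThm.{u, u}) (main1 : H16.BSSimple.RankOneThm.{u, u})
    (gw : H28.GW4.GW4Thm.{u}) (S : Sylow 2 G)
    (hS : ∀ a ∈ (S : Subgroup G), ∀ b ∈ (S : Subgroup G), a * b = b * a)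
    (hC : ∀ t : G, orderOf t = 2 → Group.IsSolvable ↥(centralizer ({t} : Set G)))
    (hO : pPrimeCore 2 G = ⊥) (hns : ¬ Group.IsSolvable G) :
    ∃ K : Subgroup G, K.Normal ∧ Concl K ∧ centralizer (K : Set G) = ⊥ := by
  haveI : Fact (Nat.Prime 2) := ⟨Nat.prime_two⟩
  obtain ⟨K, hn, hs, hnc, hc⟩ := exists_simple S hS hC hO hns
  refine ⟨K, hn, ?_, hc⟩
  let T : Sylow 2 K := default
  refine simple_case main main1 gw hnc T (sylow_sub S hS T) ?_
  intro t ht
  have h1 := hC (t : G) (by rw [Subgroup.orderOf_coe]; exact ht)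
  let f : centralizer ({t} : Set K) →* centralizer ({(t : G)} : Set G) :=
    (K.subtype.comp (centralizer ({t} : Set K)).subtype).codRestrict _ (by
      rintro ⟨x, hx⟩
      rw [mem_centralizer_singleton_iff] at hx ⊢
      exact congrArg Subtype.val hx)
  have hf : Function.Injective f := by
    intro x y hxy
    apply Subtype.ext
    apply Subtype.ext
    exact congrArg (fun z : centralizer ({(t : G)} : Set G) => (z : G)) hxy
  exact Group.isSolvable_of_isSolvable_injective hf

theorem solvable_conj {t g : G} (h : Group.IsSolvable ↥(centralizer ({g * t * g⁻¹} : Set G))) :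
    Group.IsSolvable ↥(centralizer ({t} : Set G)) := by
  let f : centralizer ({t} : Set G) →* centralizer ({g * t * g⁻¹} : Set G) :=
    ((MulAut.conj g).toMonoidHom.comp (centralizer ({t} : Set G)).subtype).codRestrict _ (by
      rintro ⟨x, hx⟩
      rw [mem_centralizer_singleton_iff] at hx ⊢
      show g * x * g⁻¹ * (g * t * g⁻¹) = g * t * g⁻¹ * (g * x * g⁻¹)
      calc g * x * g⁻¹ * (g * t * g⁻¹) = g * (x * t) * g⁻¹ := by group
        _ = g * (t * x) * g⁻¹ := by rw [hx]
        _ = _ := by group)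
  have hf : Function.Injective f := by
    intro x y hxy
    apply Subtype.ext
    have h1 : g * (x : G) * g⁻¹ = g * (y : G) * g⁻¹ := congrArg Subtype.val hxy
    exact mul_left_cancel (mul_right_cancel h1)
  exact Group.isSolvable_of_isSolvable_injective hf

/-- the general case -/
theorem general (main : H16.BD.BenderThm.{u, u}) (main1 : H16.BSSimple.RankOneThm.{u, u})
    (gw : H28.GW4.GW4Thm.{u}) (S : Sylow 2 G)
    (hS : ∀ a ∈ (S : Subgroup G), ∀ b ∈ (S : Subgroup G), a * b = b * a)
    (hC : ∀ t : G, orderOf t = 2 → Group.IsSolvable ↥(centralizer ({t} : Set G)))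
    (hns : ¬ Group.IsSolvable G) :
    ∃ K : Subgroup (G ⧸ pPrimeCore 2 G), K.Normal ∧ Concl K ∧ centralizer (K : Set (G ⧸ pPrimeCore 2 G)) = ⊥ := by
  haveI : Fact (Nat.Prime 2) := ⟨Nat.prime_two⟩
  have hcop : (Nat.card (pPrimeCore 2 G)).Coprime 2 := H1.Cores.coprime_card_pPrimeCore 2
  have hOs : Group.IsSolvable (pPrimeCore 2 G) := Cfsg.Agent.S0205.result (Nat.coprime_two_right.1 hcop)
  set q := QuotientGroup.mk' (pPrimeCore 2 G) with hq
  have hqs : Function.Surjective q := QuotientGroup.mk'_surjective _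
  let T : Sylow 2 (G ⧸ pPrimeCore 2 G) := S.mapSurjective hqs
  have hT : (T : Subgroup (G ⧸ pPrimeCore 2 G)) = (S : Subgroup G).map q := rfl
  refine core_free main main1 gw T ?_ ?_ (H1.Cores.pPrimeCore_quotient_pPrimeCore 2) ?_
  · rw [hT]
    rintro _ ⟨a, ha, rfl⟩ _ ⟨b, hb, rfl⟩
    rw [← map_mul, ← map_mul, hS a ha b hb]
  · intro t ht
    obtain ⟨g, hg⟩ := H5.PLocal.exists_conj_mem_sylow T ht
    obtain ⟨s, hs, hsq⟩ := hg
    apply solvable_conj (g := g)
    rw [← hsq]
    have hs2 : orderOf s = 2 := by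
      have h1 : orderOf (q s) = 2 := by
        rw [hsq, H5.Dihedral.orderOf_conj, ht]
      have h2 : s ^ 2 ∈ pPrimeCore 2 G := by
        rw [← QuotientGroup.eq_one_iff]
        change q (s ^ 2) = 1
        rw [map_pow]
        have := pow_orderOf_eq_one (q s)
        rwa [h1] at this
      have h3 : s ^ 2 = 1 := by
        obtain ⟨k, hk⟩ := S.2 ⟨s, hs⟩
        have hk' : s ^ 2 ^ k = 1 := congrArg Subtype.val hk
        have h4 : orderOf (s ^ 2) ∣ 2 ^ k := by
          apply orderOf_dvd_of_pow_eq_one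
          rw [← pow_mul, mul_comm, pow_mul, hk', one_pow]
        have h5 : orderOf (s ^ 2) ∣ Nat.card (pPrimeCore 2 G) := Subgroup.orderOf_dvd_natCard _ h2
        have h6 : orderOf (s ^ 2) = 1 := Nat.eq_one_of_dvd_coprimes (Nat.Coprime.pow_left k hcop.symm) h4 h5
        exact orderOf_eq_one_iff.1 h6
      refine orderOf_eq_prime h3 ?_
      rintro rfl
      rw [map_one, orderOf_one] at h1
      omega
    have h7 := hC s hs2
    have h8 : ¬ 2 ∣ Nat.card (pPrimeCore 2 G) := (Nat.Prime.coprime_iff_not_dvd Nat.prime_two).1 hcop.symm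
    have h9 := H26.PxQ.map_centralizer_eq (p := 2) (A := zpowers s) (N := pPrimeCore 2 G)
      (H57.Bd.isPGroup_zpowers hs2) h8
    have h10 : centralizer ((zpowers s : Subgroup G) : Set G) = centralizer {s} := by
      rw [zpowers_eq_closure, centralizer_closure]
    have h11 : centralizer (((zpowers s).map q : Subgroup _) : Set (G ⧸ pPrimeCore 2 G)) = centralizer {q s} := by
      rw [MonoidHom.map_zpowers, zpowers_eq_closure, centralizer_closure]
    rw [h10] at h9
    change centralizer (((zpowers s).map q : Subgroup _) : Set (G ⧸ pPrimeCore 2 G)) = (centralizer {s}).map q at h9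
    rw [h11] at h9
    rw [h9]
    exact Group.isSolvable_of_surjective (q.subgroupMap_surjective (centralizer {s}))
  · intro h
    apply hns
    exact Group.isSolvable_of_ker_le_range (pPrimeCore 2 G).subtype (QuotientGroup.mk' (pPrimeCore 2 G)) (by
      rw [QuotientGroup.ker_mk', Subgroup.range_subtype])

end H27.AB
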