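import Mathlib
import Cfsg.Agent.Lib.H27.AB2
import Cfsg.Agent.Lib.H18.Bender
import Cfsg.Agent.S1136

/-!
# S3188 modulo the Gorenstein-Walter theorem for Sylow 2-subgroups of order 4
-/

set_option autoImplicit false
set_option linter.unusedVariables false
set_option linter.unusedSectionVars false

namespace H27.AB

open Subgroup Cfsg

universe u

theorem rankOne : H16.BSSimple.RankOneThm.{u, u} := by
  intro G Ω _ _ _ _ a t Q h hc
  exact Cfsg.Agent.S1136.result h hc

theorem s3188 (gw : H28.GW4.GW4Thm.{u}) {G : Type u} [Group G] [Finite G]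
    (S : Sylow 2 G) (hS : IsMulCommutative ↥(S : Subgroup G))
    (hC : ∀ t : G, orderOf t = 2 → Group.IsSolvable ↥(Subgroup.centralizer ({t} : Set G))) :
    Group.IsSolvable G ∨
      ∃ (F : Type) (_ : Field F) (_ : Fintype F),
        (((Fintype.card F % 8 = 3 ∨ Fintype.card F % 8 = 5) ∧ 5 ≤ Fintype.card F) ∨
          (∃ n : ℕ, 2 ≤ n ∧ Fintype.card F = 2 ^ n)) ∧
        ∃ N : Subgroup (G ⧸ Cfsg.oddCore G), N.Normal ∧
          Nonempty (↥N ≃* Matrix.ProjectiveSpecialLinearGroup (Fin 2) F) ∧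
          Subgroup.centralizer (N : Set (G ⧸ Cfsg.oddCore G)) = ⊥ := by
  by_cases hs : Group.IsSolvable G
  · exact Or.inl hs
  · right
    have hS' : ∀ a ∈ (S : Subgroup G), ∀ b ∈ (S : Subgroup G), a * b = b * a := fun a ha b hb =>
      congrArg Subtype.val (hS.is_comm.comm (⟨a, ha⟩ : (S : Subgroup G)) ⟨b, hb⟩)
    obtain ⟨K, hn, ⟨F, iF, iFf, h1, h2⟩, hc⟩ := general H18.Bender.bender rankOne gw S hS' hC hs
    exact ⟨F, iF, iFf, h1, K, hn, h2, hc⟩

end H27.AB
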