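import Mathlib
import Cfsg.Agent.Lib.H58.PSL2V4
import Cfsg.Agent.Lib.H58.SL2Prod
import Cfsg.Agent.Lib.H70.SL2Cent

/-!
# Facts on involutions of `PSL(2,q)`, `q` odd
-/

set_option autoImplicit false
set_option linter.unusedVariables false
set_option linter.unusedSectionVars false

namespace H27.AB

open Subgroup Matrix

section psl

variable {F : Type*} [Field F] [Fintype F]

theorem lift_sq {A : SpecialLinearGroup (Fin 2) F} (h2 : (2 : F) ≠ 0)
    (h : (QuotientGroup.mk' (center (SpecialLinearGroup (Fin 2) F)) A) *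
      (QuotientGroup.mk' (center (SpecialLinearGroup (Fin 2) F)) A) = 1)
    (h1 : QuotientGroup.mk' (center (SpecialLinearGroup (Fin 2) F)) A ≠ 1) : A * A = -1 := by
  rw [← map_mul] at h
  have h3 : A * A ∈ center (SpecialLinearGroup (Fin 2) F) := (QuotientGroup.eq_one_iff _).1 h
  have h4 : A ∉ center (SpecialLinearGroup (Fin 2) F) := fun h4 => h1 ((QuotientGroup.eq_one_iff _).2 h4)
  rw [H45.SL2.mem_center_iff] at h3 h4
  rcases h3 with h3 | h3
  · exact absurd (H58.SL2Prod.eq_one_or_neg_one_of_sq h2 h3) h4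
  · exact h3

theorem psl_conj (h2 : (2 : F) ≠ 0) {a b : ProjectiveSpecialLinearGroup (Fin 2) F} (ha : a * a = 1) (ha1 : a ≠ 1)
    (hb : b * b = 1) (hb1 : b ≠ 1) : ∃ g : ProjectiveSpecialLinearGroup (Fin 2) F, g * a * g⁻¹ = b := by
  obtain ⟨A, rfl⟩ := QuotientGroup.mk'_surjective _ a
  obtain ⟨B, rfl⟩ := QuotientGroup.mk'_surjective _ b
  obtain ⟨g, hg⟩ := isConj_iff.1 (H58.SL2Prod.isConj_of_sq h2 (lift_sq h2 ha ha1) (lift_sq h2 hb hb1))
  refine ⟨QuotientGroup.mk' _ g, ?_⟩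
  rw [← map_inv, ← map_mul, ← map_mul, hg]

theorem neg_pow_odd {A : SpecialLinearGroup (Fin 2) F} {k : ℕ} (hk : Odd k) : (-A) ^ k = -(A ^ k) :=
  hk.neg_pow A

theorem psl_uniq (h2 : (2 : F) ≠ 0) {x f f' : ProjectiveSpecialLinearGroup (Fin 2) F} (hx : Odd (orderOf x)) (hx1 : x ≠ 1)
    (hf : f * f = 1) (hf1 : f ≠ 1) (hf' : f' * f' = 1) (hf1' : f' ≠ 1) (hxf : f * x = x * f)
    (hxf' : f' * x = x * f') : f = f' := by
  set π := QuotientGroup.mk' (center (SpecialLinearGroup (Fin 2) F)) with hπ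
  have hneg : (-1 : SpecialLinearGroup (Fin 2) F) ≠ 1 := H58.SL2Prod.neg_one_ne_one h2
  have hπ1 : ∀ X, π X = 1 ↔ X = 1 ∨ X = -1 := by
    intro X
    rw [← H45.SL2.mem_center_iff]
    exact QuotientGroup.eq_one_iff _
  -- a lift of odd order
  obtain ⟨X, hX, hXk⟩ : ∃ X, π X = x ∧ X ^ orderOf x = 1 := by
    obtain ⟨X0, hX0⟩ := QuotientGroup.mk'_surjective _ x
    have h1 : π (X0 ^ orderOf x) = 1 := by
      rw [map_pow]
      change (QuotientGroup.mk' _ X0) ^ orderOf x = 1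
      rw [hX0, pow_orderOf_eq_one]
    rcases (hπ1 _).1 h1 with h | h
    · exact ⟨X0, hX0, h⟩
    · refine ⟨-X0, ?_, ?_⟩
      · have h3 : π (-1) = 1 := (hπ1 _).2 (Or.inr rfl)
        have h4 : (-X0) = (-1) * X0 := by rw [neg_mul, one_mul]
        rw [h4, map_mul, h3, one_mul]
        exact hX0
      · rw [neg_pow_odd hx, h, neg_neg]
  have hXns : ¬ (X.1 0 1 = 0 ∧ X.1 1 0 = 0 ∧ X.1 0 0 = X.1 1 1) := by
    rintro ⟨h3, h4, h5⟩
    apply hx1
    rw [← hX]
    exact (hπ1 _).2 (H45.SL2.scalar_iff h3 h4 h5)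
  have key : ∀ f : ProjectiveSpecialLinearGroup (Fin 2) F, f * f = 1 → f ≠ 1 → f * x = x * f →
      ∃ Y, π Y = f ∧ Y * Y = -1 ∧ X * Y = Y * X := by
    intro f hf hf1 hxf
    obtain ⟨Y, hY⟩ := QuotientGroup.mk'_surjective _ f
    refine ⟨Y, hY, lift_sq h2 (by rw [hY]; exact hf) (by rw [hY]; exact hf1), ?_⟩
    rcases H58.PSL2V4.sg_of_mk Y X (by
      change QuotientGroup.mk' _ Y * π X = π X * QuotientGroup.mk' _ Y
      rw [hY, hX]; exact hxf) with h | h
    · rw [mul_inv_eq_iff_eq_mul] at h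
      exact h.symm
    · exfalso
      have h5 : (Y * X * Y⁻¹) ^ orderOf x = 1 := by rw [conj_pow, hXk]; group
      rw [h, neg_pow_odd hx, hXk] at h5
      exact hneg h5
  obtain ⟨Y, hY, hYY, hXY⟩ := key f hf hf1 hxf
  obtain ⟨Z, hZ, hZZ, hXZ⟩ := key f' hf' hf1' hxf'
  have hcom : Y * Z = Z * Y := by
    apply Subtype.ext
    exact H70.SL2Cent.comm_of_comm hXns (congrArg Subtype.val hXY) (congrArg Subtype.val hXZ)
  have h5 : (Y * Z) * (Y * Z) = 1 := by
    calc (Y * Z) * (Y * Z) = Y * (Z * Y) * Z := by group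
      _ = Y * (Y * Z) * Z := by rw [hcom]
      _ = (Y * Y) * (Z * Z) := by group
      _ = 1 := by rw [hYY, hZZ, neg_mul_neg, one_mul]
  have h6 : f * f' = 1 := by
    rw [← hY, ← hZ, ← map_mul]
    exact (hπ1 _).2 (H58.SL2Prod.eq_one_or_neg_one_of_sq h2 h5)
  exact mul_right_cancel (h6.trans hf'.symm)

end psl

end H27.AB
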