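import Mathlib
import Cfsg.Agent.Lib.H27.AB2
import Cfsg.Agent.Lib.H27.AB5
import Cfsg.Agent.Lib.H59.OddInv
import Cfsg.Agent.Lib.H58.SL2Prod

/-!
# Abelian Sylow 2-subgroups, `C(t) = ⟨t⟩ × E`, `PSL(2,q) ≤ E ≤ Aut PSL(2,q)`: local structure
-/

set_option autoImplicit false
set_option linter.unusedVariables false
set_option linter.unusedSectionVars false
set_option linter.style.haveILetI false

namespace H27.AB

open Subgroup Cfsg

universe u

variable {G : Type u} [Group G] [Finite G]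

theorem odd_order {D : Subgroup G} (ho : Odd (Nat.card D)) {x : G} (hx : x ∈ D) : Odd (orderOf x) := by
  have h := _root_.orderOf_dvd_natCard (⟨x, hx⟩ : D)
  rw [Subgroup.orderOf_mk] at h
  exact Odd.of_dvd_nat ho h

theorem eq_one_of_sq {x : G} (ho : Odd (orderOf x)) (h : x * x = 1) : x = 1 := by
  have h1 : orderOf x ∣ 2 := orderOf_dvd_of_pow_eq_one (by rw [pow_two, h])
  rcases (Nat.dvd_prime Nat.prime_two).1 h1 with h2 | h2
  · exact orderOf_eq_one_iff.1 h2
  · rw [h2] at ho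
    exact absurd ho (by decide)

/-- the star lemma -/
theorem star {L D : Subgroup G} (hL : PF L) (hDL : D ≤ L) (ho : Odd (Nat.card D)) {e : G} (he : e ∈ L)
    (hee : e * e = 1) (he1 : e ≠ 1) (hinv : ∀ x ∈ D, e * x * e⁻¹ = x⁻¹)
    (hn : ∀ y ∈ L, y * e = e * y → y ∈ normalizer (D : Set G)) : D = ⊥ := by
  by_contra hne
  have hei : e⁻¹ = e := inv_eq_of_mul_eq_one_left hee
  have hcm : ∀ x ∈ D, ∀ y ∈ D, x * y = y * x := by
    intro x hx y hy
    have h1 := hinv (y * x) (mul_mem hy hx)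
    have h2 : e * (y * x) * e⁻¹ = (e * y * e⁻¹) * (e * x * e⁻¹) := by group
    rw [h2, hinv y hy, hinv x hx, ← mul_inv_rev, inv_inj] at h1
    exact h1
  obtain ⟨f, hf, hff, hf1, hfe, hef⟩ := hL.four e he hee he1
  have hfi : f⁻¹ = f := inv_eq_of_mul_eq_one_left hff
  have hfN := hn f hf hef.symm
  have heN := hn e he rfl
  have hefef : (e * f) * (e * f) = 1 := by
    calc (e * f) * (e * f) = e * (f * e) * f := by group
      _ = e * (e * f) * f := by rw [hef]
      _ = (e * e) * (f * f) := by group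
      _ = 1 := by rw [hee, hff, one_mul]
  have hef1 : e * f ≠ 1 := by
    intro h
    apply hfe
    have : f = e⁻¹ := eq_inv_of_mul_eq_one_right h
    rw [this, hei]
  have hA : ∃ f' ∈ L, f' * f' = 1 ∧ f' ≠ 1 ∧ ∀ x ∈ D, f' * x = x * f' := by
    by_cases h1 : ∀ x ∈ D, f * x = x * f → x = 1
    · have h2 := H59.OddInv.inverts_of_fixedPointFree D f (by rw [pow_two]; exact hff) hfN h1
      refine ⟨e * f, mul_mem he hf, hefef, hef1, ?_⟩
      intro x hx
      have h3 : (e * f) * x * (e * f)⁻¹ = x := by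
        calc (e * f) * x * (e * f)⁻¹ = e * (f * x * f⁻¹) * e⁻¹ := by group
          _ = e * x⁻¹ * e⁻¹ := by rw [h2 x hx]
          _ = (e * x * e⁻¹)⁻¹ := by group
          _ = x := by rw [hinv x hx, inv_inv]
      exact mul_inv_eq_iff_eq_mul.1 h3
    · push Not at h1
      obtain ⟨x, hx, hfx, hx1⟩ := h1
      by_cases h2 : ∀ z ∈ D, (e * f) * z = z * (e * f) → z = 1
      · have h3 := H59.OddInv.inverts_of_fixedPointFree D (e * f) (by rw [pow_two]; exact hefef)
          (mul_mem heN hfN) h2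
        refine ⟨f, hf, hff, hf1, ?_⟩
        intro y hy
        have h4 : f * y * f⁻¹ = y := by
          calc f * y * f⁻¹ = e⁻¹ * ((e * f) * y * (e * f)⁻¹) * e := by group
            _ = e⁻¹ * y⁻¹ * e := by rw [h3 y hy]
            _ = e * y⁻¹ * e⁻¹ := by rw [hei]
            _ = (e * y * e⁻¹)⁻¹ := by group
            _ = y := by rw [hinv y hy, inv_inv]
        exact mul_inv_eq_iff_eq_mul.1 h4
      · exfalso
        push Not at h2
        obtain ⟨z, hz, hfz, hz1⟩ := h2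
        have h3 : f = z * f * z⁻¹ := by
          refine hL.un x (hDL hx) (odd_order ho hx) hx1 f hf hff hf1 (z * f * z⁻¹)
            (mul_mem (mul_mem (hDL hz) hf) (inv_mem (hDL hz))) ?_ ?_ hfx ?_
          · calc z * f * z⁻¹ * (z * f * z⁻¹) = z * (f * f) * z⁻¹ := by group
              _ = 1 := by rw [hff]; group
          · intro h
            apply hf1
            have : f = z⁻¹ * (z * f * z⁻¹) * z := by group
            rw [this, h]; group
          · have hzx := hcm z hz x hx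
            have hzx' : z⁻¹ * x = x * z⁻¹ := by
              rw [inv_mul_eq_iff_eq_mul, ← mul_assoc, hzx, mul_inv_cancel_right]
            calc z * f * z⁻¹ * x = z * f * (z⁻¹ * x) := by group
              _ = z * (f * x) * z⁻¹ := by rw [hzx']; group
              _ = (z * x) * f * z⁻¹ := by rw [hfx]; group
              _ = x * (z * f * z⁻¹) := by rw [hzx]; group
        have h4 : f * z = z * f := by
          calc f * z = (z * f * z⁻¹) * z := by rw [← h3]
            _ = z * f := by group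
        have h5 : e * z = z * e := by
          have h6 : e * z * f = z * e * f := by
            calc e * z * f = e * (z * f) := by group
              _ = e * (f * z) := by rw [h4]
              _ = (e * f) * z := by group
              _ = z * e * f := by rw [hfz]; group
          exact mul_right_cancel h6
        have h6 := hinv z hz
        rw [h5, mul_inv_cancel_right] at h6
        apply hz1
        apply eq_one_of_sq (odd_order ho hz)
        calc z * z = z * z⁻¹ := by rw [← h6]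
          _ = 1 := mul_inv_cancel z
  obtain ⟨f', hf', hff', hf1', hc⟩ := hA
  obtain ⟨x, hx, hx1⟩ : ∃ x ∈ D, x ≠ 1 := by
    by_contra h
    push Not at h
    exact hne ((Subgroup.eq_bot_iff_forall _).2 h)
  have hle : ∀ y ∈ L, y * e = e * y → y * f' = f' * y := by
    intro y hy hye
    have hyN := hn y hy hye
    have h3 : f' = y * f' * y⁻¹ := by
      refine hL.un x (hDL hx) (odd_order ho hx) hx1 f' hf' hff' hf1' (y * f' * y⁻¹)
        (mul_mem (mul_mem hy hf') (inv_mem hy)) ?_ ?_ (hc x hx) ?_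
      · calc y * f' * y⁻¹ * (y * f' * y⁻¹) = y * (f' * f') * y⁻¹ := by group
          _ = 1 := by rw [hff']; group
      · intro h
        apply hf1'
        have : f' = y⁻¹ * (y * f' * y⁻¹) * y := by group
        rw [this, h]; group
      · have h4 : y⁻¹ * x * y ∈ D := by
          have := (mem_normalizer_iff.1 (inv_mem hyN) x).1 hx
          rwa [inv_inv] at this
        have h5 := hc _ h4
        calc y * f' * y⁻¹ * x = y * (f' * (y⁻¹ * x * y)) * y⁻¹ := by group
          _ = y * ((y⁻¹ * x * y) * f') * y⁻¹ := by rw [h5]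
          _ = x * (y * f' * y⁻¹) := by group
    calc y * f' = (y * f' * y⁻¹) * y := by group
      _ = f' * y := by rw [← h3]
  obtain ⟨g, hg, hge⟩ := hL.cj e he f' hf' hee he1 hff' hf1'
  have hcard : L ⊓ centralizer ({e} : Set G) = L ⊓ centralizer ({f'} : Set G) := by
    apply Subgroup.eq_of_le_of_card_ge
    · intro y hy
      obtain ⟨h1, h2⟩ := mem_inf.1 hy
      rw [mem_centralizer_singleton_iff] at h2
      refine mem_inf.2 ⟨h1, ?_⟩
      rw [mem_centralizer_singleton_iff]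
      exact hle y h1 h2
    · have hm : ∀ y : (L ⊓ centralizer ({f'} : Set G) : Subgroup G), g⁻¹ * y * g ∈ (L ⊓ centralizer ({e} : Set G) : Subgroup G) := by
        rintro ⟨y, hy⟩
        obtain ⟨h1, h2⟩ := mem_inf.1 hy
        rw [mem_centralizer_singleton_iff] at h2
        refine mem_inf.2 ⟨mul_mem (mul_mem (inv_mem hg) h1) hg, ?_⟩
        rw [mem_centralizer_singleton_iff]
        show g⁻¹ * y * g * e = e * (g⁻¹ * y * g)
        calc g⁻¹ * y * g * e = g⁻¹ * (y * (g * e * g⁻¹)) * g := by group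
          _ = g⁻¹ * ((g * e * g⁻¹) * y) * g := by rw [hge, h2]
          _ = e * (g⁻¹ * y * g) := by group
      apply Nat.card_le_card_of_injective (fun y : (L ⊓ centralizer ({f'} : Set G) : Subgroup G) =>
        (⟨g⁻¹ * (y : G) * g, hm y⟩ : (L ⊓ centralizer ({e} : Set G) : Subgroup G)))
      intro a b hab
      have h1 : g⁻¹ * (a : G) * g = g⁻¹ * (b : G) * g := congrArg Subtype.val hab
      exact Subtype.ext (mul_left_cancel (mul_right_cancel h1))
  have hxc : x ∈ L ⊓ centralizer ({e} : Set G) := by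
    rw [hcard]
    refine mem_inf.2 ⟨hDL hx, ?_⟩
    rw [mem_centralizer_singleton_iff]
    exact (hc x hx).symm
  have hxe := (mem_inf.1 hxc).2
  rw [mem_centralizer_singleton_iff] at hxe
  have h6 := hinv x hx
  rw [← hxe, mul_inv_cancel_right] at h6
  apply hx1
  apply eq_one_of_sq (odd_order ho hx)
  calc x * x = x * x⁻¹ := by rw [← h6]
    _ = 1 := mul_inv_cancel x

/-- the configuration `C(t) = ⟨t⟩ × E`, `L ⊴ E`, `C_E(L) = 1`, `L ≅ PSL(2,q)` -/
structure Cf (t : G) (E L : Subgroup G) : Prop where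
  ht : orderOf t = 2
  dec : ∀ c, c * t = t * c → c ∈ E ∨ c * t ∈ E
  tE : t ∉ E
  EC : ∀ x ∈ E, x * t = t * x
  LE : L ≤ E
  nL : ∀ x ∈ E, ∀ l ∈ L, x * l * x⁻¹ ∈ L
  cL : ∀ x ∈ E, (∀ l ∈ L, x * l = l * x) → x = 1
  pf : PF L

theorem Cf.tt {t : G} {E L : Subgroup G} (c : Cf t E L) : t * t = 1 := by
  rw [← pow_two, ← c.ht, pow_orderOf_eq_one]

/-- conjugation by elements of `C(t)` preserves `L` -/
theorem Cf.nC {t : G} {E L : Subgroup G} (c : Cf t E L) {x : G} (hx : x * t = t * x) {l : G} (hl : l ∈ L) :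
    x * l * x⁻¹ ∈ L := by
  rcases c.dec x hx with h | h
  · exact c.nL x h l hl
  · have h1 := c.nL _ h l hl
    have h2 := c.EC l (c.LE hl)
    have h3 : x * t * l * (x * t)⁻¹ = x * l * x⁻¹ := by
      calc x * t * l * (x * t)⁻¹ = x * (t * l) * t⁻¹ * x⁻¹ := by group
        _ = x * l * x⁻¹ := by rw [← h2]; group
    rwa [h3] at h1

theorem Cf.two_mem {t : G} {E L : Subgroup G} (c : Cf t E L) (S : Sylow 2 G)
    (hS : ∀ a ∈ (S : Subgroup G), ∀ b ∈ (S : Subgroup G), a * b = b * a) {x : G} (hx : x ∈ E)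
    (hp : IsPGroup 2 (zpowers x)) : x ∈ L := by
  set H := L ⊔ zpowers x with hH
  have hHE : H ≤ E := sup_le c.LE (zpowers_le.2 hx)
  have hLH : L ≤ H := le_sup_left
  have hZH : zpowers x ≤ H := le_sup_right
  have hxH : x ∈ H := hZH (mem_zpowers x)
  haveI hn : (L.subgroupOf H).Normal := ⟨fun l hl g => by
    rw [mem_subgroupOf] at hl ⊢
    exact c.nL g (hHE g.2) l hl⟩
  have hp' : IsPGroup 2 (zpowers (⟨x, hxH⟩ : H)) := by
    have h1 : zpowers (⟨x, hxH⟩ : H) ≤ (zpowers x).subgroupOf H := by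
      rw [zpowers_le, mem_subgroupOf]; exact mem_zpowers x
    exact IsPGroup.to_le (hp.comap_subtype) h1
  obtain ⟨P, hP⟩ := hp'.exists_le_sylow
  have h1 := sylow_le_of_normal (L.subgroupOf H) ?_ ?_ ?_ P (sylow_sub S hS P)
  · exact h1 (hP (mem_zpowers _))
  · intro D hD hDL ho
    have h2 : D.map H.subtype = ⊥ := by
      apply c.pf.core
      · rintro _ ⟨y, hy, rfl⟩
        exact hDL hy
      · intro l hl
        apply H75.Basic.mem_normalizer_of_conj_mem
        rintro _ ⟨y, hy, rfl⟩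
        exact ⟨_, hD.conj_mem y hy ⟨l, hLH hl⟩, rfl⟩
      · rw [Subgroup.card_map_of_injective (Subgroup.subtype_injective _)]; exact ho
    rw [Subgroup.map_eq_bot_iff_of_injective _ (Subgroup.subtype_injective _)] at h2
    exact h2
  · intro y hy
    apply Subtype.ext
    exact c.cL y (hHE y.2) (fun l hl => congrArg Subtype.val (hy ⟨l, hLH hl⟩ hl))
  · refine Subgroup.Normal.commutator_le_of_self_sup_commutative_eq_top (H := zpowers (⟨x, hxH⟩ : H)) ?_ ?_
    · rw [eq_top_iff]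
      rintro ⟨y, hy⟩ -
      have h2 : H ≤ (L.subgroupOf H ⊔ zpowers (⟨x, hxH⟩ : H)).map H.subtype := by
        conv_lhs => rw [hH]
        refine sup_le ?_ ?_
        · intro l hl
          exact ⟨⟨l, hLH hl⟩, (le_sup_left : L.subgroupOf H ≤ _) hl, rfl⟩
        · rw [zpowers_le]
          exact ⟨⟨x, hxH⟩, (le_sup_right : zpowers (⟨x, hxH⟩ : H) ≤ _) (mem_zpowers _), rfl⟩
      obtain ⟨z, hz, hzy⟩ := h2 hy
      have h3 : z = ⟨y, hy⟩ := Subtype.ext hzy
      rw [← h3]; exact hz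
    · infer_instance

theorem Cf.two_mem' {t : G} {E L : Subgroup G} (c : Cf t E L) (T : Sylow 2 G)
    (hT : ∀ a ∈ (T : Subgroup G), ∀ b ∈ (T : Subgroup G), a * b = b * a) {x : G} (hx : x ∈ E)
    (hxT : x ∈ (T : Subgroup G)) : x ∈ L :=
  c.two_mem T hT hx (T.2.to_le (zpowers_le.2 hxT))

/-- `T = ⟨t⟩ × (T ⊓ L)` -/
theorem Cf.decT {t : G} {E L : Subgroup G} (c : Cf t E L) (T : Sylow 2 G)
    (hT : ∀ a ∈ (T : Subgroup G), ∀ b ∈ (T : Subgroup G), a * b = b * a) (htT : t ∈ (T : Subgroup G))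
    {x : G} (hxT : x ∈ (T : Subgroup G)) : x ∈ L ∨ ∃ v ∈ (T : Subgroup G), v ∈ L ∧ x = t * v := by
  rcases c.dec x (hT x hxT t htT) with h | h
  · exact Or.inl (c.two_mem' T hT h hxT)
  · right
    have h1 : x * t ∈ (T : Subgroup G) := mul_mem hxT htT
    refine ⟨x * t, h1, c.two_mem' T hT h h1, ?_⟩
    rw [hT x hxT t htT, ← mul_assoc, c.tt, one_mul]

theorem Cf.trace {t : G} {E L : Subgroup G} (c : Cf t E L) (T : Sylow 2 G)
    (hT : ∀ a ∈ (T : Subgroup G), ∀ b ∈ (T : Subgroup G), a * b = b * a) (htT : t ∈ (T : Subgroup G)) :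
    ∃ Q : Sylow 2 L, (Q : Subgroup L) = (T : Subgroup G).subgroupOf L := by
  haveI : Fact (Nat.Prime 2) := ⟨Nat.prime_two⟩
  have hV2 : IsPGroup 2 ((T : Subgroup G).subgroupOf L) := T.2.comap_subtype
  obtain ⟨Q, hQ⟩ := hV2.exists_le_sylow
  refine ⟨Q, (Subgroup.eq_of_le_of_card_ge hQ ?_).symm⟩
  have hTC : (T : Subgroup G) ≤ centralizer ({t} : Set G) := le_centralizer hT htT
  have hQC : (Q : Subgroup L).map L.subtype ≤ centralizer ({t} : Set G) := by
    rintro _ ⟨q, -, rfl⟩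
    rw [mem_centralizer_singleton_iff]
    exact c.EC q (c.LE q.2)
  have hSi : ¬ 2 ∣ (T : Subgroup G).relIndex (centralizer ({t} : Set G)) := by
    intro h
    exact T.not_dvd_index (h.trans (Subgroup.relIndex_dvd_index_of_le hTC))
  obtain ⟨h, hh, hhQ⟩ := H58.Rel.exists_conj_mem_sylowOf hQC (Q.isPGroup'.map L.subtype) T.isPGroup' hSi
  rw [mem_centralizer_singleton_iff] at hh
  have hm : ∀ q : (Q : Subgroup L), (⟨h * ((q : L) : G) * h⁻¹, c.nC hh (q : L).2⟩ : L) ∈ (T : Subgroup G).subgroupOf L := by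
    intro q
    rw [mem_subgroupOf]
    exact hhQ _ ⟨q, q.2, rfl⟩
  apply Nat.card_le_card_of_injective (fun q : (Q : Subgroup L) =>
    (⟨⟨h * ((q : L) : G) * h⁻¹, c.nC hh (q : L).2⟩, hm q⟩ : (T : Subgroup G).subgroupOf L))
  intro a b hab
  have h1 : h * ((a : L) : G) * h⁻¹ = h * ((b : L) : G) * h⁻¹ :=
    congrArg (fun z : (T : Subgroup G).subgroupOf L => (((z : L) : G))) hab
  exact Subtype.ext (Subtype.ext (mul_left_cancel (mul_right_cancel h1)))

theorem Cf.card_V {t : G} {E L : Subgroup G} (c : Cf t E L) (T : Sylow 2 G)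
    (hT : ∀ a ∈ (T : Subgroup G), ∀ b ∈ (T : Subgroup G), a * b = b * a) (htT : t ∈ (T : Subgroup G))
    {F : Type*} [Field F] [Fintype F] (hF : Odd (Fintype.card F))
    (e : L ≃* Matrix.ProjectiveSpecialLinearGroup (Fin 2) F) :
    Nat.card ((T : Subgroup G) ⊓ L : Subgroup G) = 4 ∧ ∀ x ∈ (T : Subgroup G), x ∈ L → x * x = 1 := by
  haveI : Fact (Nat.Prime 2) := ⟨Nat.prime_two⟩
  obtain ⟨Q, hQ⟩ := c.trace T hT htT
  let R : Sylow 2 (Matrix.ProjectiveSpecialLinearGroup (Fin 2) F) := Q.mapSurjective (f := e.toMonoidHom) e.surjective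
  have hQm : ∀ {a : L}, a ∈ (Q : Subgroup L) ↔ (a : G) ∈ (T : Subgroup G) := by
    intro a; rw [hQ, mem_subgroupOf]
  have hRc : IsMulCommutative (R : Subgroup (Matrix.ProjectiveSpecialLinearGroup (Fin 2) F)) := by
    refine ⟨⟨?_⟩⟩
    rintro ⟨x, a, ha, rfl⟩ ⟨y, b, hb, rfl⟩
    apply Subtype.ext
    show e a * e b = e b * e a
    rw [← map_mul, ← map_mul]
    congr 1
    exact Subtype.ext (hT a (hQm.1 ha) b (hQm.1 hb))
  obtain ⟨hR4, hRs⟩ := H58.PSL2V4.sylow_two (two_ne_zero' hF) R hRc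
  constructor
  · have h1 : Nat.card (Q : Subgroup L) = 4 := by
      rw [← hR4]
      exact (Subgroup.card_map_of_injective (f := e.toMonoidHom) e.injective).symm
    rw [← h1, hQ, ← Subgroup.card_map_of_injective (Subgroup.subtype_injective L), Subgroup.subgroupOf_map_subtype]
  · intro x hx hxL
    have h1 := hRs (e ⟨x, hxL⟩) ⟨⟨x, hxL⟩, hQm.2 hx, rfl⟩
    rw [← map_mul] at h1
    have h2 : (⟨x, hxL⟩ : L) * ⟨x, hxL⟩ = 1 := e.injective (by rw [h1, map_one])
    exact congrArg Subtype.val h2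

/-- involutions of `T ⊓ L` are conjugate in `L ⊓ N(T)` -/
theorem Cf.conj_N {t : G} {E L : Subgroup G} (c : Cf t E L) (T : Sylow 2 G)
    (hT : ∀ a ∈ (T : Subgroup G), ∀ b ∈ (T : Subgroup G), a * b = b * a) (htT : t ∈ (T : Subgroup G))
    {a b : G} (ha : a ∈ (T : Subgroup G)) (haL : a ∈ L) (hb : b ∈ (T : Subgroup G)) (hbL : b ∈ L)
    (haa : a * a = 1) (ha1 : a ≠ 1) (hbb : b * b = 1) (hb1 : b ≠ 1) :
    ∃ n ∈ L, n ∈ normalizer ((T : Subgroup G) : Set G) ∧ n * a * n⁻¹ = b := by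
  haveI : Fact (Nat.Prime 2) := ⟨Nat.prime_two⟩
  obtain ⟨Q, hQ⟩ := c.trace T hT htT
  have hQm : ∀ {a : L}, a ∈ (Q : Subgroup L) ↔ (a : G) ∈ (T : Subgroup G) := by
    intro a; rw [hQ, mem_subgroupOf]
  haveI hQc : IsMulCommutative (Q : Subgroup L) :=
    ⟨⟨fun x y => Subtype.ext (Subtype.ext (hT _ (hQm.1 x.2) _ (hQm.1 y.2)))⟩⟩
  obtain ⟨g, hg, hgab⟩ := c.pf.cj a haL b hbL haa ha1 hbb hb1
  obtain ⟨n, hn, hne⟩ := Sylow.conj_eq_normalizer_conj_of_mem Q (⟨a, haL⟩ : L) (⟨g, hg⟩ : L)⁻¹ (hQm.2 ha) (by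
    rw [inv_inv]
    apply hQm.2
    show g * a * g⁻¹ ∈ (T : Subgroup G)
    rw [hgab]; exact hb)
  rw [inv_inv] at hne
  have hne' : g * a * g⁻¹ = (n : G)⁻¹ * a * n := congrArg Subtype.val hne
  refine ⟨(n : G)⁻¹, inv_mem n.2, ?_, ?_⟩
  · apply H75.Basic.mem_normalizer_of_conj_mem
    have h1 : ∀ v ∈ (T : Subgroup G), v ∈ L → (n : G)⁻¹ * v * (n : G)⁻¹⁻¹ ∈ (T : Subgroup G) := by
      intro v hv hvL
      have h2 := (mem_normalizer_iff.1 (inv_mem hn) ⟨v, hvL⟩).1 (hQm.2 hv)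
      exact hQm.1 h2
    intro x hx
    rcases c.decT T hT htT hx with h | ⟨v, hv, hvL, rfl⟩
    · exact h1 x hx h
    · have h2 := h1 v hv hvL
      have h3 := c.EC n (c.LE n.2)
      have h4 : (n : G)⁻¹ * (t * v) * (n : G)⁻¹⁻¹ = t * ((n : G)⁻¹ * v * (n : G)⁻¹⁻¹) := by
        have h5 : (n : G)⁻¹ * t = t * (n : G)⁻¹ := by
          rw [inv_mul_eq_iff_eq_mul, ← mul_assoc, h3, mul_inv_cancel_right]
        calc (n : G)⁻¹ * (t * v) * (n : G)⁻¹⁻¹ = ((n : G)⁻¹ * t) * v * (n : G)⁻¹⁻¹ := by group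
          _ = _ := by rw [h5]; group
      rw [h4]
      exact mul_mem htT h2
  · rw [inv_inv, ← hne', hgab]

end H27.AB
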