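import Mathlib
import Cfsg.Agent.Lib.H27.AB6
import Cfsg.Agent.Lib.H27.AB3
import Cfsg.Agent.Lib.H5.ZStar
import Cfsg.Agent.Lib.H59.Fus1
import Cfsg.Agent.Lib.H58.AbSyl
import Cfsg.Agent.Lib.H70.SL2Cent

/-!
# S1245: `C(t) = ⟨t⟩ × E` is maximal
-/

set_option autoImplicit false
set_option linter.unusedVariables false
set_option linter.unusedSectionVars false
set_option linter.style.haveILetI false

namespace H27.AB

open Subgroup Cfsg

universe u

variable {G : Type u} [Group G] [Finite G]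

theorem odd_class (T : Sylow 2 G) {K : Subgroup G} (hTK : (T : Subgroup G) ≤ K) {t : G}
    (ht : ∀ x ∈ (T : Subgroup G), x * t = t * x) :
    Odd (Set.ncard {x : G | ∃ k ∈ K, k * t * k⁻¹ = x}) := by
  haveI : Fact (Nat.Prime 2) := ⟨Nat.prime_two⟩
  let act : MulAction K G := MulAction.compHom G (MulAut.conj.comp K.subtype)
  have h1 : @MulAction.orbit K G act.toSMul t = {x : G | ∃ k ∈ K, k * t * k⁻¹ = x} := by
    ext x
    constructor
    · rintro ⟨k, rfl⟩
      exact ⟨k, k.2, rfl⟩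
    · rintro ⟨k, hk, rfl⟩
      exact ⟨⟨k, hk⟩, rfl⟩
  have h2 := @MulAction.index_stabilizer K G _ act t
  rw [h1] at h2
  rw [← h2]
  have h3 : (T : Subgroup G).subgroupOf K ≤ @MulAction.stabilizer K G _ act t := by
    intro x hx
    rw [mem_subgroupOf] at hx
    rw [MulAction.mem_stabilizer_iff]
    show (x : G) * t * (x : G)⁻¹ = t
    rw [ht x hx, mul_inv_cancel_right]
  have h4 : (@MulAction.stabilizer K G _ act t).index ∣ (T : Subgroup G).index :=
    (Subgroup.index_dvd_of_le h3).trans (Subgroup.relIndex_dvd_index_of_le hTK)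
  refine Odd.of_dvd_nat ?_ h4
  rw [← Nat.not_even_iff_odd, even_iff_two_dvd]
  exact T.not_dvd_index

theorem burn (T : Sylow 2 G) (hT : ∀ a ∈ (T : Subgroup G), ∀ b ∈ (T : Subgroup G), a * b = b * a)
    {M : Subgroup G} (hTM : (T : Subgroup G) ≤ M) {a g : G} (ha : a ∈ (T : Subgroup G)) (hg : g ∈ M)
    (hga : g * a * g⁻¹ ∈ (T : Subgroup G)) :
    ∃ n ∈ M ⊓ normalizer ((T : Subgroup G) : Set G), n * a * n⁻¹ = g * a * g⁻¹ := by
  haveI : Fact (Nat.Prime 2) := ⟨Nat.prime_two⟩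
  have hm : ∀ {x : M}, x ∈ ((T.subtype hTM : Sylow 2 M) : Subgroup M) ↔ (x : G) ∈ (T : Subgroup G) := by
    intro x; rw [Sylow.coe_subtype, mem_subgroupOf]
  haveI : IsMulCommutative ((T.subtype hTM : Sylow 2 M) : Subgroup M) :=
    ⟨⟨fun x y => Subtype.ext (Subtype.ext (hT _ (hm.1 x.2) _ (hm.1 y.2)))⟩⟩
  obtain ⟨n, hn, hne⟩ := Sylow.conj_eq_normalizer_conj_of_mem (T.subtype hTM) (⟨a, hTM ha⟩ : M) (⟨g, hg⟩ : M)⁻¹
    (hm.2 ha) (by
      rw [inv_inv]
      exact hm.2 hga)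
  rw [inv_inv] at hne
  have hne' : g * a * g⁻¹ = (n : G)⁻¹ * a * n := congrArg Subtype.val hne
  refine ⟨(n : G)⁻¹, mem_inf.2 ⟨inv_mem n.2, ?_⟩, by rw [inv_inv, hne']⟩
  apply H75.Basic.mem_normalizer_of_conj_mem
  intro y hy
  have := (mem_normalizer_iff.1 (inv_mem hn) ⟨y, hTM hy⟩).1 (hm.2 hy)
  exact hm.1 this

theorem Cf.dicho {t : G} {E L : Subgroup G} (c : Cf t E L) (T : Sylow 2 G)
    (hT : ∀ a ∈ (T : Subgroup G), ∀ b ∈ (T : Subgroup G), a * b = b * a) (htT : t ∈ (T : Subgroup G))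
    (h4 : Nat.card ((T : Subgroup G) ⊓ L : Subgroup G) = 4) (hsq : ∀ x ∈ (T : Subgroup G), x ∈ L → x * x = 1)
    {M : Subgroup G} (hM : centralizer ({t} : Set G) ≤ M) :
    (∀ g ∈ M, g * t * g⁻¹ ∈ (T : Subgroup G) → g * t * g⁻¹ = t) ∨
    (∀ s ∈ (T : Subgroup G), s ≠ 1 → ∃ n ∈ M ⊓ normalizer ((T : Subgroup G) : Set G), n * t * n⁻¹ = s) := by
  have hTM : (T : Subgroup G) ≤ M := (le_centralizer hT htT).trans hM
  have ht1 : t ≠ 1 := by intro h; have := c.ht; rw [h, orderOf_one] at this; omega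
  set K := M ⊓ normalizer ((T : Subgroup G) : Set G) with hK
  have hTK : (T : Subgroup G) ≤ K := le_inf hTM le_normalizer
  have hodd := odd_class T hTK (fun x hx => hT x hx t htT)
  set O : Set G := {x : G | ∃ k ∈ K, k * t * k⁻¹ = x} with hO
  have hOT : ∀ x ∈ O, x ∈ (T : Subgroup G) := by
    rintro x ⟨k, hk, rfl⟩
    exact (mem_normalizer_iff.1 (mem_inf.1 hk).2 t).1 htT
  have hO1 : ∀ x ∈ O, x ≠ 1 := by
    rintro x ⟨k, hk, rfl⟩ h
    apply ht1
    have : t = k⁻¹ * (k * t * k⁻¹) * k := by group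
    rw [this, h]; group
  have htO : t ∈ O := ⟨1, one_mem _, by group⟩
  have hcj : ∀ x ∈ O, ∀ n ∈ K, n * x * n⁻¹ ∈ O := by
    rintro x ⟨k, hk, rfl⟩ n hn
    exact ⟨n * k, mul_mem hn hk, by group⟩
  -- elements of `L ⊓ N(T)` lie in `K`
  have hLK : ∀ n ∈ L, n ∈ normalizer ((T : Subgroup G) : Set G) → n ∈ K := by
    intro n hn hnN
    refine mem_inf.2 ⟨hM ?_, hnN⟩
    rw [mem_centralizer_singleton_iff]
    exact c.EC n (c.LE hn)
  have hVa : (∃ v ∈ (T : Subgroup G), v ∈ L ∧ v ∈ O) → ∀ w ∈ (T : Subgroup G), w ∈ L → w ≠ 1 → w ∈ O := by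
    rintro ⟨v, hv, hvL, hvO⟩ w hw hwL hw1
    obtain ⟨n, hn, hnN, hne⟩ := c.conj_N T hT htT hv hvL hw hwL (hsq v hv hvL) (hO1 v hvO) (hsq w hw hwL) hw1
    rw [← hne]
    exact hcj v hvO n (hLK n hn hnN)
  have hVb : (∃ v ∈ (T : Subgroup G), v ∈ L ∧ v ≠ 1 ∧ t * v ∈ O) → ∀ w ∈ (T : Subgroup G), w ∈ L → t * w ∈ O := by
    rintro ⟨v, hv, hvL, hv1, hvO⟩ w hw hwL
    by_cases hw1 : w = 1
    · rw [hw1, mul_one]; exact htO
    obtain ⟨n, hn, hnN, hne⟩ := c.conj_N T hT htT hv hvL hw hwL (hsq v hv hvL) hv1 (hsq w hw hwL) hw1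
    have h1 := hcj _ hvO n (hLK n hn hnN)
    have h2 : n * (t * v) * n⁻¹ = t * w := by
      calc n * (t * v) * n⁻¹ = (n * t) * v * n⁻¹ := by group
        _ = (t * n) * v * n⁻¹ := by rw [c.EC n (c.LE hn)]
        _ = t * (n * v * n⁻¹) := by group
        _ = t * w := by rw [hne]
    rwa [h2] at h1
  by_cases ha : ∃ v ∈ (T : Subgroup G), v ∈ L ∧ v ∈ O
  · by_cases hb : ∃ v ∈ (T : Subgroup G), v ∈ L ∧ v ≠ 1 ∧ t * v ∈ O
    · right
      intro s hs hs1
      have hsO : s ∈ O := by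
        rcases c.decT T hT htT hs with h | ⟨v, hv, hvL, rfl⟩
        · exact hVa ha s hs h hs1
        · exact hVb hb v hv hvL
      exact hsO
    · exfalso
      have h5 : O = insert t ((((T : Subgroup G) ⊓ L : Subgroup G) : Set G) \ {1}) := by
        ext x
        constructor
        · intro hx
          rcases c.decT T hT htT (hOT x hx) with h | ⟨v, hv, hvL, rfl⟩
          · right
            exact ⟨mem_inf.2 ⟨hOT x hx, h⟩, hO1 x hx⟩
          · left
            by_contra hne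
            exact hb ⟨v, hv, hvL, fun h1 => hne (by rw [h1, mul_one]), hx⟩
        · rintro (rfl | ⟨hx, hx1⟩)
          · exact htO
          · exact hVa ha x (mem_inf.1 hx).1 (mem_inf.1 hx).2 hx1
      rw [h5, Set.ncard_insert_of_notMem, Set.ncard_sdiff_singleton_of_mem] at hodd
      · have h6 : (((T : Subgroup G) ⊓ L : Subgroup G) : Set G).ncard = 4 := by
          rw [← h4]; rfl
        rw [h6] at hodd
        exact absurd hodd (by decide)
      · exact one_mem _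
      · rintro ⟨h6, -⟩
        exact c.tE (c.LE (mem_inf.1 h6).2)
  · by_cases hb : ∃ v ∈ (T : Subgroup G), v ∈ L ∧ v ≠ 1 ∧ t * v ∈ O
    · exfalso
      have h5 : O = (fun x => t * x) '' (((T : Subgroup G) ⊓ L : Subgroup G) : Set G) := by
        ext x
        constructor
        · intro hx
          rcases c.decT T hT htT (hOT x hx) with h | ⟨v, hv, hvL, rfl⟩
          · exact absurd ⟨x, hOT x hx, h, hx⟩ ha
          · exact ⟨v, mem_inf.2 ⟨hv, hvL⟩, rfl⟩
        · rintro ⟨v, hv, rfl⟩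
          exact hVb hb v (mem_inf.1 hv).1 (mem_inf.1 hv).2
      rw [h5, Set.ncard_image_of_injective _ (mul_right_injective t)] at hodd
      have h6 : (((T : Subgroup G) ⊓ L : Subgroup G) : Set G).ncard = 4 := by
        rw [← h4]; rfl
      rw [h6] at hodd
      exact absurd hodd (by decide)
    · left
      intro g hg hgT
      obtain ⟨n, hn, hne⟩ := burn T hT hTM htT hg hgT
      have h5 : g * t * g⁻¹ ∈ O := ⟨n, hn, hne⟩
      rcases c.decT T hT htT hgT with h | ⟨v, hv, hvL, hve⟩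
      · exact absurd ⟨_, hgT, h, h5⟩ ha
      · by_contra hne'
        apply hb
        refine ⟨v, hv, hvL, ?_, ?_⟩
        · intro h1
          apply hne'
          rw [hve, h1, mul_one]
        · rw [← hve]; exact h5

/-- elements of odd order of `C(t)` lie in `E` -/
theorem Cf.odd_mem {t : G} {E L : Subgroup G} (c : Cf t E L) {d : G} (hd : d * t = t * d) (ho : Odd (orderOf d)) :
    d ∈ E := by
  rcases c.dec d hd with h | h
  · exact h
  · exfalso
    apply c.tE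
    obtain ⟨k, hk⟩ := ho
    have h1 : (d * t) ^ (orderOf d) = t := by
      rw [(show Commute d t from hd).mul_pow, pow_orderOf_eq_one, one_mul, hk, pow_succ, pow_mul, pow_two, c.tt, one_pow, one_mul]
    rw [← h1]
    exact pow_mem h _

theorem Cf.fpf {t : G} {E L : Subgroup G} (c : Cf t E L) {W : Subgroup G} (ho : Odd (Nat.card W))
    (hW : ∀ x : G, x * t = t * x → x ∈ normalizer (W : Set G)) : ∀ w ∈ W, t * w = w * t → w = 1 := by
  have h1 : W ⊓ L = ⊥ := by
    apply c.pf.core _ inf_le_right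
    · intro l hl
      apply H75.Basic.mem_normalizer_of_conj_mem
      intro y hy
      obtain ⟨hy1, hy2⟩ := mem_inf.1 hy
      exact mem_inf.2 ⟨(mem_normalizer_iff.1 (hW l (c.EC l (c.LE hl))) y).1 hy1, mul_mem (mul_mem hl hy2) (inv_mem hl)⟩
    · exact Odd.of_dvd_nat ho (card_dvd_of_le inf_le_left)
  intro w hw htw
  have hwE := c.odd_mem htw.symm (odd_order ho hw)
  apply c.cL w hwE
  intro l hl
  have h2 : w * l * w⁻¹ * l⁻¹ ∈ W ⊓ L := by
    refine mem_inf.2 ⟨?_, mul_mem (c.nL w hwE l hl) (inv_mem hl)⟩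
    have h3 := (mem_normalizer_iff.1 (hW l (c.EC l (c.LE hl))) w⁻¹).1 (inv_mem hw)
    have h4 : w * l * w⁻¹ * l⁻¹ = w * (l * w⁻¹ * l⁻¹) := by group
    rw [h4]; exact mul_mem hw h3
  rw [h1, mem_bot, mul_inv_eq_one, mul_inv_eq_iff_eq_mul] at h2
  exact h2

/-- the fixed points of `v` on `W` -/
theorem Cf.fix {t : G} {E L : Subgroup G} (c : Cf t E L) (T : Sylow 2 G)
    (hT : ∀ a ∈ (T : Subgroup G), ∀ b ∈ (T : Subgroup G), a * b = b * a) (htT : t ∈ (T : Subgroup G))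
    (hsq : ∀ x ∈ (T : Subgroup G), x ∈ L → x * x = 1)
    (hall : ∀ s ∈ (T : Subgroup G), s ≠ 1 → ∃ n ∈ normalizer ((T : Subgroup G) : Set G), n * t * n⁻¹ = s)
    {W : Subgroup G} (ho : Odd (Nat.card W))
    (hW : ∀ x : G, x * t = t * x → x ∈ normalizer (W : Set G)) {v : G} (hv : v ∈ (T : Subgroup G)) (hvL : v ∈ L)
    (hv1 : v ≠ 1) : ∀ w ∈ W, v * w = w * v → w = 1 := by
  have htt := c.tt
  have ht1 : t ≠ 1 := by intro h; have := c.ht; rw [h, orderOf_one] at this; omega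
  have hinv := H59.OddInv.inverts_of_fixedPointFree W t (by rw [pow_two]; exact htt) (hW t rfl) (c.fpf ho hW)
  obtain ⟨g, hg, hgv⟩ := hall v hv hv1
  set D : Subgroup G := W ⊓ centralizer ({v} : Set G) with hD
  set t' := g⁻¹ * t * g with ht'
  have ht'T : t' ∈ (T : Subgroup G) := by
    have := (mem_normalizer_iff.1 (inv_mem hg) t).1 htT
    rwa [inv_inv] at this
  have ht'1 : t' ≠ 1 := by
    intro h
    apply ht1
    have : t = g * t' * g⁻¹ := by rw [ht']; group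
    rw [this, h]; group
  have ht't : t' ≠ t := by
    intro h
    apply c.tE
    have h1 : g * t * g⁻¹ = t := by
      calc g * t * g⁻¹ = g * t' * g⁻¹ := by rw [h]
        _ = t := by rw [ht']; group
    rw [← h1, hgv]
    exact c.LE hvL
  obtain ⟨e, heT, heL, he1, het⟩ : ∃ e ∈ (T : Subgroup G), e ∈ L ∧ e ≠ 1 ∧ (t' = e ∨ t' = t * e) := by
    rcases c.decT T hT htT ht'T with h | ⟨e, he, heL, hee⟩
    · exact ⟨t', ht'T, h, ht'1, Or.inl rfl⟩
    · refine ⟨e, he, heL, ?_, Or.inr hee⟩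
      intro h
      apply ht't
      rw [hee, h, mul_one]
  have hee := hsq e heT heL
  -- `D' ≤ C(t)`, inverted by `e`
  set D' : Subgroup G := D.map (MulAut.conj g⁻¹).toMonoidHom with hD'
  have hmem : ∀ x, x ∈ D' ↔ g * x * g⁻¹ ∈ D := by
    intro x
    constructor
    · rintro ⟨y, hy, rfl⟩
      show g * (g⁻¹ * y * g⁻¹⁻¹) * g⁻¹ ∈ D
      have : g * (g⁻¹ * y * g⁻¹⁻¹) * g⁻¹ = y := by group
      rw [this]; exact hy
    · intro h
      refine ⟨_, h, ?_⟩
      show g⁻¹ * (g * x * g⁻¹) * g⁻¹⁻¹ = x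
      group
  have hDc : ∀ x ∈ D', x * t = t * x := by
    intro x hx
    have h1 := (mem_inf.1 ((hmem x).1 hx)).2
    rw [mem_centralizer_singleton_iff] at h1
    calc x * t = g⁻¹ * ((g * x * g⁻¹) * (g * t * g⁻¹)) * g := by group
      _ = g⁻¹ * ((g * t * g⁻¹) * (g * x * g⁻¹)) * g := by rw [hgv, h1]
      _ = t * x := by group
  have hD't : ∀ x ∈ D', t' * x * t'⁻¹ = x⁻¹ := by
    intro x hx
    have h1 := hinv _ (mem_inf.1 ((hmem x).1 hx)).1
    calc t' * x * t'⁻¹ = g⁻¹ * (t * (g * x * g⁻¹) * t⁻¹) * g := by rw [ht']; group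
      _ = g⁻¹ * (g * x * g⁻¹)⁻¹ * g := by rw [h1]
      _ = x⁻¹ := by group
  have hD'e : ∀ x ∈ D', e * x * e⁻¹ = x⁻¹ := by
    intro x hx
    have h1 := hD't x hx
    rcases het with h | h
    · rw [← h]; exact h1
    · have h2 := hDc x hx
      have hte := hT t htT e heT
      rw [h] at h1
      calc e * x * e⁻¹ = e * (t * x * t⁻¹) * e⁻¹ := by rw [← h2, mul_inv_cancel_right]
        _ = (e * t) * x * (e * t)⁻¹ := by group
        _ = (t * e) * x * (t * e)⁻¹ := by rw [hte]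
        _ = x⁻¹ := h1
  have hodd : Odd (Nat.card D') := by
    rw [hD', Subgroup.card_map_of_injective (MulAut.conj g⁻¹).injective]
    exact Odd.of_dvd_nat ho (card_dvd_of_le inf_le_left)
  have hD'L : D' ≤ L := by
    intro x hx
    have hxo := odd_order hodd hx
    have hxE := c.odd_mem (hDc x hx) hxo
    have h1 : x * x ∈ L := by
      have h2 := mul_mem (c.nL x hxE e heL) (inv_mem heL)
      have h3 : x * e * x⁻¹ * e⁻¹ = x * x := by
        have h4 := hD'e x hx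
        calc x * e * x⁻¹ * e⁻¹ = x * (e * x * e⁻¹)⁻¹ := by group
          _ = x * x := by rw [h4, inv_inv]
      rwa [h3] at h2
    obtain ⟨k, hk⟩ := hxo
    have h5 : x = (x * x) ^ (k + 1) := by
      have h6 := pow_orderOf_eq_one x
      rw [hk] at h6
      calc x = x ^ (2 * k + 1) * x := by rw [h6, one_mul]
        _ = (x * x) ^ (k + 1) := by rw [← pow_two, ← pow_mul, ← pow_succ]; congr 1
    rw [h5]; exact pow_mem h1 _
  have hbot : D' = ⊥ := by
    refine star c.pf hD'L hodd heL hee he1 hD'e ?_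
    intro y hy hye
    have hyt := c.EC y (c.LE hy)
    have hyt' : y * t' = t' * y := by
      rcases het with h | h
      · rw [h]; exact hye
      · rw [h]
        calc y * (t * e) = (y * t) * e := by group
          _ = t * (y * e) := by rw [hyt]; group
          _ = t * e * y := by rw [hye]; group
    have h1 : (g * y * g⁻¹) * t = t * (g * y * g⁻¹) := by
      calc (g * y * g⁻¹) * t = g * (y * (g⁻¹ * t * g)) * g⁻¹ := by group
        _ = g * ((g⁻¹ * t * g) * y) * g⁻¹ := by rw [← ht', hyt']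
        _ = t * (g * y * g⁻¹) := by group
    have h2 : (g * y * g⁻¹) * v = v * (g * y * g⁻¹) := by
      calc (g * y * g⁻¹) * v = g * (y * t) * g⁻¹ := by rw [← hgv]; group
        _ = g * (t * y) * g⁻¹ := by rw [hyt]
        _ = v * (g * y * g⁻¹) := by rw [← hgv]; group
    apply H75.Basic.mem_normalizer_of_conj_mem
    intro x hx
    rw [hmem]
    obtain ⟨h3, h4⟩ := mem_inf.1 ((hmem x).1 hx)
    rw [mem_centralizer_singleton_iff] at h4
    have h5 : g * (y * x * y⁻¹) * g⁻¹ = (g * y * g⁻¹) * (g * x * g⁻¹) * (g * y * g⁻¹)⁻¹ := by group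
    rw [h5]
    refine mem_inf.2 ⟨(mem_normalizer_iff.1 (hW _ h1) _).1 h3, ?_⟩
    have h6 : g * y * g⁻¹ ∈ centralizer ({v} : Set G) := by rw [mem_centralizer_singleton_iff]; exact h2
    have h7 : g * x * g⁻¹ ∈ centralizer ({v} : Set G) := by rw [mem_centralizer_singleton_iff]; exact h4
    exact mul_mem (mul_mem h6 h7) (inv_mem h6)
  intro w hw hvw
  have h1 : g⁻¹ * w * g ∈ D' := by
    rw [hmem]
    have : g * (g⁻¹ * w * g) * g⁻¹ = w := by group
    rw [this]
    refine mem_inf.2 ⟨hw, ?_⟩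
    rw [mem_centralizer_singleton_iff]
    exact hvw.symm
  rw [hbot, mem_bot] at h1
  have : w = g * (g⁻¹ * w * g) * g⁻¹ := by group
  rw [this, h1]; group

/-- `W = 1` -/
theorem Cf.W_bot {t : G} {E L : Subgroup G} (c : Cf t E L) (T : Sylow 2 G)
    (hT : ∀ a ∈ (T : Subgroup G), ∀ b ∈ (T : Subgroup G), a * b = b * a) (htT : t ∈ (T : Subgroup G))
    (h4 : Nat.card ((T : Subgroup G) ⊓ L : Subgroup G) = 4) (hsq : ∀ x ∈ (T : Subgroup G), x ∈ L → x * x = 1)
    (hall : ∀ s ∈ (T : Subgroup G), s ≠ 1 → ∃ n ∈ normalizer ((T : Subgroup G) : Set G), n * t * n⁻¹ = s)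
    {W : Subgroup G} (ho : Odd (Nat.card W))
    (hW : ∀ x : G, x * t = t * x → x ∈ normalizer (W : Set G)) : W = ⊥ := by
  set V : Subgroup G := (T : Subgroup G) ⊓ L with hV
  obtain ⟨v₁, hv₁, hv₁1⟩ : ∃ v ∈ V, v ≠ 1 := by
    by_contra h
    push Not at h
    rw [(Subgroup.eq_bot_iff_forall _).2 h, Subgroup.card_bot] at h4
    omega
  obtain ⟨h1T, h1L⟩ := mem_inf.1 hv₁
  have hz : orderOf v₁ = 2 := orderOf_eq_prime (by rw [pow_two]; exact hsq v₁ h1T h1L) hv₁1
  obtain ⟨v₂, hv₂, hv₂z⟩ : ∃ v ∈ V, v ∉ zpowers v₁ := by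
    by_contra h
    push Not at h
    have h5 := Subgroup.card_le_of_le (H := V) (K := zpowers v₁) h
    rw [h4, Nat.card_zpowers, hz] at h5
    omega
  obtain ⟨h2T, h2L⟩ := mem_inf.1 hv₂
  have hv₂1 : v₂ ≠ 1 := by rintro rfl; exact hv₂z (one_mem _)
  have h3 : v₁ * v₂ ≠ 1 := by
    intro h
    apply hv₂z
    have : v₂ = v₁⁻¹ := eq_inv_of_mul_eq_one_right h
    rw [this]; exact inv_mem (mem_zpowers _)
  have hN : ∀ x ∈ V, x ∈ normalizer (W : Set G) := fun x hx => hW x (hT x (mem_inf.1 hx).1 t htT)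
  exact H59.Fus1.eq_bot_of_klein (v₁ := v₁) (v₂ := v₂) (by rw [pow_two]; exact hsq v₁ h1T h1L)
    (by rw [pow_two]; exact hsq v₂ h2T h2L) (hN _ hv₁) (hN _ hv₂)
    (c.fix T hT htT hsq hall ho hW h1T h1L hv₁1) (c.fix T hT htT hsq hall ho hW h2T h2L hv₂1)
    (c.fix T hT htT hsq hall ho hW (mul_mem h1T h2T) (mul_mem h1L h2L) h3)

end H27.AB
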