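import Mathlib.GroupTheory.SpecificGroups.Alternating
import Mathlib.GroupTheory.SpecificGroups.Alternating.Simple
import Mathlib.GroupTheory.SpecificGroups.Alternating.Centralizer
import Mathlib.GroupTheory.GroupAction.Pointwise

set_option autoImplicit false

namespace H27.AltSub

open Equiv Equiv.Perm Subgroup
open scoped Pointwise

variable {α : Type*} [Fintype α] [DecidableEq α]

/-- the alternating group on the subset `s`, as a subgroup -/
noncomputable def A (s : Finset α) : Subgroup (alternatingGroup α) :=
  (alternatingGroup.ofSubtype s).range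

theorem mem_A {s : Finset α} {g : alternatingGroup α} :
    g ∈ A s ↔ (g : Perm α).support ⊆ s := by
  rw [A]; exact alternatingGroup.mem_range_ofSubtype_iff s g

theorem mem_A' {s : Finset α} {g : alternatingGroup α} :
    g ∈ A s ↔ ∀ x, x ∉ s → (g : Perm α) x = x := by
  rw [mem_A]
  constructor
  · intro h x hx
    by_contra hne
    exact hx (h (Perm.mem_support.mpr hne))
  · intro h x hx
    by_contra hne
    exact Perm.mem_support.mp hx (h x hne)

theorem inf_A (s t : Finset α) : A s ⊓ A t = A (s ∩ t) := by
  ext g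
  rw [Subgroup.mem_inf, mem_A, mem_A, mem_A, Finset.subset_inter_iff]

theorem conj_A (s : Finset α) (g : alternatingGroup α) :
    (A s).map (MulAut.conj g).toMonoidHom = A (g • s) := by
  have := alternatingGroup.conj_smul_range_ofSubtype s g
  rw [A, A, ← this]
  rfl

/-- a three-cycle -/
theorem exists_cyc {x a b : α} (hxa : x ≠ a) (hxb : x ≠ b) (hab : a ≠ b) :
    ∃ c : alternatingGroup α, (c : Perm α) x = a ∧ ∀ y, y ≠ x → y ≠ a → y ≠ b →
      (c : Perm α) y = y := by
  refine ⟨⟨swap x a * swap a b, ?_⟩, ?_, ?_⟩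
  · rw [mem_alternatingGroup, Perm.sign_mul, Perm.sign_swap hxa, Perm.sign_swap hab]; norm_num
  · show (swap x a * swap a b) x = a
    rw [Perm.mul_apply, swap_apply_of_ne_of_ne hxa hxb, swap_apply_left]
  · intro y h1 h2 h3
    show (swap x a * swap a b) y = y
    rw [Perm.mul_apply, swap_apply_of_ne_of_ne h2 h3, swap_apply_of_ne_of_ne h1 h2]

theorem exists_move {s : Finset α} {x y : α} (hx : x ∈ s) (hy : y ≠ x) (hc : 4 ≤ s.card) :
    ∃ c ∈ A s, (c : Perm α) y = y ∧ (c : Perm α) x ≠ x := by
  have h2 : 1 < (s \ {x, y}).card := by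
    have h3 := Finset.le_card_sdiff {x, y} s
    have h4 : ({x, y} : Finset α).card ≤ 2 := Finset.card_le_two
    omega
  obtain ⟨a, ha, b, hb, hab⟩ := Finset.one_lt_card.mp h2
  simp only [Finset.mem_sdiff, Finset.mem_insert, Finset.mem_singleton, not_or] at ha hb
  obtain ⟨c, hc1, hc2⟩ := exists_cyc (x := x) (a := a) (b := b) (Ne.symm ha.2.1)
    (Ne.symm hb.2.1) hab
  refine ⟨c, mem_A'.mpr fun z hz => hc2 z ?_ ?_ ?_, hc2 y hy (Ne.symm ha.2.2) (Ne.symm hb.2.2), ?_⟩
  · rintro rfl; exact hz hx
  · rintro rfl; exact hz ha.1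
  · rintro rfl; exact hz hb.1
  · rw [hc1]; exact ha.2.1

theorem exists_move' {s : Finset α} {x : α} (hx : x ∈ s) (hc : 3 ≤ s.card) :
    ∃ c ∈ A s, (c : Perm α) x ≠ x := by
  have h2 : 1 < (s \ {x}).card := by
    have h3 := Finset.le_card_sdiff {x} s
    have h4 : ({x} : Finset α).card = 1 := Finset.card_singleton x
    omega
  obtain ⟨a, ha, b, hb, hab⟩ := Finset.one_lt_card.mp h2
  simp only [Finset.mem_sdiff, Finset.mem_singleton] at ha hb
  obtain ⟨c, hc1, hc2⟩ := exists_cyc (x := x) (a := a) (b := b) (Ne.symm ha.2)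
    (Ne.symm hb.2) hab
  refine ⟨c, mem_A'.mpr fun z hz => hc2 z ?_ ?_ ?_, ?_⟩
  · rintro rfl; exact hz hx
  · rintro rfl; exact hz ha.1
  · rintro rfl; exact hz hb.1
  · rw [hc1]; exact ha.2

theorem subset_of_A_le {s t : Finset α} (hc : 3 ≤ s.card) (h : A s ≤ A t) : s ⊆ t := by
  intro x hx
  obtain ⟨c, hc1, hc2⟩ := exists_move' hx hc
  by_contra hxt
  exact hc2 (mem_A'.mp (h hc1) x hxt)

theorem A_mono {s t : Finset α} (h : s ⊆ t) : A s ≤ A t := fun _ hg =>
  mem_A.mpr ((mem_A.mp hg).trans h)

theorem centralizer_A {s : Finset α} (hc : 4 ≤ s.card) :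
    Subgroup.centralizer (A s : Set (alternatingGroup α)) = A sᶜ := by
  apply le_antisymm
  · intro g hg
    refine mem_A'.mpr fun x hx => ?_
    rw [Finset.mem_compl, not_not] at hx
    by_contra hne
    obtain ⟨c, hcA, hcy, hcx⟩ := exists_move (y := (g : Perm α) x) hx hne hc
    have h1 : c * g = g * c := Subgroup.mem_centralizer_iff.mp hg c hcA
    have h2 : (c : Perm α) ((g : Perm α) x) = (g : Perm α) ((c : Perm α) x) := by
      have := congrArg (fun u : alternatingGroup α => (u : Perm α) x) h1
      simpa using this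
    rw [hcy] at h2
    exact hcx ((g : Perm α).injective h2.symm)
  · intro g hg
    rw [Subgroup.mem_centralizer_iff]
    intro h hh
    have h1 : Perm.Disjoint (h : Perm α) (g : Perm α) := by
      intro x
      by_cases hx : x ∈ s
      · right
        exact mem_A'.mp hg x (by rw [Finset.mem_compl, not_not]; exact hx)
      · left
        exact mem_A'.mp hh x hx
    exact Subtype.ext h1.commute.eq

theorem card_A (s : Finset α) : Nat.card (A s) = Nat.card (alternatingGroup s) := by
  exact (Nat.card_congr
    (MonoidHom.ofInjective (alternatingGroup.ofSubtype_injective (s := s))).toEquiv).symm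

theorem mem_normalizer_A {s : Finset α} (hc : 3 ≤ s.card) {g : alternatingGroup α} :
    g ∈ Subgroup.normalizer (A s : Set (alternatingGroup α)) ↔ g • s = s := by
  rw [Subgroup.mem_normalizer_iff_map_conj_eq]
  constructor
  · intro h
    have h1 : A (g • s) = A s := by rw [← conj_A]; exact h
    have h3 : (g • s).card = s.card := Finset.card_smul_finset g s
    exact Finset.eq_of_subset_of_card_le (subset_of_A_le (by omega) h1.le) h3.ge
  · intro h
    have := conj_A s g
    rw [h] at this
    exact this

theorem odd_card_A {s : Finset α} (hs : s.card ≤ 3) : Odd (Nat.card (A s)) := by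
  rw [card_A]
  rcases Nat.lt_or_ge 1 s.card with h1 | h1
  · haveI : Nontrivial s := by
      rw [← Finite.one_lt_card_iff_nontrivial, Nat.card_eq_fintype_card, Fintype.card_coe]
      exact h1
    have h2 := two_mul_nat_card_alternatingGroup (α := s)
    rw [Nat.card_perm, Nat.card_eq_fintype_card (α := s), Fintype.card_coe] at h2
    interval_cases h : s.card
    · have h3 : Nat.factorial 2 = 2 := rfl
      have : Nat.card (alternatingGroup s) = 1 := by omega
      rw [this]; exact odd_one
    · have h3 : Nat.factorial 3 = 6 := rfl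
      have : Nat.card (alternatingGroup s) = 3 := by omega
      rw [this]; decide
  · haveI : Subsingleton s := by
      rw [← Finite.card_le_one_iff_subsingleton, Nat.card_eq_fintype_card, Fintype.card_coe]
      exact h1
    haveI : Subsingleton (alternatingGroup s) := ⟨fun a b => Subtype.ext (Equiv.ext fun x =>
      Subsingleton.elim _ _)⟩
    have : Nat.card (alternatingGroup s) = 1 := Nat.card_unique
    rw [this]; exact odd_one

end H27.AltSub
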