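import Cfsg.Agent.S3188
import Cfsg.Agent.S3278
import Cfsg.Agent.S2119
import Cfsg.Agent.Lib.H27.AB2
import Cfsg.Agent.Lib.H62.PSLG

set_option autoImplicit false
set_option linter.unusedVariables false
set_option linter.unusedSectionVars false
set_option linter.style.haveILetI false

/-! S3219, piece BB3: groups with a Klein four Sylow subgroup containing its involution centralizers. -/

namespace H27.BB3

open Subgroup Cfsg

universe u

theorem card_aut : Nat.card (MulAut (alternatingGroup (Fin 5))) = 120 := by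
  rw [← Nat.card_congr (Equiv.ofBijective _ (Cfsg.Agent.S2119.result 5 (by norm_num) (by norm_num))), Nat.card_perm,
    Nat.card_fin]
  decide

theorem four_dvd {F : Type} [Field F] [Fintype F]
    (h : ((Fintype.card F % 8 = 3 ∨ Fintype.card F % 8 = 5) ∧ 5 ≤ Fintype.card F) ∨
          (∃ n : ℕ, 2 ≤ n ∧ Fintype.card F = 2 ^ n)) :
    4 ∣ Nat.card (Matrix.ProjectiveSpecialLinearGroup (Fin 2) F) := by
  rcases h with ⟨h1, h2⟩ | ⟨n, hn, h2⟩
  · exact (H62.PSLG.card_facts (by rw [Nat.odd_iff]; omega)).1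
  · have hcen : Nat.card (Subgroup.center (Matrix.SpecialLinearGroup (Fin 2) F)) = 1 := by
      rw [H85.PSLClass.card_center]
      have : Odd (Fintype.card F - 1) := by
        rw [h2]
        obtain ⟨m, rfl⟩ : ∃ m, n = m + 1 := ⟨n - 1, by omega⟩
        rw [pow_succ, Nat.odd_iff]
        have := Nat.one_le_two_pow (n := m)
        omega
      exact (Nat.coprime_two_left.2 this)
    have h4 := Subgroup.card_eq_card_quotient_mul_card_subgroup (Subgroup.center (Matrix.SpecialLinearGroup (Fin 2) F))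
    rw [hcen, mul_one, H6.SL2Sylow.card_sl2] at h4
    have h5 : 4 ∣ Fintype.card F := by
      rw [h2]
      exact pow_dvd_pow 2 hn
    change 4 ∣ Nat.card (Matrix.SpecialLinearGroup (Fin 2) F ⧸ Subgroup.center (Matrix.SpecialLinearGroup (Fin 2) F))
    rw [← h4]
    exact h5.mul_right _

variable {B : Type u} [Group B] [Finite B]

theorem solv (S : Sylow 2 B) (hS4 : Nat.card (S : Subgroup B) = 4)
    (hel : ∀ s ∈ (S : Subgroup B), s * s = 1)
    (hN : ∀ w ∈ (S : Subgroup B), w ≠ 1 → ∀ g, g * w = w * g → g ∈ normalizer ((S : Subgroup B) : Set B))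
    (t : B) (ht : orderOf t = 2) : Group.IsSolvable ↥(Subgroup.centralizer ({t} : Set B)) := by
  haveI : Fact (Nat.Prime 2) := ⟨Nat.prime_two⟩
  obtain ⟨g, hg⟩ := H5.PLocal.exists_conj_mem_sylow S ht
  apply H27.AB.solvable_conj (g := g)
  have h1 : g * t * g⁻¹ ≠ 1 := by
    intro h
    rw [mul_inv_eq_one, mul_eq_left] at h
    rw [h, orderOf_one] at ht
    omega
  have hle : centralizer ({g * t * g⁻¹} : Set B) ≤ normalizer ((S : Subgroup B) : Set B) := by
    intro c hc
    exact hN _ hg h1 c (mem_centralizer_singleton_iff.1 hc)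
  refine H27.AB.solvable_mono hle ?_
  set M := normalizer ((S : Subgroup B) : Set B) with hM
  have hSM : (S : Subgroup B) ≤ M := le_normalizer
  haveI hnorm : ((S : Subgroup B).subgroupOf M).Normal := normal_in_normalizer
  have hKs : Group.IsSolvable ((S : Subgroup B).subgroupOf M) := by
    have hp : IsPGroup 2 ((S : Subgroup B).subgroupOf M) := H28.RelSyl.isPGroup_subgroupOf hSM |>.2 S.2
    haveI : Group.IsNilpotent ((S : Subgroup B).subgroupOf M) := hp.isNilpotent
    infer_instance
  have hQs : Group.IsSolvable (M ⧸ (S : Subgroup B).subgroupOf M) := by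
    apply Cfsg.Agent.S0205.result
    rw [← Nat.not_even_iff_odd, even_iff_two_dvd]
    intro h
    have h2 : ¬ 2 ∣ (S : Subgroup B).index := S.not_dvd_index
    apply h2
    exact h.trans (relIndex_dvd_index_of_le hSM)
  exact Group.isSolvable_of_ker_le_range ((S : Subgroup B).subgroupOf M).subtype
    (QuotientGroup.mk' ((S : Subgroup B).subgroupOf M)) (by
      rw [QuotientGroup.ker_mk', Subgroup.range_subtype])

theorem psl_part (S : Sylow 2 B) (hS4 : Nat.card (S : Subgroup B) = 4)
    (hel : ∀ s ∈ (S : Subgroup B), s * s = 1)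
    (hN : ∀ w ∈ (S : Subgroup B), w ≠ 1 → ∀ g, g * w = w * g → g ∈ normalizer ((S : Subgroup B) : Set B))
    (hns : ¬ Group.IsSolvable B) : Nat.card (B ⧸ Cfsg.oddCore B) = 60 := by
  haveI : Fact (Nat.Prime 2) := ⟨Nat.prime_two⟩
  have hcomm : IsMulCommutative (S : Subgroup B) := ⟨⟨fun a b => by
    have h1 := hel _ (a * b).2
    have h2 := hel _ a.2
    have h3 := hel _ b.2
    apply Subtype.ext
    show (a : B) * b = b * a
    have h4 : (a : B) * b * ((a : B) * b) = 1 := h1
    calc (a : B) * b = ((a : B) * a) * (a * b) * (b * b) := by rw [h2, h3]; group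
      _ = (a : B) * (a * (a * b) * b) * b := by group
      _ = (a : B) * 1 * b * (1 : B) := by
          have : (a : B) * (a * b) * b = 1 := by
            calc (a : B) * (a * b) * b = (a * a) * (b * b) := by group
              _ = 1 := by rw [h2, h3, one_mul]
          rw [this]; group
      _ = b * a := by
          have h5 : (a : B) * b = ((a : B) * b)⁻¹ := (inv_eq_of_mul_eq_one_left h4).symm
          have h6 : (a : B)⁻¹ = a := inv_eq_of_mul_eq_one_left h2
          have h7 : (b : B)⁻¹ = b := inv_eq_of_mul_eq_one_left h3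
          rw [mul_one, mul_one, h5, mul_inv_rev, h6, h7]⟩⟩
  rcases Cfsg.Agent.S3188.result S hcomm (solv S hS4 hel hN) with h | ⟨F, i1, i2, hF, N, hNn, ⟨e⟩, hCN⟩
  · exact absurd h hns
  haveI := hNn
  -- the quotient
  have hcop : (Nat.card (oddCore B)).Coprime 2 := H1.Cores.coprime_card_pPrimeCore 2
  set q := QuotientGroup.mk' (oddCore B) with hq
  have hqs : Function.Surjective q := QuotientGroup.mk'_surjective _
  set T : Subgroup (B ⧸ oddCore B) := (S : Subgroup B).map q with hT
  have hidx : ¬ 2 ∣ (S : Subgroup B).index := S.not_dvd_index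
  have h8B : ¬ 8 ∣ Nat.card B := by
    rw [← card_mul_index (S : Subgroup B), hS4]
    intro h
    apply hidx
    exact Nat.dvd_of_mul_dvd_mul_left (k := 4) (by norm_num) h
  have h8 : ¬ 8 ∣ Nat.card (B ⧸ oddCore B) := fun h => h8B (h.trans (card_quotient_dvd_card _))
  have hinj : ∀ s ∈ (S : Subgroup B), q s = 1 → s = 1 := by
    intro s hs h
    have h1 : s ∈ oddCore B := (QuotientGroup.eq_one_iff s).1 h
    have h2 : orderOf s ∣ 2 := orderOf_dvd_of_pow_eq_one (by rw [pow_two]; exact hel s hs)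
    have h3 : orderOf s ∣ Nat.card (oddCore B) := Subgroup.orderOf_dvd_natCard _ h1
    exact orderOf_eq_one_iff.1 (Nat.eq_one_of_dvd_coprimes hcop h3 h2)
  have hT4 : Nat.card T = 4 := by
    rw [← hS4]
    symm
    refine Nat.card_congr (Equiv.ofBijective (q.subgroupMap (S : Subgroup B)) ⟨?_, q.subgroupMap_surjective _⟩)
    rw [injective_iff_map_eq_one]
    intro s hs
    exact Subtype.ext (hinj s s.2 (congrArg Subtype.val hs))
  have helT : ∀ s ∈ T, s * s = 1 := by
    rintro _ ⟨s, hs, rfl⟩
    rw [← map_mul, hel s hs, map_one]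
  have hNT : ∀ w ∈ T, w ≠ 1 → ∀ g, g * w = w * g → ∀ v ∈ T, g * v * g⁻¹ ∈ T := by
    rintro _ ⟨s, hs, rfl⟩ hw g hg
    have hs1 : s ≠ 1 := by rintro rfl; exact hw (map_one q)
    have hs2 : orderOf s = 2 := orderOf_eq_prime (by rw [pow_two]; exact hel s hs) hs1
    have h8' : ¬ 2 ∣ Nat.card (oddCore B) := (Nat.Prime.coprime_iff_not_dvd Nat.prime_two).1 hcop.symm
    have h9 := H26.PxQ.map_centralizer_eq (p := 2) (A := zpowers s) (N := oddCore B)
      (H57.Bd.isPGroup_zpowers hs2) h8'
    have h10 : centralizer ((zpowers s : Subgroup B) : Set B) = centralizer {s} := by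
      rw [zpowers_eq_closure, centralizer_closure]
    have h11 : centralizer (((zpowers s).map q : Subgroup _) : Set (B ⧸ oddCore B)) = centralizer {q s} := by
      rw [MonoidHom.map_zpowers, zpowers_eq_closure, centralizer_closure]
    rw [h10] at h9
    change centralizer (((zpowers s).map q : Subgroup _) : Set (B ⧸ oddCore B)) = (centralizer {s}).map q at h9
    rw [h11] at h9
    have h12 : g ∈ centralizer ({q s} : Set (B ⧸ oddCore B)) := mem_centralizer_singleton_iff.2 hg
    rw [h9] at h12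
    obtain ⟨c, hc, rfl⟩ := h12
    have h13 := hN s hs hs1 c (mem_centralizer_singleton_iff.1 hc)
    rintro _ ⟨v, hv, rfl⟩
    exact ⟨c * v * c⁻¹, (mem_normalizer_iff.1 h13 v).1 hv, by rw [map_mul, map_mul, map_inv]⟩
  -- `N` is simple of order 60
  have hF3 : 3 < Fintype.card F := by
    rcases hF with ⟨-, h⟩ | ⟨n, hn, h⟩
    · omega
    · rw [h]
      calc 3 < 2 ^ 2 := by norm_num
        _ ≤ 2 ^ n := Nat.pow_le_pow_right (by norm_num) hn
  haveI : IsSimpleGroup (Matrix.ProjectiveSpecialLinearGroup (Fin 2) F) := H62.PSLG.simple hF3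
  haveI : IsSimpleGroup N := e.isSimpleGroup
  have h4N : 4 ∣ Nat.card N := by
    rw [Nat.card_congr e.toEquiv]
    exact four_dvd hF
  have hNidx : Odd N.index := by
    rw [← Nat.not_even_iff_odd, even_iff_two_dvd]
    intro h
    apply h8
    rw [← card_mul_index N]
    exact mul_dvd_mul h4N h
  have hTN : T ≤ N := fun y hy => H62.PSLG.mem_of_sq hNidx (helT y hy)
  obtain ⟨w, hwT, hw1⟩ : ∃ w ∈ T, w ≠ 1 := by
    by_contra hcon
    push Not at hcon
    have : T = ⊥ := (eq_bot_iff_forall _).2 hcon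
    rw [this, Subgroup.card_bot] at hT4
    omega
  have hw2 : w * w = 1 := helT w hwT
  let x : N := ⟨w, hTN hwT⟩
  have hx1 : x ≠ 1 := fun h => hw1 (congrArg Subtype.val h)
  have hx2 : orderOf x = 2 := orderOf_eq_prime (by rw [pow_two]; exact Subtype.ext hw2) hx1
  have hS0 : ∀ s : N, s ∈ T.subgroupOf N ↔ (s : B ⧸ oddCore B) ∈ T := fun s => mem_subgroupOf
  have hTc : ∀ a ∈ T, ∀ b ∈ T, a * b = b * a := by
    rintro _ ⟨a, ha, rfl⟩ _ ⟨b, hb, rfl⟩
    rw [← map_mul, ← map_mul]
    exact congrArg q (congrArg Subtype.val (hcomm.is_comm.comm (⟨a, ha⟩ : (S : Subgroup B)) ⟨b, hb⟩))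
  have hle : T.subgroupOf N ≤ centralizer ({x} : Set N) := by
    intro s hs
    exact mem_centralizer_singleton_iff.2 (Subtype.ext (hTc _ ((hS0 s).1 hs) _ hwT))
  have hc4 : Nat.card (T.subgroupOf N) = 4 := by
    rw [H28.RelSyl.card_subgroupOf hTN, hT4]
  have hKl : IsKleinFour ↥(T.subgroupOf N) := by
    haveI : Nontrivial ↥(T.subgroupOf N) := by
      rw [← Finite.one_lt_card_iff_nontrivial, hc4]; norm_num
    refine ⟨hc4, ?_⟩
    rw [Monoid.exponent_eq_prime_iff Nat.prime_two]
    intro g hg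
    refine orderOf_eq_prime ?_ hg
    rw [pow_two]
    exact Subtype.ext (Subtype.ext (helT _ ((hS0 _).1 g.2)))
  have h8N : ¬ 8 ∣ Nat.card N := fun h => h8 (h.trans (card_subgroup_dvd_card N))
  have hoddr : ¬ 2 ∣ (T.subgroupOf N).relIndex (centralizer ({x} : Set N)) := by
    intro h
    apply h8N
    have h1 := H28.RelSyl.relIndex_mul_card hle
    rw [hc4] at h1
    have h2 := card_subgroup_dvd_card (centralizer ({x} : Set N))
    rw [← h1] at h2
    exact (mul_dvd_mul h (dvd_refl 4)).trans h2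
  have hnn : ((T.subgroupOf N).subgroupOf (centralizer ({x} : Set N))).Normal := by
    rw [normal_subgroupOf_iff hle]
    intro v c hv hc
    rw [hS0] at hv ⊢
    have h1 := congrArg Subtype.val (mem_centralizer_singleton_iff.1 hc)
    exact hNT w hwT hw1 _ h1 _ hv
  obtain ⟨f⟩ := Cfsg.Agent.S3278.result x hx2 (T.subgroupOf N) hle hKl hoddr hnn
  have hN60 : Nat.card N = 60 := by
    rw [Nat.card_congr f.toEquiv]
    have h2 := two_mul_nat_card_alternatingGroup (α := Fin 5)
    rw [Nat.card_perm, Nat.card_fin] at h2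
    have : Nat.factorial 5 = 120 := by decide
    omega
  -- the quotient embeds in `Aut(A₅)`
  have hφ : Function.Injective (MulAut.conjNormal (H := N)) := by
    rw [injective_iff_map_eq_one]
    intro g hg
    have : g ∈ centralizer (N : Set (B ⧸ oddCore B)) := by
      rw [mem_centralizer_iff]
      intro y hy
      have h1 := congrArg (fun φ : MulAut N => ((φ ⟨y, hy⟩ : N) : B ⧸ oddCore B)) hg
      simp only [MulAut.conjNormal_apply, MulAut.one_apply] at h1
      rw [mul_inv_eq_iff_eq_mul] at h1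
      exact h1.symm
    rw [hCN] at this
    exact mem_bot.1 this
  have hd : Nat.card (B ⧸ oddCore B) ∣ 120 := by
    rw [← card_aut, ← Nat.card_congr (MulAut.congr f).toEquiv]
    exact Subgroup.card_dvd_of_injective _ hφ
  have hd2 : 60 ∣ Nat.card (B ⧸ oddCore B) := by
    rw [← hN60]; exact card_subgroup_dvd_card N
  obtain ⟨k, hk⟩ := hd2
  rw [hk] at hd h8 ⊢
  have hk2 : k ∣ 2 := Nat.dvd_of_mul_dvd_mul_left (k := 60) (by norm_num) (by exact hd)
  rcases (Nat.dvd_prime Nat.prime_two).1 hk2 with rfl | rfl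
  · rfl
  · exact absurd (by norm_num) h8

end H27.BB3
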