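import Mathlib
import Cfsg.Prelude.Def_Balance
import Cfsg.Agent.Lib.H1.Coprime2
import Cfsg.Agent.Lib.H26.GenFitting
import Cfsg.Agent.Lib.H26.LocalFitting
import Cfsg.Agent.Lib.H26.OPPrime

/-!
Action of `p'`-groups `D` centralizing a `p`-group `R` of operators on the components of a group
`H` with `O_{p'}(H) = 1`, when `C_H(R)` normalizes `D`.
-/

set_option autoImplicit false
set_option linter.unusedSectionVars false

open Subgroup Cfsg H26.Basic H26.LocalFitting H1.Coprime H1.Coprime2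
open scoped Pointwise commutatorElement

namespace H27.CompAct

section compIn

variable {G : Type*} [Group G]

/-- `K` is a component of the subgroup `H` -/
def CompIn (H K : Subgroup G) : Prop := K ≤ H ∧ IsComponent (K.subgroupOf H)

theorem compIn_top_iff {K : Subgroup G} : CompIn ⊤ K ↔ IsComponent K := by
  rw [CompIn, H26.Components.subgroupOf_iff Subgroup.IsSubnormal.top le_top]
  simp

theorem compIn_map_subtype {H : Subgroup G} {E : Subgroup H} :
    CompIn H (E.map H.subtype) ↔ IsComponent E := by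
  rw [CompIn, Subgroup.subgroupOf, Subgroup.comap_map_eq_self_of_injective H.subtype_injective]
  exact ⟨fun h => h.2, fun h => ⟨Subgroup.map_subtype_le _, h⟩⟩

variable {H K L : Subgroup G}

theorem CompIn.eq_or (hK : CompIn H K) (hL : CompIn H L) : K = L ∨ ⁅K, L⁆ = ⊥ := by
  rcases H26.Components.eq_or_commutator_eq_bot hK.2 hL.2 with h | h
  · left
    have := congrArg (Subgroup.map H.subtype) h
    rwa [map_subgroupOf_eq_of_le hK.1, map_subgroupOf_eq_of_le hL.1] at this
  · right
    exact (subgroupOf_commutator_eq_bot_iff hK.1 hL.1).mp h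

theorem CompIn.qs (h : CompIn H K) : IsQuasisimple K :=
  (H26.Components.isQuasisimple_subgroupOf h.1).mp h.2.2

theorem CompIn.perfect (h : CompIn H K) : ⁅K, K⁆ = K := Subgroup.isPerfect_iff.mp h.qs.1

theorem CompIn.not_comm (h : CompIn H K) : ⁅K, K⁆ ≠ ⊥ := by
  intro h1
  exact H26.Quasisimple.not_isMulCommutative h.qs (Subgroup.commutator_self_eq_bot_iff.mp h1)

theorem comp_conj (H L : Subgroup G) (hLH : L ≤ H)
    (h : IsComponent (L.subgroupOf H)) (g : G) :
    IsComponent ((L.map (MulAut.conj g).toMonoidHom).subgroupOf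
      (H.map (MulAut.conj g).toMonoidHom)) := by
  set f := (MulAut.conj g).toMonoidHom with hf
  have hfi : Function.Injective f := (MulAut.conj g).injective
  have h1 := (H26.Components.map_mulEquiv_iff (H.equivMapOfInjective f hfi)).mpr h
  convert h1 using 1
  ext ⟨x, hx⟩
  constructor
  · intro h2
    rw [Subgroup.mem_subgroupOf] at h2
    obtain ⟨l, hl, rfl⟩ := h2
    exact ⟨⟨l, hLH hl⟩, hl, rfl⟩
  · rintro ⟨⟨l, hl'⟩, hl, h3⟩
    rw [Subgroup.mem_subgroupOf]
    refine ⟨l, hl, ?_⟩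
    exact congrArg Subtype.val h3

theorem CompIn.conj (h : CompIn H K) {g : G} (hg : g ∈ normalizer (H : Set G)) :
    CompIn H (MulAut.conj g • K) := by
  have h1 := comp_conj H K h.1 h.2 g
  rw [← H1.SZ.conj_smul_eq_map, ← H1.SZ.conj_smul_eq_map,
    H1.SZ.conj_smul_eq_of_mem_normalizer hg] at h1
  refine ⟨?_, h1⟩
  rw [← H1.SZ.conj_smul_eq_of_mem_normalizer hg]
  exact Subgroup.pointwise_smul_le_pointwise_smul_iff.mpr h.1

theorem CompIn.le_normalizer (hK : CompIn H K) (hL : CompIn H L) :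
    K ≤ normalizer (L : Set G) := by
  rcases hK.eq_or hL with h | h
  · rw [h]; exact Subgroup.le_normalizer
  · exact (Subgroup.commutator_eq_bot_iff_le_centralizer.mp h).trans
      (Subgroup.centralizer_le_normalizer _)

/-- a subgroup of a component `K` normalized by `K` is `K` or commutes with `K` -/
theorem CompIn.eq_or_of_le (hK : CompIn H K) {N : Subgroup G} (hNK : N ≤ K)
    (hn : K ≤ normalizer (N : Set G)) : N = K ∨ ⁅N, K⁆ = ⊥ :=
  H26.Components.normal_eq_or_le_center_of_le hK.qs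
    ((Subgroup.normal_subgroupOf_iff_le_normalizer hNK).mpr hn) hNK

theorem CompIn.le_layer (hK : CompIn H K) : K ≤ (layer H).map H.subtype := by
  have h := H26.Components.le_layer hK.2
  have h1 := Subgroup.map_mono (f := H.subtype) h
  rwa [map_subgroupOf_eq_of_le hK.1] at h1

variable [Finite G] {p : ℕ} [hp : Fact p.Prime]

theorem CompIn.dvd_card (hK : CompIn H K) (hO : pPrimeCore p H = ⊥) : p ∣ Nat.card K := by
  by_contra h
  have h0 : ¬ p ∣ Nat.card (K.subgroupOf H) := by
    rwa [H1.SZ.card_subgroupOf_of_le hK.1]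
  have h1 : (Nat.card (K.subgroupOf H)).Coprime p :=
    ((Nat.Prime.coprime_iff_not_dvd hp.out).mpr h0).symm
  have h2 := H26.Subnormal.le_pPrimeCore hK.2.1 h1
  rw [hO] at h2
  exact H26.Components.ne_bot hK.2 (le_bot_iff.mp h2)

/-- subgroups of the layer commuting with all components lie in `O_p(H)` if `O_{p'}(H) = 1` -/
theorem le_pc_of_central {W : Subgroup G} (hO : pPrimeCore p H = ⊥)
    (hWE : W ≤ (layer H).map H.subtype) (hW : ∀ K, CompIn H K → ⁅W, K⁆ = ⊥) : W ≤ pc p H := by
  have hWH : W ≤ H := hWE.trans (Subgroup.map_subtype_le _)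
  have h1 : W.subgroupOf H ≤ layer H := by
    have h2 := Subgroup.comap_mono (f := H.subtype) hWE
    rwa [Subgroup.comap_map_eq_self_of_injective H.subtype_injective] at h2
  have h2 : W.subgroupOf H ≤ centralizer (layer H : Set H) := by
    rw [← Subgroup.commutator_eq_bot_iff_le_centralizer, Subgroup.commutator_comm]
    refine commutator_sSup_left_eq_bot fun K hK => ?_
    have hK' : CompIn H (K.map H.subtype) := compIn_map_subtype.mpr hK
    have h3 := hW _ hK'
    rw [Subgroup.commutator_comm]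
    have h4 : ⁅(W.subgroupOf H).map H.subtype, K.map H.subtype⁆ = ⊥ := by
      rwa [map_subgroupOf_eq_of_le hWH]
    exact (map_commutator_eq_bot_iff H.subtype H.subtype_injective).mp h4
  have h3 := (le_inf h1 h2).trans H26.GenFitting.centre_layer_le_fitting
  rw [H1.Cores.fittingSubgroup_eq_pCore_of p hO] at h3
  have h4 := Subgroup.map_mono (f := H.subtype) h3
  rwa [map_subgroupOf_eq_of_le hWH] at h4

/-- a group `D` normalizing `H` with `O_{p'}(H) = 1`, of order prime to `p`, which centralizes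
`O_p(H)` and all the components, centralizes `F*(H)`; so if `D ≤ H` then `D = 1`. -/
theorem eq_bot_of_centralizes {D : Subgroup G} (hO : pPrimeCore p H = ⊥) (hDH : D ≤ H)
    (hD : (Nat.card D).Coprime p) (h1 : ⁅pc p H, D⁆ = ⊥) (h2 : ∀ K, CompIn H K → ⁅K, D⁆ = ⊥) :
    D = ⊥ := by
  have h3 : D.subgroupOf H ≤ centralizer (generalizedFittingSubgroup H : Set H) := by
    rw [← Subgroup.commutator_eq_bot_iff_le_centralizer, Subgroup.commutator_comm,
      H26.GenFitting.gFitting_eq_of_pPrimeCore_eq_bot hO]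
    refine commutator_sup_left_eq_bot ?_ ?_
    · refine commutator_sSup_left_eq_bot fun K hK => ?_
      have h4 := h2 _ (compIn_map_subtype.mpr hK)
      have h5 : ⁅K.map H.subtype, (D.subgroupOf H).map H.subtype⁆ = ⊥ := by
        rwa [map_subgroupOf_eq_of_le hDH]
      exact (map_commutator_eq_bot_iff H.subtype H.subtype_injective).mp h5
    · have h5 : ⁅(pCore p H).map H.subtype, (D.subgroupOf H).map H.subtype⁆ = ⊥ := by
        rw [map_subgroupOf_eq_of_le hDH]; exact h1
      exact (map_commutator_eq_bot_iff H.subtype H.subtype_injective).mp h5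
  have h4 := h3.trans H26.Components.centralizer_gFitting_le
  -- `D ≤ Z(F*)`, which is a `p`-group
  have h5 : D.subgroupOf H ≤ pCore p H := by
    have h6 : (generalizedFittingSubgroup H ⊓
        centralizer (generalizedFittingSubgroup H : Set H) : Subgroup H) ≤ fittingSubgroup H := by
      apply H1.Cores.le_fittingSubgroup inferInstance
      have h7 : IsMulCommutative (generalizedFittingSubgroup H ⊓
        centralizer (generalizedFittingSubgroup H : Set H) : Subgroup H) := by
        rw [← Subgroup.le_centralizer_iff_isMulCommutative]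
        exact inf_le_right.trans (Subgroup.centralizer_le inf_le_left)
      have h8 : ∀ a b : (generalizedFittingSubgroup H ⊓
        centralizer (generalizedFittingSubgroup H : Set H) : Subgroup H), a * b = b * a :=
        fun a b => h7.is_comm.comm a b
      let : CommGroup (generalizedFittingSubgroup H ⊓
        centralizer (generalizedFittingSubgroup H : Set H) : Subgroup H) :=
        { (inferInstance : Group (generalizedFittingSubgroup H ⊓
            centralizer (generalizedFittingSubgroup H : Set H) : Subgroup H)) with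
          mul_comm := h8 }
      infer_instance
    rw [H1.Cores.fittingSubgroup_eq_pCore_of p hO] at h6
    exact (le_inf h4 h3).trans h6
  have h6 : D ≤ pc p H := by
    have h7 := Subgroup.map_mono (f := H.subtype) h5
    rwa [map_subgroupOf_eq_of_le hDH] at h7
  have h7 := inf_eq_bot_of_coprime (isPGroup_pc p H) hD
  rwa [inf_eq_right.mpr h6] at h7

end compIn

/-- hypotheses: `R` a `p`-group and `D` a `p'`-group acting on `H`, `O_{p'}(H) = 1`, `[R, D] = 1`,
and `C_H(R)` normalizes `D`. -/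
structure Hyp {G : Type*} [Group G] (p : ℕ) (H R D : Subgroup G) : Prop where
  hO : pPrimeCore p H = ⊥
  hR : IsPGroup p R
  hD : (Nat.card D).Coprime p
  hRH : R ≤ normalizer (H : Set G)
  hDH : D ≤ normalizer (H : Set G)
  hRD : ∀ r ∈ R, ∀ d ∈ D, r * d = d * r
  hCD : H ⊓ centralizer (R : Set G) ≤ normalizer (D : Set G)

variable {G : Type*} [Group G] [Finite G] {p : ℕ} [hp : Fact p.Prime] {H R D : Subgroup G}

theorem Hyp.comm (h : Hyp p H R D) : ⁅R, D⁆ = ⊥ :=
  commutator_eq_bot_iff_forall.mpr h.hRD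

theorem Hyp.orderOf_coprime (h : Hyp p H R D) {d : G} (hd : d ∈ D) : (orderOf d).Coprime p :=
  Nat.Coprime.coprime_dvd_left (Subgroup.orderOf_dvd_natCard _ hd) h.hD

/-- (a) `D` centralizes `O_p(H)` -/
theorem Hyp.pc_comm (h : Hyp p H R D) : ⁅pc p H, D⁆ = ⊥ := by
  apply H26.PxQ.commutator_eq_bot_pxq h.hR (fun q hq => h.orderOf_coprime hq) (isPGroup_pc p H)
    h.comm (h.hRH.trans (normalizer_le_normalizer_pc p H))
    (h.hDH.trans (normalizer_le_normalizer_pc p H))
  rw [eq_bot_iff, ← inf_eq_bot_of_coprime (isPGroup_pc p H) h.hD]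
  apply le_inf
  · refine (Subgroup.commutator_mono inf_le_left le_rfl).trans ?_
    exact Subgroup.le_normalizer_iff_commutator_le_left.mp
      (h.hDH.trans (normalizer_le_normalizer_pc p H))
  · refine (Subgroup.le_normalizer_iff_commutator_le_right.mp ?_)
    exact (inf_le_inf_right _ (pc_le p H)).trans h.hCD

/-- a `p'`-element acting on a set of `R`-translates like an element `r` of `R` fixes `K`. -/
theorem fixes_of_eq {R : Subgroup G} (hR : IsPGroup p R) {K : Subgroup G} {d r : G}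
    (hr : r ∈ R) (hd : (orderOf d).Coprime p) (hrd : r * d = d * r)
    (h : MulAut.conj d • K = MulAut.conj r • K) : MulAut.conj d • K = K := by
  have hpow : ∀ n : ℕ, MulAut.conj (d ^ n) • K = MulAut.conj (r ^ n) • K := by
    intro n
    induction n with
    | zero => simp
    | succ n ih =>
      have hc : Commute r d := hrd
      calc MulAut.conj (d ^ (n + 1)) • K = MulAut.conj (d ^ n) • MulAut.conj d • K := by
            rw [pow_succ, H1.SZ.conj_mul_smul]
        _ = MulAut.conj (d ^ n * r) • K := by rw [h, ← H1.SZ.conj_mul_smul]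
        _ = MulAut.conj (r * d ^ n) • K := by rw [(hc.pow_right n).eq]
        _ = MulAut.conj (r ^ (n + 1)) • K := by
            rw [H1.SZ.conj_mul_smul, ih, ← H1.SZ.conj_mul_smul, pow_succ']
  have h1 := hpow (orderOf d)
  rw [pow_orderOf_eq_one, map_one, one_smul] at h1
  have h2 : r ^ orderOf d ∈ normalizer (K : Set G) := H1.SZ.mem_normalizer_of_conj_smul_eq h1.symm
  obtain ⟨k, hk⟩ := hR ⟨r, hr⟩
  have hk' : r ^ p ^ k = 1 := by simpa using congrArg Subtype.val hk
  have h3 : r ∈ normalizer (K : Set G) :=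
    H26.OPPrime.mem_of_pow_mem ⟨k, hk'⟩ hd h2
  rw [h, H1.SZ.conj_smul_eq_of_mem_normalizer h3]

/-- the product of the `R`-conjugates of `K` -/
def orb (R K : Subgroup G) : Subgroup G := ⨆ r : R, MulAut.conj (r : G) • K

theorem le_orb {R K : Subgroup G} {r : G} (hr : r ∈ R) : MulAut.conj r • K ≤ orb R K :=
  le_iSup (fun r : R => MulAut.conj (r : G) • K) ⟨r, hr⟩

theorem self_le_orb {R K : Subgroup G} : K ≤ orb R K := by
  have := le_orb (K := K) R.one_mem
  rwa [map_one, one_smul] at this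

theorem conj_orb (R K : Subgroup G) (g : G) :
    MulAut.conj g • orb R K = ⨆ r : R, MulAut.conj (g * r) • K := by
  rw [orb, H1.SZ.conj_smul_eq_map, Subgroup.map_iSup]
  congr 1
  funext r
  rw [H1.SZ.conj_mul_smul]; rfl

theorem R_le_normalizer_orb (R K : Subgroup G) : R ≤ normalizer (orb R K : Set G) := by
  apply le_normalizer_of_conj_mem
  intro r hr x hx
  have h1 : r * x * r⁻¹ ∈ MulAut.conj r • orb R K := by
    rw [H1.SZ.mem_conj_smul]
    have : r⁻¹ * (r * x * r⁻¹) * r = x := by group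
    rwa [this]
  rw [conj_orb] at h1
  have h2 : ⨆ s : R, MulAut.conj (r * s) • K ≤ orb R K :=
    iSup_le fun s => le_orb (R.mul_mem hr s.2)
  exact h2 h1

/-- dichotomy: an element `d` normalizing `H` and commuting with `R` of `p'`-order fixes `K` or
moves the whole orbit to a commuting one. -/
theorem dich (hRH : R ≤ normalizer (H : Set G)) (hR : IsPGroup p R) {K : Subgroup G}
    (hK : CompIn H K) {d : G} (hdH : d ∈ normalizer (H : Set G)) (hd : (orderOf d).Coprime p)
    (hrd : ∀ r ∈ R, r * d = d * r) :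
    MulAut.conj d • K = K ∨ ⁅MulAut.conj d • orb R K, orb R K⁆ = ⊥ := by
  by_cases hex : ∃ r ∈ R, ∃ s ∈ R, MulAut.conj (d * r) • K = MulAut.conj s • K
  · left
    obtain ⟨r, hr, s, hs, h⟩ := hex
    have h1 : MulAut.conj d • K = MulAut.conj (r⁻¹ * s) • K := by
      have h2 : d * r = r * d := (hrd r hr).symm
      rw [h2] at h
      have h3 := congrArg (fun X => MulAut.conj r⁻¹ • X) h
      simp only [← H1.SZ.conj_mul_smul] at h3
      rwa [inv_mul_cancel_left] at h3
    exact fixes_of_eq hR (R.mul_mem (R.inv_mem hr) hs) hd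
      (hrd _ (R.mul_mem (R.inv_mem hr) hs)) h1
  · right
    push Not at hex
    rw [conj_orb]
    refine commutator_iSup_left_eq_bot fun r => ?_
    rw [Subgroup.commutator_comm]
    refine commutator_iSup_left_eq_bot fun s => ?_
    have hKs := hK.conj (hRH s.2)
    have hKr := hK.conj (g := d * r) (mul_mem hdH (hRH r.2))
    exact (hKs.eq_or hKr).resolve_left fun h => hex r r.2 s s.2 h.symm

theorem opp_central_false (hO : pPrimeCore p H = ⊥) {K : Subgroup G} (hK : CompIn H K)
    (h : ∀ x ∈ K, (∃ k : ℕ, x ^ p ^ k = 1) → x ∈ centralizer (K : Set G)) : False := by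
  refine H26.OPPrime.not_dvd_card_of_perfect (p := p) hK.qs.1 ?_ (hK.dvd_card hO)
  rw [H26.OPPrime.opp, Subgroup.closure_le]
  rintro x ⟨-, k, hk⟩
  rw [SetLike.mem_coe, Subgroup.mem_center_iff]
  intro y
  apply Subtype.ext
  have h1 := h x x.2 ⟨k, by simpa using congrArg Subtype.val hk⟩
  exact Subgroup.mem_centralizer_iff.mp h1 y y.2

theorem orb_le (hRH : R ≤ normalizer (H : Set G)) {K : Subgroup G} (hK : CompIn H K) :
    orb R K ≤ (layer H).map H.subtype :=
  iSup_le fun r => (hK.conj (hRH r.2)).le_layer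

theorem orb_le' (hRH : R ≤ normalizer (H : Set G)) {K : Subgroup G} (hK : CompIn H K) :
    orb R K ≤ H := (orb_le hRH hK).trans (Subgroup.map_subtype_le _)

/-- the centre of the product of an orbit lies in `O_p(H)` -/
theorem orb_centre_le (hO : pPrimeCore p H = ⊥) (hRH : R ≤ normalizer (H : Set G))
    {K : Subgroup G} (hK : CompIn H K) :
    orb R K ⊓ centralizer (orb R K : Set G) ≤ pc p H := by
  refine le_pc_of_central hO (inf_le_left.trans (orb_le hRH hK)) fun M hM => ?_
  by_cases hex : ∃ r : R, MulAut.conj (r : G) • K = M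
  · obtain ⟨r, hr⟩ := hex
    rw [Subgroup.commutator_eq_bot_iff_le_centralizer]
    refine inf_le_right.trans (Subgroup.centralizer_le ?_)
    rw [← hr]
    exact le_orb r.2
  · push Not at hex
    refine commutator_eq_bot_mono ?_ (inf_le_left : _ ≤ orb R K) (le_refl M)
    exact commutator_iSup_left_eq_bot fun r =>
      ((hK.conj (hRH r.2)).eq_or hM).resolve_left (hex r)

theorem exists_e (hO : pPrimeCore p H = ⊥) (hR : IsPGroup p R)
    {K : Subgroup G} (hK : CompIn H K) :
    ∃ e ∈ orb R K, (∃ k : ℕ, e ^ p ^ k = 1) ∧ e ∉ centralizer (orb R K : Set G) ∧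
      ∀ r ∈ R, e⁻¹ * (r * e * r⁻¹) ∈ orb R K ⊓ centralizer (orb R K : Set G) := by
  set L := orb R K with hL
  set M := L ⊔ R with hM
  have hRM : R ≤ M := le_sup_right
  have hLM : L ≤ M := le_sup_left
  have hRL : R ≤ normalizer (L : Set G) := R_le_normalizer_orb R K
  have hMN : M ≤ normalizer (L : Set G) := sup_le Subgroup.le_normalizer hRL
  obtain ⟨P, hP⟩ := (hR.comap_subtype (K := M)).exists_le_sylow
  set P' : Subgroup G := (P : Subgroup M).map M.subtype with hP'
  have hRP : R ≤ P' := by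
    have := Subgroup.map_mono (f := M.subtype) hP
    change (R.subgroupOf M).map M.subtype ≤ _ at this
    rwa [map_subgroupOf_eq_of_le hRM] at this
  have hP'p : IsPGroup p P' := P.2.map _
  set P₁ := P' ⊓ L with hP₁
  have hP₁R : R ≤ normalizer (P₁ : Set G) :=
    le_normalizer_inf (hRP.trans Subgroup.le_normalizer) hRL
  have hP₁C : ¬ P₁ ≤ centralizer (L : Set G) := by
    intro hle
    apply opp_central_false hO hK
    intro x hx hxp
    have hxL : x ∈ L := self_le_orb hx
    -- conjugate into P'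
    have hxp' : IsPGroup p (zpowers x) := by
      obtain ⟨k, hk⟩ := hxp
      rw [isPGroup_iff_pow_pow_eq_one]
      rintro ⟨y, hy⟩
      obtain ⟨m, rfl⟩ := Subgroup.mem_zpowers_iff.mp hy
      refine ⟨k, Subtype.ext ?_⟩
      change (x ^ m) ^ p ^ k = 1
      rw [← zpow_natCast, ← zpow_mul, mul_comm, zpow_mul, zpow_natCast, hk, one_zpow]
    have hxM : zpowers x ≤ M := by rw [zpowers_le]; exact hLM hxL
    obtain ⟨Q, hQ⟩ := (hxp'.comap_subtype (K := M)).exists_le_sylow
    obtain ⟨m, hm⟩ := MulAction.exists_smul_eq M Q P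
    have h1 : (m : G) * x * (m : G)⁻¹ ∈ P' := by
      have h2 : (⟨x, hLM hxL⟩ : M) ∈ (Q : Subgroup M) := hQ (by
        rw [Subgroup.mem_comap]; exact mem_zpowers x)
      have h3 : m * ⟨x, hLM hxL⟩ * m⁻¹ ∈ (P : Subgroup M) := by
        rw [← hm]
        exact ⟨_, h2, rfl⟩
      exact ⟨_, h3, rfl⟩
    have h2 : (m : G) * x * (m : G)⁻¹ ∈ L := conj_mem_of_le_normalizer hMN m.2 hxL
    have h3 := hle ⟨h1, h2⟩
    have h4 := conj_mem_of_le_normalizer' (le_normalizer_centralizer hMN) m.2 h3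
    have e : (m : G)⁻¹ * ((m : G) * x * (m : G)⁻¹) * m = x := by group
    rw [e] at h4
    exact Subgroup.centralizer_le self_le_orb h4
  obtain ⟨U, ⟨hUP, hUR, hUC⟩, hmin⟩ := (Set.toFinite {U : Subgroup G | U ≤ P₁ ∧
    R ≤ normalizer (U : Set G) ∧ ¬ U ≤ centralizer (L : Set G)}).exists_minimal
    ⟨P₁, le_rfl, hP₁R, hP₁C⟩
  have hUp : IsPGroup p U := hP'p.to_le (hUP.trans inf_le_left)
  have hU1 : U ≠ ⊥ := by
    rintro rfl
    exact hUC bot_le
  have hlt := commutator_lt_of_isPGroup hR hUp hUR hU1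
  have hcom : ⁅U, R⁆ ≤ centralizer (L : Set G) := by
    by_contra hcon
    have := hmin ⟨hlt.le.trans hUP, le_normalizer_commutator_right U R, hcon⟩ hlt.le
    exact absurd hlt (not_lt_of_ge this)
  obtain ⟨e, heU, heC⟩ := SetLike.not_le_iff_exists.mp hUC
  refine ⟨e, (hUP heU).2, ?_, heC, fun r hr => ?_⟩
  · obtain ⟨k, hk⟩ := hUp ⟨e, heU⟩
    exact ⟨k, by simpa using congrArg Subtype.val hk⟩
  · have h1 : e⁻¹ * (r * e * r⁻¹) = ⁅e⁻¹, r⁆ := by rw [commutatorElement_def]; group
    have h2 : e⁻¹ * (r * e * r⁻¹) ∈ ⁅U, R⁆ := by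
      rw [h1]; exact Subgroup.commutator_mem_commutator (U.inv_mem heU) hr
    exact ⟨(hUP (hlt.le h2)).2, hcom h2⟩

/-- (b) `D` normalizes the components of `H` -/
theorem Hyp.fixes (h : Hyp p H R D) {K : Subgroup G} (hK : CompIn H K) {d : G} (hd : d ∈ D) :
    MulAut.conj d • K = K := by
  have hdo := h.orderOf_coprime hd
  have hdR : ∀ r ∈ R, r * d = d * r := fun r hr => h.hRD r hr d hd
  rcases dich h.hRH h.hR hK (h.hDH hd) hdo hdR with h1 | h1
  · exact h1
  exfalso
  obtain ⟨e, heL, ⟨k, hek⟩, heC, her⟩ := exists_e h.hO h.hR hK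
  set L := orb R K with hL
  have hLH : L ≤ H := orb_le' h.hRH hK
  have hZD : ∀ z ∈ L ⊓ centralizer (L : Set G), z * d = d * z := fun z hz =>
    commute_of_commutator_eq_bot h.pc_comm (orb_centre_le h.hO h.hRH hK hz) hd
  set e1 := d * e * d⁻¹ with he1
  set e2 := d * e1 * d⁻¹ with he2
  have he1L : e1 ∈ MulAut.conj d • L := by
    rw [H1.SZ.mem_conj_smul]
    have : d⁻¹ * e1 * d = e := by rw [he1]; group
    rwa [this]
  have h12 : ⁅MulAut.conj (d * d) • L, MulAut.conj d • L⁆ = ⊥ := by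
    have h2 := congrArg (Subgroup.map (MulAut.conj d).toMonoidHom) h1
    rw [Subgroup.map_commutator, Subgroup.map_bot] at h2
    rw [H1.SZ.conj_mul_smul]
    exact h2
  have he2L : e2 ∈ MulAut.conj (d * d) • L := by
    rw [H1.SZ.mem_conj_smul]
    have : (d * d)⁻¹ * e2 * (d * d) = e := by rw [he2, he1]; group
    rwa [this]
  have c1 : ∀ y ∈ L, Commute e1 y := fun y hy => commute_of_commutator_eq_bot h1 he1L hy
  have c2 : ∀ y ∈ MulAut.conj d • L, Commute e2 y := fun y hy =>
    commute_of_commutator_eq_bot h12 he2L hy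
  have c3 : ∀ y ∈ MulAut.conj d • L, Commute e y := fun y hy =>
    (commute_of_commutator_eq_bot h1 hy heL).symm
  set f := e⁻¹ * e1 with hf
  have he1H : e1 ∈ H := (Subgroup.mem_normalizer_iff.mp (h.hDH hd) e).mp (hLH heL)
  have hfH : f ∈ H := H.mul_mem (H.inv_mem (hLH heL)) he1H
  have hfR : f ∈ centralizer (R : Set G) := by
    rw [Subgroup.mem_centralizer_iff]
    intro r hr
    set z := e⁻¹ * (r * e * r⁻¹) with hz
    have hzL := her r hr
    have hzd := hZD z hzL
    have hze : z * e = e * z := ((Subgroup.mem_centralizer_iff.mp hzL.2) e heL).symm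
    have hr1 : r * e * r⁻¹ = e * z := by rw [hz]; group
    have hze1 : z * e1 = e1 * z := by
      calc z * e1 = z * d * e * d⁻¹ := by rw [he1]; group
        _ = d * z * e * d⁻¹ := by rw [hzd]
        _ = d * (z * e) * d⁻¹ := by group
        _ = d * (e * z) * d⁻¹ := by rw [hze]
        _ = d * e * (z * d⁻¹) := by group
        _ = d * e * (d⁻¹ * (d * z) * d⁻¹) := by group
        _ = d * e * (d⁻¹ * (z * d) * d⁻¹) := by rw [hzd]
        _ = e1 * z := by rw [he1]; group
    have hr2 : r * e1 * r⁻¹ = e1 * z := by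
      calc r * e1 * r⁻¹ = (r * d) * e * (r * d)⁻¹ := by rw [he1]; group
        _ = (d * r) * e * (d * r)⁻¹ := by rw [hdR r hr]
        _ = d * (r * e * r⁻¹) * d⁻¹ := by group
        _ = d * (e * z) * d⁻¹ := by rw [hr1]
        _ = d * e * (z * d⁻¹) := by group
        _ = d * e * (d⁻¹ * (d * z) * d⁻¹) := by group
        _ = d * e * (d⁻¹ * (z * d) * d⁻¹) := by rw [hzd]
        _ = e1 * z := by rw [he1]; group
    have hr3 : r * f * r⁻¹ = f := by
      calc r * f * r⁻¹ = (r * e * r⁻¹)⁻¹ * (r * e1 * r⁻¹) := by rw [hf]; group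
        _ = (e * z)⁻¹ * (e1 * z) := by rw [hr1, hr2]
        _ = (z * e)⁻¹ * (z * e1) := by rw [hze, hze1]
        _ = f := by rw [hf]; group
    calc r * f = (r * f * r⁻¹) * r := by group
      _ = f * r := by rw [hr3]
  have hfD := h.hCD ⟨hfH, hfR⟩
  set g := f⁻¹ * (d * f * d⁻¹) with hg
  have hgD : g ∈ D := by
    have h2 : g = (f⁻¹ * d * f) * d⁻¹ := by rw [hg]; group
    rw [h2]
    exact D.mul_mem ((Subgroup.mem_normalizer_iff''.mp hfD d).mp hd) (D.inv_mem hd)
  have hgo := h.orderOf_coprime hgD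
  set n := orderOf g with hn
  have hgn : g ^ n = 1 := pow_orderOf_eq_one g
  have hg1 : g = e1⁻¹ * e * (e1⁻¹ * e2) := by rw [hg, hf, he2, he1]; group
  have ce : Commute e1 e := c1 e heL
  have ce2 : Commute e2 e1 := c2 e1 he1L
  by_cases hp2 : p = 2
  · -- `p = 2`
    have hdd : (orderOf (d * d)).Coprime p := by
      rw [← pow_two]
      exact Nat.Coprime.coprime_dvd_left (orderOf_pow_dvd 2) hdo
    rcases dich h.hRH h.hR hK (mul_mem (h.hDH hd) (h.hDH hd)) hdd (fun r hr => by
        rw [← mul_assoc, hdR r hr, mul_assoc, hdR r hr, mul_assoc]) with h2 | h2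
    · have h3 := H1.SZ.mem_normalizer_of_conj_smul_eq h2
      rw [← pow_two] at h3
      have h4 : d ∈ normalizer (K : Set G) := by
        obtain ⟨m, hm⟩ := exists_pow_eq_self_of_coprime (n := 2) (x := d)
          (by rw [hp2] at hdo; exact hdo.symm)
        rw [← hm]
        exact Subgroup.pow_mem _ h3 m
      have h5 := H1.SZ.conj_smul_eq_of_mem_normalizer h4
      apply hK.not_comm
      refine commutator_eq_bot_mono h1 ?_ self_le_orb
      conv_lhs => rw [← h5]
      exact Subgroup.pointwise_smul_le_pointwise_smul_iff.mpr self_le_orb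
    · -- everything commutes
      have c4 : ∀ y ∈ L, Commute e2 y := fun y hy => commute_of_commutator_eq_bot h2 he2L hy
      have hg2 : g = e * (e1⁻¹ * e1⁻¹ * e2) := by
        rw [hg1, (ce.inv_left).eq]; group
      have cw : ∀ y ∈ L, Commute (e1⁻¹ * e1⁻¹ * e2) y := fun y hy =>
        (((c1 y hy).inv_left).mul_left ((c1 y hy).inv_left)).mul_left (c4 y hy)
      rw [hg2, ((cw e heL).symm).mul_pow] at hgn
      have h6 : e ^ n ∈ centralizer (L : Set G) := by
        rw [Subgroup.mem_centralizer_iff]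
        intro y hy
        have h7 : e ^ n = ((e1⁻¹ * e1⁻¹ * e2) ^ n)⁻¹ := eq_inv_of_mul_eq_one_left hgn
        rw [h7]
        exact (((cw y hy).pow_left n).inv_left).eq.symm
      exact heC (H26.OPPrime.mem_of_pow_mem ⟨k, hek⟩ hgo h6)
  · have hg2 : g = (e1⁻¹) ^ 2 * (e * e2) := by
      rw [hg1]
      calc e1⁻¹ * e * (e1⁻¹ * e2) = e1⁻¹ * (e * e1⁻¹) * e2 := by group
        _ = e1⁻¹ * (e1⁻¹ * e) * e2 := by rw [(ce.inv_left).eq]
        _ = (e1⁻¹) ^ 2 * (e * e2) := by rw [pow_two]; group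
    have cw : ∀ y ∈ MulAut.conj d • L, Commute (e * e2) y := fun y hy =>
      (c3 y hy).mul_left (c2 y hy)
    have cc : Commute ((e1⁻¹) ^ 2) (e * e2) := (((cw e1 he1L).symm).inv_left).pow_left 2
    rw [hg2, cc.mul_pow] at hgn
    have h6 : e1 ^ (2 * n) ∈ centralizer ((MulAut.conj d • L : Subgroup G) : Set G) := by
      rw [Subgroup.mem_centralizer_iff]
      intro y hy
      have h7 : e1 ^ (2 * n) = (e * e2) ^ n := by
        have h8 := eq_inv_of_mul_eq_one_left hgn
        rw [← pow_mul, inv_pow] at h8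
        exact inv_injective h8
      rw [h7]
      exact ((cw y hy).pow_left n).eq.symm
    have h7 : e ^ (2 * n) ∈ centralizer (L : Set G) := by
      rw [Subgroup.mem_centralizer_iff] at h6 ⊢
      intro y hy
      have h8 := h6 (d * y * d⁻¹) (by
        rw [SetLike.mem_coe, H1.SZ.mem_conj_smul]
        have : d⁻¹ * (d * y * d⁻¹) * d = y := by group
        rwa [this])
      have h9 : e1 ^ (2 * n) = d * e ^ (2 * n) * d⁻¹ := by rw [he1, conj_pow]
      rw [h9] at h8
      have h10 : d * (y * e ^ (2 * n)) * d⁻¹ = d * (e ^ (2 * n) * y) * d⁻¹ := by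
        calc d * (y * e ^ (2 * n)) * d⁻¹ = d * y * d⁻¹ * (d * e ^ (2 * n) * d⁻¹) := by group
          _ = d * e ^ (2 * n) * d⁻¹ * (d * y * d⁻¹) := h8
          _ = d * (e ^ (2 * n) * y) * d⁻¹ := by group
      exact mul_left_cancel (mul_right_cancel h10)
    have h8 : Nat.Coprime (2 * n) p :=
      Nat.Coprime.mul_left ((Nat.coprime_primes Nat.prime_two hp.out).mpr (Ne.symm hp2)) hgo
    exact heC (H26.OPPrime.mem_of_pow_mem ⟨k, hek⟩ h8 h7)

theorem Hyp.le_normalizer_comp (h : Hyp p H R D) {K : Subgroup G} (hK : CompIn H K) :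
    D ≤ normalizer (K : Set G) := fun _ hd =>
  H1.SZ.mem_normalizer_of_conj_smul_eq (h.fixes hK hd)

/-- (d) if `R` centralizes the component `K` then so does `D` -/
theorem Hyp.comm_of_centralized (h : Hyp p H R D) {K : Subgroup G} (hK : CompIn H K)
    (hKR : K ≤ centralizer (R : Set G)) : ⁅K, D⁆ = ⊥ := by
  have h1 : K ≤ normalizer (D : Set G) := (le_inf hK.1 hKR).trans h.hCD
  have h2 : D ≤ normalizer (K : Set G) := h.le_normalizer_comp hK
  have h3 : ⁅K, D⁆ ≤ K ⊓ D :=
    le_inf (Subgroup.le_normalizer_iff_commutator_le_left.mp h2)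
      (Subgroup.le_normalizer_iff_commutator_le_right.mp h1)
  have h4 : K ≤ normalizer ((K ⊓ D : Subgroup G) : Set G) :=
    le_normalizer_inf Subgroup.le_normalizer h1
  rcases hK.eq_or_of_le inf_le_left h4 with h5 | h5
  · exfalso
    have h6 : K ≤ D := inf_eq_left.mp h5
    have h7 := (hK.dvd_card h.hO).trans (Subgroup.card_dvd_of_le h6)
    exact (Nat.Prime.coprime_iff_not_dvd hp.out).mp h.hD.symm h7
  · apply commutator_eq_bot_of_perfect' hK.perfect
    exact commutator_eq_bot_mono h5 h3 le_rfl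

/-! ### the diagonal -/

/-- the ordered product of `a ^ i * x * a ^ (-i)`, `i < n`. -/
def dl (a : G) : ℕ → G → G
  | 0, _ => 1
  | n + 1, x => dl a n x * (a ^ n * x * (a ^ n)⁻¹)

theorem dl_succ (a : G) (n : ℕ) (x : G) : dl a (n + 1) x = dl a n x * (a ^ n * x * (a ^ n)⁻¹) := rfl

theorem dl_conj (a : G) (n : ℕ) (x : G) : a * dl a n x * a⁻¹ = x⁻¹ * dl a (n + 1) x := by
  induction n with
  | zero => simp [dl]
  | succ n ih =>
    calc a * dl a (n + 1) x * a⁻¹ = (a * dl a n x * a⁻¹) * (a * (a ^ n * x * (a ^ n)⁻¹) * a⁻¹) := by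
          rw [dl_succ]; group
      _ = x⁻¹ * dl a (n + 1) x * (a * (a ^ n * x * (a ^ n)⁻¹) * a⁻¹) := by rw [ih]
      _ = x⁻¹ * (dl a (n + 1) x * (a ^ (n + 1) * x * (a ^ (n + 1))⁻¹)) := by
          rw [pow_succ' a n]; group
      _ = _ := by rw [← dl_succ]

theorem dl_equiv {a d : G} (h : a * d = d * a) (n : ℕ) (x : G) :
    d * dl a n x * d⁻¹ = dl a n (d * x * d⁻¹) := by
  induction n with
  | zero => simp [dl]
  | succ n ih =>
    have hc : Commute a d := h
    have h2 : d * a ^ n = a ^ n * d := (hc.pow_left n).eq.symm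
    have h3 : d * (a ^ n)⁻¹ = (a ^ n)⁻¹ * d := ((hc.pow_left n).inv_left).eq.symm
    rw [dl_succ, dl_succ, ← ih]
    calc d * (dl a n x * (a ^ n * x * (a ^ n)⁻¹)) * d⁻¹
        = d * dl a n x * d⁻¹ * ((d * a ^ n) * x * (d * a ^ n)⁻¹) := by group
      _ = d * dl a n x * d⁻¹ * ((a ^ n * d) * x * (a ^ n * d)⁻¹) := by rw [h2]
      _ = d * dl a n x * d⁻¹ * (a ^ n * (d * x * d⁻¹) * (a ^ n)⁻¹) := by group

/-- commutation hypotheses: the conjugates of `K` under powers `a ^ i`, `i < p`, commute pairwise. -/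
def PW (p : ℕ) (a : G) (K : Subgroup G) : Prop :=
  ∀ i j : ℕ, i < j → j < p → ∀ x ∈ K, ∀ y ∈ K,
    Commute (a ^ i * x * (a ^ i)⁻¹) (a ^ j * y * (a ^ j)⁻¹)

theorem dl_commute {a : G} {K : Subgroup G} (hPW : PW p a K) {n : ℕ} :
    ∀ m : ℕ, n ≤ m → m < p → ∀ x ∈ K, ∀ y ∈ K, Commute (dl a n x) (a ^ m * y * (a ^ m)⁻¹) := by
  induction n with
  | zero => intro m _ _ x _ y _; exact Commute.one_left _
  | succ n ih =>
    intro m hm hmp x hx y hy
    rw [dl_succ]
    exact (ih m (by omega) hmp x hx y hy).mul_left (hPW n m (by omega) hmp x hx y hy)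

theorem dl_mul {a : G} {K : Subgroup G} (hPW : PW p a K) {n : ℕ} (hn : n ≤ p) {x y : G}
    (hx : x ∈ K) (hy : y ∈ K) : dl a n (x * y) = dl a n x * dl a n y := by
  induction n with
  | zero => simp [dl]
  | succ n ih =>
    have h1 := ih (by omega)
    have h2 : Commute (dl a n y) (a ^ n * x * (a ^ n)⁻¹) :=
      dl_commute hPW n le_rfl (by omega) y hy x hx
    rw [dl_succ, dl_succ, dl_succ, h1]
    calc dl a n x * dl a n y * (a ^ n * (x * y) * (a ^ n)⁻¹)
        = dl a n x * (dl a n y * (a ^ n * x * (a ^ n)⁻¹)) * (a ^ n * y * (a ^ n)⁻¹) := by group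
      _ = dl a n x * ((a ^ n * x * (a ^ n)⁻¹) * dl a n y) * (a ^ n * y * (a ^ n)⁻¹) := by rw [h2.eq]
      _ = _ := by group

/-- `x⁻¹ * dl a n x` commutes with `K` for `1 ≤ n ≤ p`. -/
theorem dl_commute' {a : G} {K : Subgroup G} (hPW : PW p a K) {n : ℕ} (hn1 : 1 ≤ n) (hn : n ≤ p)
    {x y : G} (hx : x ∈ K) (hy : y ∈ K) : Commute y (x⁻¹ * dl a n x) := by
  induction n, hn1 using Nat.le_induction with
  | base => simp [dl]
  | succ n hn1 ih =>
    rw [dl_succ, ← mul_assoc]
    refine (ih (by omega)).mul_right ?_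
    have := hPW 0 n (by omega) (by omega) y hy x hx
    simpa using this

theorem dl_fixed {a : G} (ha : a ^ p = 1) {K : Subgroup G} (hPW : PW p a K) {x : G} (hx : x ∈ K) :
    a * dl a p x * a⁻¹ = dl a p x := by
  rw [dl_conj, dl_succ, ha]
  have h1 := dl_commute' hPW hp.out.one_lt.le le_rfl hx hx
  have h2 : x * (x⁻¹ * dl a p x) = (x⁻¹ * dl a p x) * x := h1.eq
  calc x⁻¹ * (dl a p x * (1 * x * 1⁻¹)) = (x⁻¹ * dl a p x) * x := by group
    _ = x * (x⁻¹ * dl a p x) := h2.symm
    _ = dl a p x := by group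

theorem pw_of_moved {a : G} (haH : a ∈ normalizer (H : Set G)) (ha : a ^ p = 1) {K : Subgroup G}
    (hK : CompIn H K) (hmv : MulAut.conj a • K ≠ K) : PW p a K := by
  have key : ∀ i : ℕ, 0 < i → i < p → MulAut.conj (a ^ i) • K ≠ K := by
    intro i hi hip h
    apply hmv
    have h1 := H1.SZ.mem_normalizer_of_conj_smul_eq h
    have hcop : Nat.Coprime i (orderOf a) := by
      have h2 : orderOf a ∣ p := orderOf_dvd_of_pow_eq_one ha
      exact Nat.Coprime.coprime_dvd_right h2 ((Nat.Prime.coprime_iff_not_dvd hp.out).mpr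
        (fun h3 => absurd (Nat.le_of_dvd hi h3) (by omega))).symm
    obtain ⟨m, hm⟩ := exists_pow_eq_self_of_coprime hcop
    have h4 : a ∈ normalizer (K : Set G) := by
      rw [← hm]; exact Subgroup.pow_mem _ h1 m
    exact H1.SZ.conj_smul_eq_of_mem_normalizer h4
  intro i j hij hjp x hx y hy
  have h1 : ⁅K, MulAut.conj (a ^ (j - i)) • K⁆ = ⊥ :=
    (hK.eq_or (hK.conj (Subgroup.pow_mem _ haH _))).resolve_left
      fun h => key (j - i) (by omega) (by omega) h.symm
  have h2 : Commute x (a ^ (j - i) * y * (a ^ (j - i))⁻¹) :=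
    commute_of_commutator_eq_bot h1 hx (by
      rw [H1.SZ.mem_conj_smul]
      have : (a ^ (j - i))⁻¹ * (a ^ (j - i) * y * (a ^ (j - i))⁻¹) * a ^ (j - i) = y := by group
      rwa [this])
  have h3 : a ^ j * y * (a ^ j)⁻¹ = a ^ i * (a ^ (j - i) * y * (a ^ (j - i))⁻¹) * (a ^ i)⁻¹ := by
    have : a ^ j = a ^ i * a ^ (j - i) := by rw [← pow_add]; congr 1; omega
    rw [this]; group
  rw [h3]
  have h4 : x * (a ^ (j - i) * y * (a ^ (j - i))⁻¹) = (a ^ (j - i) * y * (a ^ (j - i))⁻¹) * x := h2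
  change (a ^ i * x * (a ^ i)⁻¹) * (a ^ i * (a ^ (j - i) * y * (a ^ (j - i))⁻¹) * (a ^ i)⁻¹) =
    (a ^ i * (a ^ (j - i) * y * (a ^ (j - i))⁻¹) * (a ^ i)⁻¹) * (a ^ i * x * (a ^ i)⁻¹)
  calc _ = a ^ i * (x * (a ^ (j - i) * y * (a ^ (j - i))⁻¹)) * (a ^ i)⁻¹ := by group
    _ = a ^ i * ((a ^ (j - i) * y * (a ^ (j - i))⁻¹) * x) * (a ^ i)⁻¹ := by rw [h4]
    _ = _ := by group

/-- (c) if `R = ⟨a⟩` has order `p` and `a` moves the component `K`, then `D` centralizes `K`. -/
theorem Hyp.comm_of_moved {a : G} (h : Hyp p H (zpowers a) D) (ha : a ^ p = 1) {K : Subgroup G}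
    (hK : CompIn H K) (hmv : MulAut.conj a • K ≠ K) : ⁅K, D⁆ = ⊥ := by
  have haH : a ∈ normalizer (H : Set G) := h.hRH (mem_zpowers a)
  have hPW := pw_of_moved haH ha hK hmv
  have hp1 : 1 ≤ p := hp.out.one_lt.le
  have hmemH : ∀ n, ∀ x ∈ K, dl a n x ∈ H := by
    intro n x hx
    induction n with
    | zero => exact H.one_mem
    | succ n ih =>
      rw [dl_succ]
      exact H.mul_mem ih ((Subgroup.mem_normalizer_iff.mp (Subgroup.pow_mem _ haH n) x).mp
        (hK.1 hx))
  have hfixed : ∀ x ∈ K, dl a p x ∈ H ⊓ centralizer ((zpowers a : Subgroup G) : Set G) := by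
    intro x hx
    refine Subgroup.mem_inf.mpr ⟨hmemH p x hx, ?_⟩
    rw [Subgroup.mem_centralizer_iff]
    intro b hb
    obtain ⟨m, rfl⟩ := Subgroup.mem_zpowers_iff.mp hb
    have h1 : Commute a (dl a p x) := by
      have := dl_fixed ha hPW hx
      calc a * dl a p x = (a * dl a p x * a⁻¹) * a := by group
        _ = dl a p x * a := by rw [this]
    exact (h1.zpow_left m).eq
  -- the subgroup of `x ∈ K` with diagonal in `D`
  let K' : Subgroup G :=
    { carrier := {x | x ∈ K ∧ dl a p x ∈ D}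
      mul_mem' := fun {x y} hx hy => ⟨K.mul_mem hx.1 hy.1, by
        rw [dl_mul hPW le_rfl hx.1 hy.1]; exact D.mul_mem hx.2 hy.2⟩
      one_mem' := ⟨K.one_mem, by
        have h1 := dl_mul hPW le_rfl K.one_mem K.one_mem
        rw [one_mul] at h1
        have h2 : dl a p 1 = 1 := by
          have h3 : dl a p 1 * dl a p 1 = dl a p 1 * 1 := by rw [← h1, mul_one]
          exact mul_left_cancel h3
        rw [h2]; exact D.one_mem⟩
      inv_mem' := fun {x} hx => ⟨K.inv_mem hx.1, by
        have h1 := dl_mul hPW le_rfl K.one_mem K.one_mem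
        rw [one_mul] at h1
        have h2 : dl a p 1 = 1 := by
          have h3 : dl a p 1 * dl a p 1 = dl a p 1 * 1 := by rw [← h1, mul_one]
          exact mul_left_cancel h3
        have h3 := dl_mul hPW le_rfl hx.1 (K.inv_mem hx.1)
        rw [mul_inv_cancel, h2] at h3
        have h4 : dl a p x⁻¹ = (dl a p x)⁻¹ := (inv_eq_of_mul_eq_one_right h3.symm).symm
        rw [h4]; exact D.inv_mem hx.2⟩ }
  have hone : dl a p 1 = 1 := by
    have h1 := dl_mul hPW le_rfl K.one_mem K.one_mem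
    rw [one_mul] at h1
    have h3 : dl a p 1 * dl a p 1 = dl a p 1 * 1 := by rw [← h1, mul_one]
    exact mul_left_cancel h3
  have hinv : ∀ x ∈ K, dl a p x⁻¹ = (dl a p x)⁻¹ := by
    intro x hx
    have h3 := dl_mul hPW le_rfl hx (K.inv_mem hx)
    rw [mul_inv_cancel, hone] at h3
    exact (inv_eq_of_mul_eq_one_right h3.symm).symm
  have hpow : ∀ x ∈ K, ∀ n : ℕ, dl a p (x ^ n) = (dl a p x) ^ n := by
    intro x hx n
    induction n with
    | zero => rw [pow_zero, pow_zero, hone]
    | succ n ih => rw [pow_succ, pow_succ, dl_mul hPW le_rfl (K.pow_mem hx n) hx, ih]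
  have hK'K : K' ≤ K := fun x hx => hx.1
  have hn : K ≤ normalizer (K' : Set G) := by
    apply le_normalizer_of_conj_mem
    intro y hy x hx
    refine ⟨K.mul_mem (K.mul_mem hy hx.1) (K.inv_mem hy), ?_⟩
    rw [dl_mul hPW le_rfl (K.mul_mem hy hx.1) (K.inv_mem hy), dl_mul hPW le_rfl hy hx.1, hinv y hy]
    exact (Subgroup.mem_normalizer_iff.mp (h.hCD (hfixed y hy)) _).mp hx.2
  have hcomm : ⁅K, D⁆ ≤ K' := by
    rw [Subgroup.commutator_le]
    intro x hx d hd
    have hdK := h.le_normalizer_comp hK hd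
    have h1 : d * x⁻¹ * d⁻¹ ∈ K := (Subgroup.mem_normalizer_iff.mp hdK _).mp (K.inv_mem hx)
    have e1 : ⁅x, d⁆ = x * (d * x⁻¹ * d⁻¹) := by rw [commutatorElement_def]; group
    rw [e1]
    refine ⟨K.mul_mem hx h1, ?_⟩
    rw [dl_mul hPW le_rfl hx h1, ← dl_equiv (h.hRD a (mem_zpowers a) d hd), hinv x hx]
    have e2 : dl a p x * (d * (dl a p x)⁻¹ * d⁻¹) = (dl a p x * d * (dl a p x)⁻¹) * d⁻¹ := by group
    rw [e2]
    exact D.mul_mem ((Subgroup.mem_normalizer_iff.mp (h.hCD (hfixed x hx)) _).mp hd) (D.inv_mem hd)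
  rcases hK.eq_or_of_le hK'K hn with h5 | h5
  · exfalso
    apply opp_central_false h.hO hK
    intro x hx ⟨k, hk⟩
    have h6 : dl a p x ∈ D := by
      have : x ∈ K' := h5 ▸ hx
      exact this.2
    have h7 : dl a p x = 1 := by
      have h8 : (dl a p x) ^ p ^ k = 1 := by rw [← hpow x hx, hk, hone]
      have h9 : orderOf (dl a p x) ∣ p ^ k := orderOf_dvd_of_pow_eq_one h8
      have h10 := h.orderOf_coprime h6
      have h11 : Nat.Coprime (orderOf (dl a p x)) (p ^ k) := Nat.Coprime.pow_right k h10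
      exact orderOf_eq_one_iff.mp (Nat.Coprime.eq_one_of_dvd h11 h9)
    rw [Subgroup.mem_centralizer_iff]
    intro y hy
    have h8 := dl_commute' hPW hp1 le_rfl hx hy
    rw [h7, mul_one] at h8
    have h9 := h8.inv_right
    rw [inv_inv] at h9
    exact h9.eq
  · apply commutator_eq_bot_of_perfect' hK.perfect
    exact commutator_eq_bot_mono h5 hcomm le_rfl

end H27.CompAct
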