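import Mathlib
import Cfsg.Prelude.Def_Balance
import Cfsg.Agent.Lib.H26.Components
import Cfsg.Agent.Lib.H27.CompAct

/-!
Components of the centralizer of an involution which lie in the layer.
-/

set_option autoImplicit false
set_option linter.unusedSectionVars false
set_option linter.style.haveILetI false

open Subgroup Cfsg H26.Basic H1.Coprime H1.Coprime2 H27.CompAct
open scoped Pointwise commutatorElement

namespace H27.Tricho

variable {G : Type*} [Group G]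

/-- an action trick for perfect groups -/
theorem perfect_trick {K F : Subgroup G} {a : G} (hperf : ⁅K, K⁆ = K) (hKa : K ≤ centralizer {a})
    (haF : a ∈ normalizer (F : Set G)) (hKF : K ≤ F ⊔ centralizer (F : Set G))
    (h : ⁅K, F ⊓ centralizer {a}⁆ = ⊥) : ⁅K, F⁆ = ⊥ := by
  have hFC : F ≤ normalizer ((centralizer (F : Set G) : Subgroup G) : Set G) :=
    le_normalizer_centralizer Subgroup.le_normalizer
  have haC : a ∈ normalizer ((centralizer (F : Set G) : Subgroup G) : Set G) :=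
    le_normalizer_centralizer (zpowers_le.mpr haF) (mem_zpowers a)
  have hcomm : ∀ f ∈ F, ∀ g ∈ centralizer (F : Set G), g * f = f * g := fun f hf g hg =>
    (mem_centralizer_iff.mp hg f hf).symm
  -- step 1
  have h1 : K ≤ (F ⊓ centralizer {a}) ⊔ centralizer (F : Set G) := by
    conv_lhs => rw [← hperf]
    rw [Subgroup.commutator_le]
    intro k₁ hk₁ k₂ hk₂
    have hdec : ∀ k ∈ K, ∃ f ∈ F, ∃ g ∈ centralizer (F : Set G), f * g = k ∧
        ∃ z ∈ centralizer (F : Set G), a * f * a⁻¹ = f * z := by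
      intro k hk
      obtain ⟨f, hf, g, hg, hfg⟩ :=
        (mem_sup_of_le_normalizer' (centralizer_le_normalizer (F : Set G))).mp (hKF hk)
      refine ⟨f, hf, g, hg, hfg, g * (a * g * a⁻¹)⁻¹, ?_, ?_⟩
      · exact mul_mem hg (inv_mem ((Subgroup.mem_normalizer_iff.mp haC g).mp hg))
      · have h2 := mem_centralizer_singleton_iff.mp (hKa hk)
        have h3 : a * (f * g) * a⁻¹ = f * g := by
          rw [hfg, ← h2]; group
        have h4 : a * f * a⁻¹ * (a * g * a⁻¹) = f * g := by rw [← h3]; group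
        rw [← mul_assoc, ← h4]; group
    obtain ⟨f₁, hf₁, g₁, hg₁, rfl, z₁, hz₁, e₁⟩ := hdec k₁ hk₁
    obtain ⟨f₂, hf₂, g₂, hg₂, rfl, z₂, hz₂, e₂⟩ := hdec k₂ hk₂
    have e : ⁅f₁ * g₁, f₂ * g₂⁆ = ⁅f₁, f₂⁆ * ⁅g₁, g₂⁆ := by
      rw [commutatorElement_def, commutatorElement_def, commutatorElement_def]
      have c1 := hcomm f₂ hf₂ g₁ hg₁
      have c2 := hcomm f₁⁻¹ (F.inv_mem hf₁) (g₂ * g₁⁻¹) (mul_mem hg₂ (inv_mem hg₁))
      have c3 := hcomm f₂⁻¹ (F.inv_mem hf₂) (g₁ * (g₂ * g₁⁻¹) * g₂⁻¹)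
        (mul_mem (mul_mem hg₁ (mul_mem hg₂ (inv_mem hg₁))) (inv_mem hg₂))
      have c4 := hcomm f₁⁻¹ (F.inv_mem hf₁) g₁ hg₁
      calc f₁ * g₁ * (f₂ * g₂) * (f₁ * g₁)⁻¹ * (f₂ * g₂)⁻¹
          = f₁ * (g₁ * f₂) * ((g₂ * g₁⁻¹) * f₁⁻¹) * g₂⁻¹ * f₂⁻¹ := by group
        _ = f₁ * f₂ * (g₁ * f₁⁻¹) * (g₂ * g₁⁻¹) * g₂⁻¹ * f₂⁻¹ := by rw [c1, c2]; group
        _ = f₁ * f₂ * f₁⁻¹ * ((g₁ * (g₂ * g₁⁻¹) * g₂⁻¹) * f₂⁻¹) := by rw [c4]; group
        _ = f₁ * f₂ * f₁⁻¹ * f₂⁻¹ * (g₁ * g₂ * g₁⁻¹ * g₂⁻¹) := by rw [c3]; group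
    rw [e]
    refine Subgroup.mul_mem_sup (mem_inf.mpr ⟨?_, ?_⟩) ?_
    · rw [commutatorElement_def]
      exact F.mul_mem (F.mul_mem (F.mul_mem hf₁ hf₂) (F.inv_mem hf₁)) (F.inv_mem hf₂)
    · rw [mem_centralizer_singleton_iff]
      have e3 : a * ⁅f₁, f₂⁆ * a⁻¹ = ⁅f₁, f₂⁆ := by
        have e4 : a * ⁅f₁, f₂⁆ * a⁻¹ = ⁅a * f₁ * a⁻¹, a * f₂ * a⁻¹⁆ := by
          simp only [commutatorElement_def]; group
        rw [e4, e₁, e₂, commutatorElement_def, commutatorElement_def]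
        have hzf₁ : ∀ f ∈ F, z₁ * f = f * z₁ := fun f hf => hcomm f hf z₁ hz₁
        have hzf₂ : ∀ f ∈ F, z₂ * f = f * z₂ := fun f hf => hcomm f hf z₂ hz₂
        have hz₁F : z₁ ∈ F := by
          have : z₁ = f₁⁻¹ * (a * f₁ * a⁻¹) := by rw [e₁]; group
          rw [this]
          exact F.mul_mem (F.inv_mem hf₁) ((Subgroup.mem_normalizer_iff.mp haF f₁).mp hf₁)
        calc f₁ * z₁ * (f₂ * z₂) * (f₁ * z₁)⁻¹ * (f₂ * z₂)⁻¹
            = f₁ * (z₁ * f₂) * z₂ * z₁⁻¹ * f₁⁻¹ * z₂⁻¹ * f₂⁻¹ := by group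
          _ = f₁ * f₂ * (z₂ * z₁) * z₁⁻¹ * f₁⁻¹ * z₂⁻¹ * f₂⁻¹ := by
              rw [hzf₁ f₂ hf₂, hzf₂ z₁ hz₁F]; group
          _ = f₁ * f₂ * (z₂ * f₁⁻¹) * z₂⁻¹ * f₂⁻¹ := by group
          _ = f₁ * f₂ * f₁⁻¹ * f₂⁻¹ := by rw [hzf₂ f₁⁻¹ (F.inv_mem hf₁)]; group
      have e5 : ⁅f₁, f₂⁆ * a = a * ⁅f₁, f₂⁆ := by
        conv_lhs => rw [← e3]
        group
      exact e5
    · rw [commutatorElement_def]
      exact mul_mem (mul_mem (mul_mem hg₁ hg₂) (inv_mem hg₁)) (inv_mem hg₂)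
  -- step 2
  rw [Subgroup.commutator_eq_bot_iff_le_centralizer]
  conv_lhs => rw [← hperf]
  rw [Subgroup.commutator_le]
  intro k₁ hk₁ k₂ hk₂
  obtain ⟨c₁, hc₁, g₁, hg₁, e₁⟩ :=
    (mem_sup_of_le_normalizer (inf_le_left.trans hFC)).mp (h1 hk₁)
  obtain ⟨c₂, hc₂, g₂, hg₂, e₂⟩ :=
    (mem_sup_of_le_normalizer (inf_le_left.trans hFC)).mp (h1 hk₂)
  have hk₁c₂ : k₁ * c₂ = c₂ * k₁ := commute_of_commutator_eq_bot h hk₁ hc₂
  have e : ⁅k₁, k₂⁆ = c₂ * (c₁ * ⁅g₁, g₂⁆ * c₁⁻¹) * c₂⁻¹ := by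
    have e3 : g₂ * c₁⁻¹ = c₁⁻¹ * g₂ := hcomm c₁⁻¹ (F.inv_mem hc₁.1) g₂ hg₂
    rw [← e₂, commutatorElement_def, commutatorElement_def]
    calc k₁ * (c₂ * g₂) * k₁⁻¹ * (c₂ * g₂)⁻¹ = (k₁ * c₂) * g₂ * k₁⁻¹ * g₂⁻¹ * c₂⁻¹ := by group
      _ = c₂ * (c₁ * g₁) * g₂ * (c₁ * g₁)⁻¹ * g₂⁻¹ * c₂⁻¹ := by rw [hk₁c₂, e₁]
      _ = c₂ * c₁ * g₁ * g₂ * g₁⁻¹ * (g₂ * c₁)⁻¹ * c₂⁻¹ := by group
      _ = c₂ * c₁ * g₁ * g₂ * g₁⁻¹ * (c₁ * g₂)⁻¹ * c₂⁻¹ := by rw [hcomm c₁ hc₁.1 g₂ hg₂]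
      _ = c₂ * (c₁ * (g₁ * g₂ * g₁⁻¹ * g₂⁻¹) * c₁⁻¹) * c₂⁻¹ := by group
  rw [e]
  have h3 : ⁅g₁, g₂⁆ ∈ centralizer (F : Set G) := by
    rw [commutatorElement_def]
    exact mul_mem (mul_mem (mul_mem hg₁ hg₂) (inv_mem hg₁)) (inv_mem hg₂)
  exact (Subgroup.mem_normalizer_iff.mp (hFC hc₂.1) _).mp
    ((Subgroup.mem_normalizer_iff.mp (hFC hc₁.1) _).mp h3)

variable {a : G}

theorem conj_conj_smul (haa : a * a = 1) (D : Subgroup G) :
    MulAut.conj a • (MulAut.conj a • D) = D := by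
  rw [smul_smul, ← map_mul, haa, map_one, one_smul]

/-- the orbit group `D Dᵃ` -/
theorem mem_normalizer_orb (haa : a * a = 1) (D : Subgroup G) :
    a ∈ normalizer ((D ⊔ MulAut.conj a • D : Subgroup G) : Set G) := by
  apply H1.SZ.mem_normalizer_of_conj_smul_eq
  rw [Subgroup.smul_sup, conj_conj_smul haa, sup_comm]

theorem isComponent_conj {D : Subgroup G} (hD : IsComponent D) (a : G) :
    IsComponent (MulAut.conj a • D) := by
  have := (H26.Components.map_conj_iff (K := D) a).mpr hD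
  rwa [← H1.SZ.conj_smul_eq_map] at this

theorem layer_le_orb_sup {D E : Subgroup G} (hD : IsComponent D) (hE : IsComponent E) :
    layer G ≤ (D ⊔ E) ⊔ centralizer ((D ⊔ E : Subgroup G) : Set G) := by
  refine sSup_le fun M hM => ?_
  have hM' : IsComponent M := hM
  by_cases h1 : M = D
  · rw [h1]; exact le_sup_left.trans le_sup_left
  by_cases h2 : M = E
  · rw [h2]; exact (le_sup_right).trans le_sup_left
  refine le_trans ?_ le_sup_right
  rw [← Subgroup.commutator_eq_bot_iff_le_centralizer]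
  exact commutator_sup_right_eq_bot (H26.Components.commutator_eq_bot_of_ne hM' hD h1)
    (H26.Components.commutator_eq_bot_of_ne hM' hE h2)

theorem exists_orbit (haa : a * a = 1) {K : Subgroup G} (hK : CompIn (centralizer {a}) K)
    (hKE : K ≤ layer G) : ∃ D, IsComponent D ∧ K ≤ D ⊔ MulAut.conj a • D := by
  by_contra hcon
  push Not at hcon
  have hcent : ∀ D : Subgroup G, IsComponent D → ⁅K, D⁆ = ⊥ := by
    intro D hD
    have hDa := isComponent_conj hD a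
    set F := D ⊔ MulAut.conj a • D with hF
    have haF : a ∈ normalizer (F : Set G) := mem_normalizer_orb haa D
    have hKF : K ≤ normalizer (F : Set G) :=
      hKE.trans (le_normalizer_sup (H26.Components.layer_le_normalizer hD)
        (H26.Components.layer_le_normalizer hDa))
    have hKn : K ≤ normalizer ((F ⊓ centralizer {a} : Subgroup G) : Set G) :=
      le_normalizer_inf hKF (hK.1.trans Subgroup.le_normalizer)
    have h1 : ⁅K, F ⊓ centralizer {a}⁆ = ⊥ := by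
      set C := centralizer ({a} : Set G) with hC
      have h2 : K.subgroupOf C ≤ normalizer (((F ⊓ C).subgroupOf C : Subgroup C) : Set C) := by
        apply le_normalizer_of_conj_mem
        intro x hx y hy
        exact conj_mem_of_le_normalizer hKn hx hy
      rcases H26.Components.le_or_commutator_eq_bot_of_le_normalizer hK.2 h2 with h3 | h3
      · exfalso
        apply hcon D hD
        intro k hk
        have h4 : (⟨k, hK.1 hk⟩ : C) ∈ (F ⊓ C).subgroupOf C := h3 hk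
        exact (mem_inf.mp (Subgroup.mem_subgroupOf.mp h4)).1
      · rwa [subgroupOf_commutator_eq_bot_iff hK.1 inf_le_right] at h3
    have h5 := perfect_trick hK.perfect hK.1 haF (hKE.trans (layer_le_orb_sup hD hDa)) h1
    exact commutator_eq_bot_mono h5 le_rfl le_sup_left
  apply hK.not_comm
  have h1 : ⁅layer G, K⁆ = ⊥ := by
    apply commutator_sSup_left_eq_bot
    intro D hD
    rw [Subgroup.commutator_comm]
    exact hcent D hD
  exact commutator_eq_bot_mono h1 hKE le_rfl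

/-- the diagonal map `x ↦ x xᵃ` -/
def diag {D : Subgroup G} (hcomm : ⁅D, MulAut.conj a • D⁆ = ⊥) : D →* G where
  toFun x := x * (a * x * a⁻¹)
  map_one' := by simp
  map_mul' x y := by
    have h1 : a * (x : G) * a⁻¹ ∈ MulAut.conj a • D := by
      rw [H1.SZ.mem_conj_smul]
      have : a⁻¹ * (a * (x : G) * a⁻¹) * a = x := by group
      rw [this]; exact x.2
    have h2 : (y : G) * (a * x * a⁻¹) = (a * x * a⁻¹) * y :=
      commute_of_commutator_eq_bot hcomm y.2 h1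
    change (x : G) * y * (a * (x * y) * a⁻¹) = x * (a * x * a⁻¹) * (y * (a * y * a⁻¹))
    calc (x : G) * y * (a * (x * y) * a⁻¹) = x * (y * (a * x * a⁻¹)) * (a * y * a⁻¹) := by group
      _ = x * (a * x * a⁻¹) * (y * (a * y * a⁻¹)) := by rw [h2]; group

theorem diag_apply {D : Subgroup G} (hcomm : ⁅D, MulAut.conj a • D⁆ = ⊥) (x : D) :
    diag hcomm x = x * (a * x * a⁻¹) := rfl

theorem conj_mem_smul {D : Subgroup G} {x : G} (hx : x ∈ D) : a * x * a⁻¹ ∈ MulAut.conj a • D := by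
  rw [H1.SZ.mem_conj_smul]
  have : a⁻¹ * (a * x * a⁻¹) * a = x := by group
  rwa [this]

theorem diag_le (haa : a * a = 1) {D : Subgroup G} (hcomm : ⁅D, MulAut.conj a • D⁆ = ⊥) :
    (diag hcomm).range ≤ (D ⊔ MulAut.conj a • D) ⊓ centralizer {a} := by
  rintro _ ⟨x, rfl⟩
  have hainv : a⁻¹ = a := (eq_inv_of_mul_eq_one_left haa).symm
  have h1 := conj_mem_smul (a := a) x.2
  refine mem_inf.mpr ⟨Subgroup.mul_mem_sup x.2 h1, ?_⟩
  rw [mem_centralizer_singleton_iff, diag_apply]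
  have h2 : (x : G) * (a * x * a⁻¹) = (a * x * a⁻¹) * x := commute_of_commutator_eq_bot hcomm x.2 h1
  have h3 : a * a * (x : G) = x := by rw [haa, one_mul]
  calc (x : G) * (a * x * a⁻¹) * a = x * a * x := by group
    _ = a * (a * x * a⁻¹) * x := by
        rw [hainv]
        calc (x : G) * a * x = (a * a * x) * a * x := by rw [h3]
          _ = a * (a * x * a) * x := by group
    _ = a * (x * (a * x * a⁻¹)) := by rw [h2]; group

/-- fixed points of `a` on `D Dᵃ` -/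
theorem fixed_le (haa : a * a = 1) {D : Subgroup G} (hcomm : ⁅D, MulAut.conj a • D⁆ = ⊥) :
    (D ⊔ MulAut.conj a • D) ⊓ centralizer {a} ≤
      (diag hcomm).range ⊔ (D ⊓ MulAut.conj a • D) := by
  have hainv : a⁻¹ = a := (eq_inv_of_mul_eq_one_left haa).symm
  rintro y hy
  obtain ⟨hyF, hya⟩ := mem_inf.mp hy
  obtain ⟨u, hu, w, hw, rfl⟩ := (mem_sup_of_commutator_eq_bot hcomm).mp hyF
  rw [H1.SZ.mem_conj_smul] at hw
  set v := a⁻¹ * w * a with hv
  have hwv : w = a * v * a⁻¹ := by rw [hv]; group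
  rw [mem_centralizer_singleton_iff, hwv] at hya
  -- `u * vᵃ` is fixed
  have h1 : a * u * a⁻¹ * v = u * (a * v * a⁻¹) := by
    have e : a * (u * (a * v * a⁻¹)) * a⁻¹ = u * (a * v * a⁻¹) := by rw [← hya]; group
    have e2 : a * (u * (a * v * a⁻¹)) * a⁻¹ = (a * u * a⁻¹) * (a * a * v * (a * a)⁻¹) := by group
    rw [e2, haa, one_mul, inv_one, mul_one] at e
    exact e
  have hua : a * u * a⁻¹ ∈ MulAut.conj a • D := conj_mem_smul hu
  have hva : a * v * a⁻¹ ∈ MulAut.conj a • D := conj_mem_smul hw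
  have h2 : v * (a * u * a⁻¹) = (a * u * a⁻¹) * v := commute_of_commutator_eq_bot hcomm hw hua
  -- `z = v⁻¹ u`
  have h3 : v⁻¹ * u = (a * u * a⁻¹) * (a * v * a⁻¹)⁻¹ := by
    rw [← h2] at h1
    calc v⁻¹ * u = v⁻¹ * (u * (a * v * a⁻¹)) * (a * v * a⁻¹)⁻¹ := by group
      _ = v⁻¹ * (v * (a * u * a⁻¹)) * (a * v * a⁻¹)⁻¹ := by rw [h1]
      _ = (a * u * a⁻¹) * (a * v * a⁻¹)⁻¹ := by group
  have hz1 : v⁻¹ * u ∈ D := D.mul_mem (D.inv_mem hw) hu
  have hz2 : v⁻¹ * u ∈ MulAut.conj a • D := by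
    rw [h3]; exact mul_mem hua (inv_mem hva)
  have hz3 : (v⁻¹ * u) * (a * v * a⁻¹) = (a * v * a⁻¹) * (v⁻¹ * u) :=
    commute_of_commutator_eq_bot hcomm hz1 hva
  have e : u * w = (v * (a * v * a⁻¹)) * (v⁻¹ * u) := by
    rw [hwv]
    calc u * (a * v * a⁻¹) = v * ((v⁻¹ * u) * (a * v * a⁻¹)) := by group
      _ = (v * (a * v * a⁻¹)) * (v⁻¹ * u) := by rw [hz3]; group
  rw [e]
  exact Subgroup.mul_mem_sup ⟨⟨v, hw⟩, rfl⟩ (mem_inf.mpr ⟨hz1, hz2⟩)

theorem range_diag_perfect {D : Subgroup G} (hD : ⁅D, D⁆ = D)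
    (hcomm : ⁅D, MulAut.conj a • D⁆ = ⊥) :
    ⁅(diag hcomm).range, (diag hcomm).range⁆ = (diag hcomm).range := by
  have h1 : ⁅(⊤ : Subgroup D), (⊤ : Subgroup D)⁆ = ⊤ := by
    apply Subgroup.map_injective D.subtype_injective
    rw [Subgroup.map_commutator, ← MonoidHom.range_eq_map, Subgroup.range_subtype, hD]
  rw [MonoidHom.range_eq_map, ← Subgroup.map_commutator, h1]

/-- **trichotomy**: a component of `C(a)` in the layer -/
theorem trichotomy [Finite G] (haa : a * a = 1) {K : Subgroup G} (hK : CompIn (centralizer {a}) K)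
    (hKE : K ≤ layer G) : ∃ D, IsComponent D ∧ (K = D ∨ (K < D ∧ MulAut.conj a • D = D ∧
      D = ⁅D, zpowers a⁆) ∨ (MulAut.conj a • D ≠ D ∧ ∃ hcomm : ⁅D, MulAut.conj a • D⁆ = ⊥,
        K = (diag hcomm).range)) := by
  obtain ⟨D, hD, hKF⟩ := exists_orbit haa hK hKE
  refine ⟨D, hD, ?_⟩
  have hDa := isComponent_conj hD a
  by_cases hDD : MulAut.conj a • D = D
  · rw [hDD, sup_idem] at hKF
    by_cases hKD : K = D
    · exact Or.inl hKD
    right; left
    refine ⟨lt_of_le_of_ne hKF hKD, hDD, ?_⟩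
    have haD : zpowers a ≤ normalizer (D : Set G) := by
      rw [zpowers_le]; exact H1.SZ.mem_normalizer_of_conj_smul_eq hDD
    have hle : ⁅D, zpowers a⁆ ≤ D := commutator_le_left haD
    have hn : ((⁅D, zpowers a⁆).subgroupOf D).Normal :=
      (Subgroup.normal_subgroupOf_iff_le_normalizer hle).mpr (le_normalizer_commutator_left _ _)
    rcases H26.Components.normal_eq_or_le_center_of_le hD.2 hn hle with h | h
    · exact h.symm
    · exfalso
      have h1 : ⁅D, zpowers a⁆ = ⊥ := commutator_eq_bot_of_perfect' (H26.Components.isPerfect hD) h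
      have h2 : D ≤ centralizer {a} := by
        rw [Subgroup.commutator_eq_bot_iff_le_centralizer, zpowers_eq_closure,
          centralizer_closure] at h1
        exact h1
      have h3 := H26.Components.subgroupOf_of_le hD h2
      apply hKD
      have h4 := H26.Components.eq_of_le hK.2 h3 (Subgroup.comap_mono hKF)
      have h5 := congrArg (Subgroup.map (centralizer {a}).subtype) h4
      rwa [map_subgroupOf_eq_of_le hK.1, map_subgroupOf_eq_of_le h2] at h5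
  · right; right
    have hcomm := H26.Components.commutator_eq_bot_of_ne hD hDa (Ne.symm hDD)
    refine ⟨hDD, hcomm, ?_⟩
    set R := (diag hcomm).range with hR
    have hRperf : ⁅R, R⁆ = R := range_diag_perfect (H26.Components.isPerfect hD) hcomm
    have hRC : R ≤ centralizer {a} := (diag_le haa hcomm).trans inf_le_right
    have hRF : R ≤ D ⊔ MulAut.conj a • D := (diag_le haa hcomm).trans inf_le_left
    have hKR : K ≤ R := by
      set Z := D ⊓ MulAut.conj a • D with hZ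
      have h1 : K ≤ R ⊔ Z := (le_inf hKF hK.1).trans (fixed_le haa hcomm)
      have hZF : ⁅D ⊔ MulAut.conj a • D, Z⁆ = ⊥ := by
        apply commutator_sup_left_eq_bot
        · exact commutator_eq_bot_mono hcomm le_rfl inf_le_right
        · rw [Subgroup.commutator_comm]
          exact commutator_eq_bot_mono hcomm inf_le_left le_rfl
      have hZn : R ≤ normalizer (Z : Set G) := by
        refine le_trans ?_ (centralizer_le_normalizer (Z : Set G))
        rw [← Subgroup.commutator_eq_bot_iff_le_centralizer]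
        exact commutator_eq_bot_mono hZF hRF le_rfl
      conv_lhs => rw [← hK.perfect]
      rw [Subgroup.commutator_le]
      intro k₁ hk₁ k₂ hk₂
      obtain ⟨r₁, hr₁, z₁, hz₁, rfl⟩ := (mem_sup_of_le_normalizer hZn).mp (h1 hk₁)
      obtain ⟨r₂, hr₂, z₂, hz₂, rfl⟩ := (mem_sup_of_le_normalizer hZn).mp (h1 hk₂)
      have hz : ∀ z ∈ Z, ∀ f ∈ D ⊔ MulAut.conj a • D, z * f = f * z := fun z hz f hf =>
        (commute_of_commutator_eq_bot hZF hf hz).symm
      have hZle : Z ≤ D ⊔ MulAut.conj a • D := inf_le_left.trans le_sup_left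
      have e : ⁅r₁ * z₁, r₂ * z₂⁆ = ⁅r₁, r₂⁆ := by
        rw [commutatorElement_def, commutatorElement_def]
        calc r₁ * z₁ * (r₂ * z₂) * (r₁ * z₁)⁻¹ * (r₂ * z₂)⁻¹
            = r₁ * (z₁ * r₂) * z₂ * z₁⁻¹ * r₁⁻¹ * z₂⁻¹ * r₂⁻¹ := by group
          _ = r₁ * r₂ * (z₂ * z₁) * z₁⁻¹ * r₁⁻¹ * z₂⁻¹ * r₂⁻¹ := by
              rw [hz z₁ hz₁ r₂ (hRF hr₂), hz z₂ hz₂ z₁ (hZle hz₁)]; group
          _ = r₁ * r₂ * (z₂ * r₁⁻¹) * z₂⁻¹ * r₂⁻¹ := by group
          _ = r₁ * r₂ * r₁⁻¹ * r₂⁻¹ := by rw [hz z₂ hz₂ r₁⁻¹ (inv_mem (hRF hr₁))]; group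
      rw [e]
      rw [← hRperf]
      exact Subgroup.commutator_mem_commutator hr₁ hr₂
    -- `R` is quasisimple
    have hKne : K ≠ ⊥ := by
      rintro rfl
      exact hK.not_comm (by rw [Subgroup.commutator_bot_left])
    have hRnt : Nontrivial R := (Subgroup.nontrivial_iff_ne_bot R).mpr fun h =>
      hKne (le_bot_iff.mp (h ▸ hKR))
    have hRqs : IsQuasisimple R :=
      H26.Quasisimple.of_surjective hD.2 (diag hcomm).rangeRestrict
        (diag hcomm).rangeRestrict_surjective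
    have hsub : (K.subgroupOf R).IsSubnormal := by
      have h1 := hK.2.1.comap (Subgroup.inclusion hRC)
      exact h1
    rcases H26.Quasisimple.subnormal_eq_top_or_le_center hRqs hsub with h | h
    · rw [Subgroup.subgroupOf_eq_top] at h
      exact le_antisymm hKR h
    · exfalso
      apply hK.not_comm
      rw [commutator_eq_bot_iff_forall]
      intro x hx y hy
      have h1 : (⟨x, hKR hx⟩ : R) ∈ center R := h hx
      exact (congrArg Subtype.val (Subgroup.mem_center_iff.mp h1 ⟨y, hKR hy⟩)).symm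

end H27.Tricho
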