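import Mathlib
import Cfsg.Prelude.Def_Balance
import Cfsg.Agent.Lib.H27.LBalTwo
import Cfsg.Agent.Lib.H27.Tricho
import Cfsg.Agent.Lib.H27.ElAb2

/-!
Maximal components of centralizers of involutions in a group with the `B`-property.
-/

set_option autoImplicit false
set_option linter.unusedSectionVars false
set_option linter.style.haveILetI false

open Subgroup Cfsg H26.Basic H26.LocalFitting H26.PComponents H1.Coprime H1.Coprime2
open H27.CompAct H27.Tricho H27
open scoped Pointwise commutatorElement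

universe u

namespace H27.MaxComp

variable {G : Type u} [Group G] [Finite G]

local instance instFactTwo : Fact (Nat.Prime 2) := ⟨Nat.prime_two⟩

/-- components of `C_X(a)` of even order lie in the `2`-layer -/
theorem le_pLayer_of_compIn (hZ : H26.ZStarUse.ZStarHyp.{u}) {a : G} (ha : a * a = 1)
    {K : Subgroup G} (hK : CompIn (centralizer {a}) K) (heven : 2 ∣ Nat.card K) :
    K ≤ pLayer 2 G := by
  have haP : IsPGroup 2 (zpowers a) := by
    rw [isPGroup_iff_pow_pow_eq_one]
    rintro ⟨y, hy⟩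
    obtain ⟨i, rfl⟩ := mem_zpowers_iff.mp hy
    refine ⟨1, Subtype.ext ?_⟩
    change (a ^ i) ^ 2 ^ 1 = 1
    rw [pow_one, ← zpow_natCast, ← zpow_mul, mul_comm, zpow_mul, zpow_natCast, pow_two, ha,
      one_zpow]
  have hcent : centralizer ((zpowers a : Subgroup G) : Set G) = centralizer ({a} : Set G) := by
    rw [zpowers_eq_closure, centralizer_closure]
  have hKc : IsPComponent 2 (K.subgroupOf (centralizer {a})) := by
    apply of_isComponent hK.2
    intro h
    have h1 : (Nat.card (K.subgroupOf (centralizer {a}))).Coprime 2 :=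
      Nat.Coprime.coprime_dvd_left (Subgroup.card_dvd_of_le h) (H1.Cores.coprime_card_pPrimeCore 2)
    rw [H1.SZ.card_subgroupOf_of_le hK.1] at h1
    have := Nat.Coprime.eq_one_of_dvd h1.symm heven
    omega
  have hPC : LBalTwo.PC (centralizer {a}) K := by
    have := LBalTwo.PC.of_isPComponent hKc
    rwa [map_subgroupOf_eq_of_le hK.1] at this
  rw [← hcent] at hPC
  exact hPC.le_pLayer hZ haP

/-- the diagonal case is impossible -/
theorem diag_case {H : Type u} [Group H] [Finite H] {a : H} (haa : a * a = 1) {K : Subgroup H}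
    (hK : CompIn (centralizer {a}) K) {D : Subgroup H} (hD : IsComponent D)
    (hDa : MulAut.conj a • D ≠ D) (hcomm : ⁅D, MulAut.conj a • D⁆ = ⊥)
    (hKd : K = (diag hcomm).range) (hcard : Nat.card D ≤ Nat.card K)
    (hrk : ¬ PRankLE 2 1 K) (B : Subgroup H) (hB : IsElementaryAbelian 2 B) (haB : a ∈ B)
    (hBK : ⁅B, K⁆ = ⊥) :
    ∃ W : Subgroup H, IsElementaryAbelian 2 W ∧ W ≤ centralizer (D : Set H) ∧
      2 * Nat.card B ≤ Nat.card W := by
  have hainv : a⁻¹ = a := (eq_inv_of_mul_eq_one_left haa).symm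
  have hinj : Function.Injective (diag hcomm) := by
    have h1 : Nat.card (diag hcomm).range = Nat.card D :=
      le_antisymm (Nat.card_le_card_of_surjective _ (diag hcomm).rangeRestrict_surjective)
        (by rw [← hKd]; exact hcard)
    have h2 : Function.Bijective (diag hcomm).rangeRestrict := by
      rw [Nat.bijective_iff_surjective_and_card]
      exact ⟨(diag hcomm).rangeRestrict_surjective, h1.symm⟩
    exact (MonoidHom.rangeRestrict_injective_iff).mp h2.1
  have hinj' : ∀ x ∈ D, ∀ y ∈ D, x * (a * x * a⁻¹) = y * (a * y * a⁻¹) → x = y := by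
    intro x hx y hy h
    exact congrArg Subtype.val (hinj (a₁ := ⟨x, hx⟩) (a₂ := ⟨y, hy⟩) h)
  have hKF : K ≤ D ⊔ MulAut.conj a • D := by
    rw [hKd]; exact (diag_le haa hcomm).trans inf_le_left
  have hDac := isComponent_conj hD a
  have hβa : ∀ β ∈ B, β * a = a * β := fun β hβ => ElAb.comm hB β hβ a haB
  -- `B` permutes `{D, Dᵃ}`
  have hperm : ∀ β ∈ B, MulAut.conj β • D = D ∨ MulAut.conj β • D = MulAut.conj a • D := by
    intro β hβ
    by_contra hcon
    push Not at hcon
    obtain ⟨h1, h2⟩ := hcon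
    have hc1 := isComponent_conj hD β
    have hc2 := isComponent_conj hDac β
    have e1 : MulAut.conj β • (MulAut.conj a • D) = MulAut.conj a • (MulAut.conj β • D) := by
      rw [smul_smul, smul_smul, ← map_mul, ← map_mul, hβa β hβ]
    have h3 : MulAut.conj β • (MulAut.conj a • D) ≠ MulAut.conj a • D := by
      rw [e1]
      intro h
      apply h1
      have := congrArg (fun S => MulAut.conj a • S) h
      simpa only [conj_conj_smul haa] using this
    have h4 : MulAut.conj β • (MulAut.conj a • D) ≠ D := by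
      rw [e1]
      intro h
      apply h2
      have := congrArg (fun S => MulAut.conj a • S) h
      simpa only [conj_conj_smul haa] using this
    have h5 : ⁅D ⊔ MulAut.conj a • D, MulAut.conj β • D ⊔ MulAut.conj β • (MulAut.conj a • D)⁆
        = ⊥ := by
      apply commutator_sup_left_eq_bot
      · exact commutator_sup_right_eq_bot
          (H26.Components.commutator_eq_bot_of_ne hD hc1 (Ne.symm h1))
          (H26.Components.commutator_eq_bot_of_ne hD hc2 (Ne.symm h4))
      · exact commutator_sup_right_eq_bot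
          (H26.Components.commutator_eq_bot_of_ne hDac hc1 (Ne.symm h2))
          (H26.Components.commutator_eq_bot_of_ne hDac hc2 (Ne.symm h3))
    have h6 : K ≤ MulAut.conj β • D ⊔ MulAut.conj β • (MulAut.conj a • D) := by
      rw [← Subgroup.smul_sup]
      intro k hk
      rw [H1.SZ.mem_conj_smul]
      have h7 : β * k = k * β := commute_of_commutator_eq_bot hBK hβ hk
      have : β⁻¹ * k * β = k := by rw [mul_assoc, ← h7]; group
      rw [this]; exact hKF hk
    exact hK.not_comm (commutator_eq_bot_mono h5 hKF h6)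
  set B₀ := B ⊓ normalizer (D : Set H) with hB₀
  -- `B = B₀ ⟨a⟩`
  have haz : Nat.card (zpowers a) ≤ 2 := by
    rw [Nat.card_zpowers]
    exact Nat.le_of_dvd (by norm_num) (orderOf_dvd_of_pow_eq_one (by rw [pow_two, haa]))
  have hB₀a : ⁅B₀, zpowers a⁆ = ⊥ := by
    rw [commutator_eq_bot_iff_forall]
    intro x hx y hy
    exact ElAb.comm hB x hx.1 y ((zpowers_le.mpr haB) hy)
  have hBle : B ≤ B₀ ⊔ zpowers a := by
    intro β hβ
    rcases hperm β hβ with h | h
    · exact (le_sup_left : B₀ ≤ _) (mem_inf.mpr ⟨hβ, H1.SZ.mem_normalizer_of_conj_smul_eq h⟩)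
    · have h1 : a * β ∈ B₀ := by
        refine mem_inf.mpr ⟨B.mul_mem haB hβ, H1.SZ.mem_normalizer_of_conj_smul_eq ?_⟩
        rw [map_mul, ← smul_smul, h, conj_conj_smul haa]
      have e : β = a⁻¹ * (a * β) := by group
      rw [e]
      exact mul_mem (inv_mem (le_sup_right (a := B₀) (mem_zpowers a))) (le_sup_left (a := B₀) h1)
  have hcardB : Nat.card B ≤ Nat.card B₀ * 2 :=
    (Subgroup.card_le_of_le hBle).trans ((ElAb.card_sup_le hB₀a).trans (Nat.mul_le_mul_left _ haz))
  -- `B₀` centralizes `D`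
  have hB₀D : ∀ β ∈ B₀, ∀ x ∈ D, β * x = x * β := by
    intro β hβ x hx
    have hβB : β ∈ B := hβ.1
    have hy : β * x * β⁻¹ ∈ D := (Subgroup.mem_normalizer_iff.mp (mem_inf.mp hβ).2 x).mp hx
    have hk : x * (a * x * a⁻¹) ∈ K := by rw [hKd]; exact ⟨⟨x, hx⟩, rfl⟩
    have h1 := commute_of_commutator_eq_bot hBK hβB hk
    have h2 : β * (x * (a * x * a⁻¹)) * β⁻¹ = x * (a * x * a⁻¹) := by rw [h1]; group
    have h3 : β * x * β⁻¹ * (a * (β * x * β⁻¹) * a⁻¹) = x * (a * x * a⁻¹) := by
      rw [← h2]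
      have h4 := hβa β hβB
      have h5 : a * β = β * a := h4.symm
      have h6 : β⁻¹ * a⁻¹ = a⁻¹ * β⁻¹ := by
        rw [← mul_inv_rev, ← mul_inv_rev, h5]
      calc β * x * β⁻¹ * (a * (β * x * β⁻¹) * a⁻¹)
          = β * x * β⁻¹ * ((a * β) * x * (β⁻¹ * a⁻¹)) := by group
        _ = β * (x * (a * x * a⁻¹)) * β⁻¹ := by rw [h5, h6]; group
    have h7 := hinj' _ hy _ hx h3
    calc β * x = β * x * β⁻¹ * β := by group
      _ = x * β := by rw [h7]
  -- the four-group in `Dᵃ`
  obtain ⟨A, hA1, hA2, hA3⟩ : ∃ A : Subgroup K, IsMulCommutative A ∧ (∀ a ∈ A, a ^ 2 = 1) ∧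
      ¬ Nat.card A ≤ 2 ^ 1 := by
    unfold PRankLE at hrk
    push Not at hrk
    obtain ⟨A, h1, h2, h3⟩ := hrk
    exact ⟨A, h1, h2, by omega⟩
  set A' := A.map K.subtype with hA'
  have hA'K : A' ≤ K := Subgroup.map_subtype_le _
  set V₀ := (A'.comap (diag hcomm)).map D.subtype with hV₀
  have hV₀D : V₀ ≤ D := Subgroup.map_subtype_le _
  have hmV₀ : ∀ x, x ∈ V₀ ↔ x ∈ D ∧ x * (a * x * a⁻¹) ∈ A' := by
    intro x
    constructor
    · rintro ⟨y, hy, rfl⟩
      exact ⟨y.2, hy⟩
    · rintro ⟨h1, h2⟩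
      exact ⟨⟨x, h1⟩, h2, rfl⟩
  have hcardV₀ : 4 ≤ Nat.card V₀ := by
    have h1 : Nat.card V₀ = Nat.card A' := by
      rw [hV₀, Subgroup.card_map_of_injective D.subtype_injective]
      have h2 : (A'.comap (diag hcomm)).map (diag hcomm) = A' := by
        rw [Subgroup.map_comap_eq, inf_eq_right, ← hKd]; exact hA'K
      rw [← h2, Subgroup.card_map_of_injective hinj, h2]
    have h2 : Nat.card A' = Nat.card A := Subgroup.card_map_of_injective K.subtype_injective
    have h3 : IsPGroup 2 A := by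
      rw [isPGroup_iff_pow_pow_eq_one]
      intro x
      exact ⟨1, Subtype.ext (hA2 x x.2)⟩
    obtain ⟨n, hn⟩ := IsPGroup.iff_card.mp h3
    rw [h1, h2, hn]
    rw [hn] at hA3
    rcases n with _ | _ | n
    · simp at hA3
    · simp at hA3
    · have : 2 ^ 2 ≤ 2 ^ (n + 2) := Nat.pow_le_pow_right (by norm_num) (by omega)
      simpa using this
  have hV₀el : IsElementaryAbelian 2 V₀ := by
    apply ElAb.of_comm
    · intro x hx y hy
      obtain ⟨hxD, hxA⟩ := (hmV₀ x).mp hx
      obtain ⟨hyD, hyA⟩ := (hmV₀ y).mp hy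
      have h1 : diag hcomm (⟨x, hxD⟩ * ⟨y, hyD⟩) = diag hcomm (⟨y, hyD⟩ * ⟨x, hxD⟩) := by
        rw [map_mul, map_mul]
        obtain ⟨u, hu, hu'⟩ := hxA
        obtain ⟨w, hw, hw'⟩ := hyA
        change x * (a * x * a⁻¹) * (y * (a * y * a⁻¹)) = y * (a * y * a⁻¹) * (x * (a * x * a⁻¹))
        rw [← hu', ← hw', ← map_mul, ← map_mul]
        congr 1
        exact congrArg Subtype.val (hA1.is_comm.comm ⟨u, hu⟩ ⟨w, hw⟩)
      exact congrArg Subtype.val (hinj h1)
    · intro x hx
      obtain ⟨hxD, hxA⟩ := (hmV₀ x).mp hx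
      have h1 : diag hcomm (⟨x, hxD⟩ ^ 2) = diag hcomm 1 := by
        rw [map_pow, map_one]
        obtain ⟨u, hu, hu'⟩ := hxA
        change (x * (a * x * a⁻¹)) ^ 2 = 1
        rw [← hu', ← map_pow, hA2 u hu, map_one]
      exact congrArg Subtype.val (hinj h1)
  set V := MulAut.conj a • V₀ with hV
  have hVDa : V ≤ MulAut.conj a • D := by
    intro x hx
    rw [hV, H1.SZ.mem_conj_smul] at hx
    rw [H1.SZ.mem_conj_smul]
    exact hV₀D hx
  have hVel : IsElementaryAbelian 2 V := by
    apply ElAb.of_comm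
    · intro x hx y hy
      rw [hV, H1.SZ.mem_conj_smul] at hx hy
      have h1 := ElAb.comm hV₀el _ hx _ hy
      calc x * y = a * ((a⁻¹ * x * a) * (a⁻¹ * y * a)) * a⁻¹ := by group
        _ = y * x := by rw [h1]; group
    · intro x hx
      rw [hV, H1.SZ.mem_conj_smul] at hx
      have h1 := hV₀el.2 _ hx
      have e : x ^ 2 = a * (a⁻¹ * x * a) ^ 2 * a⁻¹ := by rw [pow_two, pow_two]; group
      rw [e, h1]; group
  have hVB₀c : ⁅V, B₀⁆ = ⊥ := by
    rw [commutator_eq_bot_iff_forall]
    intro x hx β hβ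
    have hx' := hVDa hx
    rw [H1.SZ.mem_conj_smul] at hx'
    have h1 := hB₀D β hβ _ hx'
    have h2 := hβa β hβ.1
    have h3 : β * a⁻¹ = a⁻¹ * β := by rw [hainv]; exact h2
    calc x * β = a * (a⁻¹ * x * a) * (a⁻¹ * β) := by group
      _ = a * (a⁻¹ * x * a) * (β * a⁻¹) := by rw [h3]
      _ = a * ((a⁻¹ * x * a) * β) * a⁻¹ := by group
      _ = a * (β * (a⁻¹ * x * a)) * a⁻¹ := by rw [h1]
      _ = (a * β) * a⁻¹ * x := by group
      _ = (β * a) * a⁻¹ * x := by rw [h2]
      _ = β * x := by group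
  have hVB₀i : V ⊓ B₀ = ⊥ := by
    rw [eq_bot_iff]
    intro x hx
    obtain ⟨hxV, hxB⟩ := mem_inf.mp hx
    have h1 := hVDa hxV
    rw [H1.SZ.mem_conj_smul] at h1
    have h2 := hβa x (mem_inf.mp hxB).1
    have h3 : a⁻¹ * x * a = x := by rw [mul_assoc, h2]; group
    rw [h3] at h1
    have h4 : x * x = 1 := by
      have := hVel.2 x hxV
      rwa [pow_two] at this
    have h5 : a * x * a⁻¹ = x := by rw [← h2]; group
    rw [mem_bot]
    apply hinj' x h1 1 D.one_mem
    rw [h5, h4]; group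
  refine ⟨V ⊔ B₀, ElAb.sup hVel (ElAb.mono hB inf_le_left) hVB₀c, ?_, ?_⟩
  · refine sup_le ?_ ?_
    · intro x hx
      rw [mem_centralizer_iff]
      intro d hd
      exact commute_of_commutator_eq_bot hcomm hd (hVDa hx)
    · intro β hβ
      rw [mem_centralizer_iff]
      intro d hd
      exact (hB₀D β hβ d hd).symm
  · have h1 := ElAb.card_mul_le_sup hVB₀i
    have h2 : Nat.card V = Nat.card V₀ := H1.SZ.card_conj_smul a V₀
    calc 2 * Nat.card B ≤ 2 * (Nat.card B₀ * 2) := Nat.mul_le_mul_left _ hcardB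
      _ = 4 * Nat.card B₀ := by ring
      _ ≤ Nat.card V * Nat.card B₀ := Nat.mul_le_mul_right _ (by rw [h2]; exact hcardV₀)
      _ ≤ _ := h1

end H27.MaxComp
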