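import Mathlib
import Cfsg.Prelude.Def_Balance
import Cfsg.Agent.Lib.H27.KBal
import Cfsg.Agent.Lib.H27.MaxComp
import Cfsg.Agent.Lib.H27.GenCyc

/-!
Core-separated four-subgroups and the associated signalizer functor.
-/

set_option autoImplicit false
set_option linter.unusedSectionVars false
set_option linter.style.haveILetI false

open Subgroup Cfsg H26.Basic H26.LocalFitting H26.PComponents H1.Coprime H1.Coprime2 H27.CompAct
open scoped Pointwise commutatorElement

universe u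

namespace H27.CoreSep

section quot

variable {Γ : Type*} [Group Γ] [Finite Γ] {p : ℕ} [hp : Fact p.Prime]

theorem centralizer_map_q_le {R : Subgroup Γ} (hR : IsPGroup p R) :
    centralizer ((R.map (q p Γ) : Subgroup (Γ ⧸ pPrimeCore p Γ)) : Set (Γ ⧸ pPrimeCore p Γ)) ≤
      (centralizer (R : Set Γ)).map (q p Γ) := by
  have hcop : (Nat.card R).Coprime (Nat.card (pPrimeCore p Γ)) := by
    apply GenSub.coprime_of_isPGroup hR
    exact (Nat.Prime.coprime_iff_not_dvd hp.out).mp (H1.Cores.coprime_card_pPrimeCore p).symm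
  have h1 := map_inf_centralizer R ⊤ (pPrimeCore p Γ) (by
    rw [normalizer_eq_top_iff.mpr inferInstance]; exact le_top) hcop
    (Or.inl (GenSub.isSolvable_of_isPGroup hR)) le_top
  rw [Subgroup.map_top_of_surjective _ (QuotientGroup.mk'_surjective _), top_inf_eq, top_inf_eq] at h1
  exact h1.le

theorem hyp_quot {R D : Subgroup Γ} (hR : IsPGroup p R) (hD : (Nat.card D).Coprime p)
    (hRD : ∀ r ∈ R, ∀ d ∈ D, r * d = d * r) (hCD : centralizer (R : Set Γ) ≤ normalizer (D : Set Γ)) :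
    Hyp p (⊤ : Subgroup (Γ ⧸ pPrimeCore p Γ)) (R.map (q p Γ)) (D.map (q p Γ)) := by
  have htop : ∀ K : Subgroup (Γ ⧸ pPrimeCore p Γ), K ≤ normalizer ((⊤ : Subgroup (Γ ⧸ pPrimeCore p Γ)) : Set (Γ ⧸ pPrimeCore p Γ)) := by
    intro K
    rw [normalizer_eq_top_iff.mpr inferInstance]; exact le_top
  refine ⟨?_, hR.map _, ?_, htop _, htop _, ?_, ?_⟩
  · exact H27.KBal.pPrimeCore_top (H1.Cores.pPrimeCore_quotient_pPrimeCore p)
  · exact Nat.Coprime.coprime_dvd_left (Subgroup.card_map_dvd _ _) hD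
  · rintro _ ⟨r, hr, rfl⟩ _ ⟨d, hd, rfl⟩
    rw [← map_mul, ← map_mul, hRD r hr d hd]
  · rw [top_inf_eq]
    refine (centralizer_map_q_le hR).trans ?_
    exact (Subgroup.map_mono hCD).trans (Subgroup.le_normalizer_map _)

theorem le_core {R D X : Subgroup Γ} (hR : IsPGroup p R) (hD : (Nat.card D).Coprime p)
    (hRD : ∀ r ∈ R, ∀ d ∈ D, r * d = d * r) (hCD : centralizer (R : Set Γ) ≤ normalizer (D : Set Γ))
    (hXD : X ≤ D) (hcomp : ∀ K : Subgroup (Γ ⧸ pPrimeCore p Γ), IsComponent K → ⁅K, X.map (q p Γ)⁆ = ⊥) :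
    X ≤ pPrimeCore p Γ := by
  have h := hyp_quot hR hD hRD hCD
  have hX : (Nat.card (X.map (q p Γ))).Coprime p :=
    Nat.Coprime.coprime_dvd_left ((Subgroup.card_map_dvd _ _).trans (Subgroup.card_dvd_of_le hXD)) hD
  have h1 : X.map (q p Γ) = ⊥ := by
    apply eq_bot_of_centralizes h.hO le_top hX
    · exact commutator_eq_bot_mono h.pc_comm le_rfl (Subgroup.map_mono hXD)
    · intro K hK
      exact hcomp K (compIn_top_iff.mp hK)
  rw [Subgroup.map_eq_bot_iff, ker_q] at h1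
  exact h1

end quot

theorem comm_centralizes {G : Type*} [Group G] {K D B : Subgroup G} (h1 : D ≤ normalizer (K : Set G))
    (h2 : K ≤ centralizer (B : Set G)) : ⁅K, ⁅D, B⁆⁆ = ⊥ := by
  rw [commutator_comm, commutator_eq_bot_iff_le_centralizer, commutator_le]
  intro d hd b hb
  rw [mem_centralizer_iff]
  intro k hk
  have hk1 : d⁻¹ * k * d ∈ K := by
    have := (mem_normalizer_iff.mp (h1 (D.inv_mem hd)) k).mp hk
    rwa [inv_inv] at this
  have e1 : ∀ x ∈ K, b * x = x * b := fun x hx => mem_centralizer_iff.mp (h2 hx) b hb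
  have e2 : ∀ x ∈ K, b⁻¹ * x = x * b⁻¹ := fun x hx => mem_centralizer_iff.mp (h2 hx) b⁻¹ (B.inv_mem hb)
  rw [commutatorElement_def]
  calc k * (d * b * d⁻¹ * b⁻¹) = d * ((d⁻¹ * k * d) * b) * d⁻¹ * b⁻¹ := by group
    _ = d * b * d⁻¹ * (k * b⁻¹) := by rw [← e1 _ hk1]; group
    _ = d * b * d⁻¹ * b⁻¹ * k := by rw [← e2 k hk]; group

section local2

local instance instFactTwo : Fact (Nat.Prime 2) := ⟨Nat.prime_two⟩

variable {Γ : Type u} [Group Γ] [Finite Γ]

theorem isPGroup_zpowers {a : Γ} (ha : a * a = 1) : IsPGroup 2 (zpowers a) := by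
  rw [isPGroup_iff_pow_pow_eq_one]
  rintro ⟨y, hy⟩
  obtain ⟨i, rfl⟩ := mem_zpowers_iff.mp hy
  refine ⟨1, Subtype.ext ?_⟩
  change (a ^ i) ^ 2 ^ 1 = 1
  rw [pow_one, ← zpow_natCast, ← zpow_mul, mul_comm, zpow_mul, zpow_natCast, pow_two, ha, one_zpow]

/-- a perfect subgroup of the layer -/
theorem perfect_le {F B B' : Subgroup Γ} (hF : F ≤ layer Γ) (hperf : ⁅F, F⁆ = F)
    (h1 : ∀ K : Subgroup Γ, IsComponent K → K ≤ centralizer (B : Set Γ) → ⁅K, F⁆ = ⊥)
    (h2 : ∀ K : Subgroup Γ, IsComponent K → ¬ K ≤ centralizer (B : Set Γ) → K ≤ centralizer (B' : Set Γ)) :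
    F ≤ centralizer (B' : Set Γ) := by
  set E₁ : Subgroup Γ := sSup {K | IsComponent K ∧ K ≤ centralizer (B : Set Γ)} with hE₁
  set E₂ : Subgroup Γ := sSup {K | IsComponent K ∧ ¬ K ≤ centralizer (B : Set Γ)} with hE₂
  have hE : layer Γ ≤ E₁ ⊔ E₂ := by
    refine sSup_le fun K hK => ?_
    have hK' : IsComponent K := hK
    by_cases h : K ≤ centralizer (B : Set Γ)
    · exact (le_sSup (show K ∈ {K | IsComponent K ∧ K ≤ centralizer (B : Set Γ)} from ⟨hK', h⟩)).trans le_sup_left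
    · exact (le_sSup (show K ∈ {K | IsComponent K ∧ ¬ K ≤ centralizer (B : Set Γ)} from ⟨hK', h⟩)).trans le_sup_right
  have hE₂B : E₂ ≤ centralizer (B' : Set Γ) := sSup_le fun K hK => h2 K hK.1 hK.2
  have hE₁F : ⁅E₁, F⁆ = ⊥ := commutator_sSup_left_eq_bot fun K hK => h1 K hK.1 hK.2
  have hE₁E₂ : ⁅E₁, E₂⁆ = ⊥ := by
    apply commutator_sSup_left_eq_bot
    intro K hK
    rw [commutator_comm]
    apply commutator_sSup_left_eq_bot
    intro L hL
    apply H26.Components.commutator_eq_bot_of_ne hL.1 hK.1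
    rintro rfl
    exact hL.2 hK.2
  conv_lhs => rw [← hperf]
  rw [commutator_le]
  intro f hf f' hf'
  obtain ⟨e₁, he₁, e₂, he₂, rfl⟩ := (mem_sup_of_commutator_eq_bot hE₁E₂).mp (hE (hF hf))
  obtain ⟨d₁, hd₁, d₂, hd₂, rfl⟩ := (mem_sup_of_commutator_eq_bot hE₁E₂).mp (hE (hF hf'))
  have c12 : ∀ x ∈ E₁, ∀ y ∈ E₂, x * y = y * x := commutator_eq_bot_iff_forall.mp hE₁E₂
  have c1F : ∀ x ∈ E₁, ∀ y ∈ F, x * y = y * x := commutator_eq_bot_iff_forall.mp hE₁F
  -- e₁ and d₁ commute with everything in E₁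
  have ce : ∀ x ∈ E₁, x * e₁ = e₁ * x := by
    intro x hx
    have h3 := c1F x hx _ hf
    have h4 := c12 x hx e₂ he₂
    have : x * e₁ * e₂ = e₁ * x * e₂ := by
      calc x * e₁ * e₂ = x * (e₁ * e₂) := by group
        _ = e₁ * (e₂ * x) := by rw [h3]; group
        _ = e₁ * x * e₂ := by rw [← h4]; group
    exact mul_right_cancel this
  have cd : ∀ x ∈ E₁, x * d₁ = d₁ * x := by
    intro x hx
    have h3 := c1F x hx _ hf'
    have h4 := c12 x hx d₂ hd₂
    have : x * d₁ * d₂ = d₁ * x * d₂ := by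
      calc x * d₁ * d₂ = x * (d₁ * d₂) := by group
        _ = d₁ * (d₂ * x) := by rw [h3]; group
        _ = d₁ * x * d₂ := by rw [← h4]; group
    exact mul_right_cancel this
  have e : ⁅e₁ * e₂, d₁ * d₂⁆ = ⁅e₂, d₂⁆ := by
    rw [commutatorElement_def, commutatorElement_def]
    have hA : (e₁ * e₂) * (d₁ * d₂) = (e₁ * d₁) * (e₂ * d₂) := by
      calc (e₁ * e₂) * (d₁ * d₂) = e₁ * (e₂ * d₁) * d₂ := by group
        _ = (e₁ * d₁) * (e₂ * d₂) := by rw [← c12 d₁ hd₁ e₂ he₂]; group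
    have hB : (d₁ * d₂) * (e₁ * e₂) = (e₁ * d₁) * (d₂ * e₂) := by
      calc (d₁ * d₂) * (e₁ * e₂) = d₁ * (d₂ * e₁) * e₂ := by group
        _ = (d₁ * e₁) * (d₂ * e₂) := by rw [← c12 e₁ he₁ d₂ hd₂]; group
        _ = (e₁ * d₁) * (d₂ * e₂) := by rw [ce d₁ hd₁]
    calc e₁ * e₂ * (d₁ * d₂) * (e₁ * e₂)⁻¹ * (d₁ * d₂)⁻¹
        = (e₁ * e₂) * (d₁ * d₂) * ((d₁ * d₂) * (e₁ * e₂))⁻¹ := by group
      _ = (e₁ * d₁) * ((e₂ * d₂) * (d₂ * e₂)⁻¹) * (e₁ * d₁)⁻¹ := by rw [hA, hB]; group
      _ = (e₂ * d₂) * (d₂ * e₂)⁻¹ := by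
          have h3 : (e₂ * d₂) * (d₂ * e₂)⁻¹ ∈ E₂ :=
            E₂.mul_mem (E₂.mul_mem he₂ hd₂) (E₂.inv_mem (E₂.mul_mem hd₂ he₂))
          rw [c12 _ (E₁.mul_mem he₁ hd₁) _ h3, mul_inv_cancel_right]
      _ = e₂ * d₂ * e₂⁻¹ * d₂⁻¹ := by group
  rw [e, commutatorElement_def]
  exact hE₂B (E₂.mul_mem (E₂.mul_mem (E₂.mul_mem he₂ hd₂) (E₂.inv_mem he₂)) (E₂.inv_mem hd₂))

theorem lemmaL' (hZ : H26.ZStarUse.ZStarHyp.{u}) (hO : pPrimeCore 2 Γ = ⊥) {B B' D : Subgroup Γ} {a : Γ}
    (hB : IsPGroup 2 B) (ha2 : a * a = 1) (haB : a ∈ centralizer (B : Set Γ)) (haBB' : a ∈ B ⊔ B')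
    (hD : (Nat.card D).Coprime 2) (hDa : ∀ d ∈ D, a * d = d * a)
    (hCD : centralizer ({a} : Set Γ) ≤ normalizer (D : Set Γ)) (hBD : B ≤ normalizer (D : Set Γ))
    (hcomp : ∀ K : Subgroup Γ, IsComponent K → K ≤ centralizer (B : Set Γ) ∨ K ≤ centralizer (B' : Set Γ)) :
    ⁅D, B⁆ ⊓ centralizer (B : Set Γ) ≤ ppc 2 (centralizer (B : Set Γ)) := by
  set C := centralizer (B : Set Γ) with hC
  have hDB : ⁅D, B⁆ ≤ D := commutator_le_left hBD
  have haP := isPGroup_zpowers ha2
  have hcent : centralizer ((zpowers a : Subgroup Γ) : Set Γ) = centralizer ({a} : Set Γ) := by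
    rw [zpowers_eq_closure, centralizer_closure]
  have haD : ∀ r ∈ zpowers a, ∀ d ∈ D, r * d = d * r := by
    intro r hr d hd
    have h1 : d ∈ centralizer ((zpowers a : Subgroup Γ) : Set Γ) := by
      rw [hcent, mem_centralizer_singleton_iff]; exact (hDa d hd).symm
    exact mem_centralizer_iff.mp h1 r hr
  -- D normalizes the components of Γ
  have hyp : Hyp 2 (⊤ : Subgroup Γ) (zpowers a) D := by
    refine ⟨H27.KBal.pPrimeCore_top hO, haP, hD, ?_, ?_, haD, ?_⟩
    · rw [normalizer_eq_top_iff.mpr inferInstance]; exact le_top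
    · rw [normalizer_eq_top_iff.mpr inferInstance]; exact le_top
    · rw [top_inf_eq, hcent]; exact hCD
  -- the group C
  let a' : C := ⟨a, haB⟩
  have ha' : a' * a' = 1 := Subtype.ext ha2
  have haP' := isPGroup_zpowers ha'
  have hcent' : centralizer ((zpowers a' : Subgroup C) : Set C) = centralizer ({a'} : Set C) := by
    rw [zpowers_eq_closure, centralizer_closure]
  have hD' : (Nat.card (D.subgroupOf C)).Coprime 2 := by
    have h1 : Nat.card ((D.subgroupOf C).map C.subtype) ∣ Nat.card D := by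
      apply Subgroup.card_dvd_of_le
      rw [Subgroup.subgroupOf_map_subtype]; exact inf_le_left
    rw [Subgroup.card_map_of_injective C.subtype_injective] at h1
    exact Nat.Coprime.coprime_dvd_left h1 hD
  have hRD' : ∀ r ∈ zpowers a', ∀ d ∈ D.subgroupOf C, r * d = d * r := by
    rintro _ ⟨k, rfl⟩ d hd
    apply Subtype.ext
    exact haD (a ^ k) ⟨k, rfl⟩ d hd
  have hCD' : centralizer ((zpowers a' : Subgroup C) : Set C) ≤ normalizer ((D.subgroupOf C : Subgroup C) : Set C) := by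
    rw [hcent']
    intro g hg
    rw [mem_normalizer_iff]
    intro d
    have h1 : (g : Γ) ∈ normalizer (D : Set Γ) := by
      apply hCD
      rw [mem_centralizer_singleton_iff] at hg ⊢
      exact congrArg Subtype.val hg
    exact mem_normalizer_iff.mp h1 (d : Γ)
  have key : (⁅D, B⁆ ⊓ C).subgroupOf C ≤ pPrimeCore 2 C := by
    apply le_core haP' hD' hRD' hCD'
    · exact Subgroup.comap_mono (inf_le_left.trans hDB)
    intro K hK
    -- the 2-component
    obtain ⟨hF, hFK⟩ := isPComponent_opp_comap (p := 2) hK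
    set F := H26.OPPrime.opp 2 (K.comap (q 2 C)) with hFdef
    have hPC : LBalTwo.PC C (F.map C.subtype) := LBalTwo.PC.of_isPComponent hF
    have hFl : F.map C.subtype ≤ layer Γ := LBalTwo.le_layer hZ hO hB hPC
    by_cases hex : ∃ L : Subgroup Γ, IsComponent L ∧ L ≤ C ∧ ⁅L, F.map C.subtype⁆ ≠ ⊥
    · obtain ⟨L, hL, hLC, hLF⟩ := hex
      have hL' : IsComponent (L.subgroupOf C) := H26.Components.subgroupOf_of_le hL hLC
      have hLF' : L.subgroupOf C ≤ F := by
        rcases H26.Components.le_or_commutator_eq_bot hL' hF.1 with h1 | h1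
        · exact h1
        · exfalso
          apply hLF
          have h2 : (⁅L.subgroupOf C, F⁆).map C.subtype = ⊥ := by rw [h1, Subgroup.map_bot]
          rwa [Subgroup.map_commutator, map_subgroupOf_eq_of_le hLC] at h2
      -- the image of L is K
      have hLK : (L.subgroupOf C).map (q 2 C) = K := by
        have hle : (L.subgroupOf C).map (q 2 C) ≤ K := by
          rw [← hFK]; exact Subgroup.map_mono hLF'
        have hsub : (((L.subgroupOf C).map (q 2 C)).subgroupOf K).IsSubnormal := by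
          have h1 : ((L.subgroupOf C).map (q 2 C)).IsSubnormal := hL'.1.map (q_surjective 2)
          exact h1.comap K.subtype
        rcases H26.Quasisimple.subnormal_eq_top_or_le_center hK.2 hsub with h1 | h1
        · rw [Subgroup.subgroupOf_eq_top] at h1
          exact le_antisymm hle h1
        · exfalso
          have h2 : ⁅(L.subgroupOf C).map (q 2 C), (L.subgroupOf C).map (q 2 C)⁆ = ⊥ := by
            rw [commutator_eq_bot_iff_forall]
            intro x hx y hy
            have h3 : (⟨x, hle hx⟩ : K) ∈ center K := h1 hx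
            exact (congrArg Subtype.val (mem_center_iff.mp h3 ⟨y, hle hy⟩)).symm
          rw [← Subgroup.map_commutator, H26.Components.isPerfect hL', Subgroup.map_eq_bot_iff, ker_q] at h2
          have h3 : (Nat.card (L.subgroupOf C)).Coprime 2 :=
            Nat.Coprime.coprime_dvd_left (Subgroup.card_dvd_of_le h2) (H1.Cores.coprime_card_pPrimeCore 2)
          rw [H1.SZ.card_subgroupOf_of_le hLC] at h3
          have h4 := dvd_card_of_component hO hL
          exact (Nat.Prime.coprime_iff_not_dvd Nat.prime_two).mp h3.symm h4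
      have h5 : ⁅L, ⁅D, B⁆⁆ = ⊥ := comm_centralizes (hyp.le_normalizer_comp (compIn_top_iff.mpr hL)) hLC
      rw [← hLK, ← Subgroup.map_commutator, Subgroup.map_eq_bot_iff]
      refine le_trans ?_ bot_le
      rw [le_bot_iff, subgroupOf_commutator_eq_bot_iff hLC inf_le_right]
      exact commutator_eq_bot_mono h5 le_rfl inf_le_left
    · push Not at hex
      have hFB' : F.map C.subtype ≤ centralizer (B' : Set Γ) := by
        apply perfect_le (B := B) hFl hPC.perfect
        · intro L hL hLB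
          exact hex L hL hLB
        · intro L hL hLB
          exact (hcomp L hL).resolve_left hLB
      have hFa : F.map C.subtype ≤ centralizer ({a} : Set Γ) := by
        have h1 : B ⊔ B' ≤ centralizer ((F.map C.subtype : Subgroup Γ) : Set Γ) :=
          sup_le ((Subgroup.le_centralizer_iff).mp hPC.le) ((Subgroup.le_centralizer_iff).mp hFB')
        intro f hf
        rw [mem_centralizer_singleton_iff]
        exact mem_centralizer_iff.mp (h1 haBB') f hf
      have hhyp := hyp_quot haP' hD' hRD' hCD'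
      have hKc : K ≤ centralizer (((zpowers a').map (q 2 C) : Subgroup _) : Set _) := by
        rw [← hFK]
        rintro _ ⟨f, hf, rfl⟩
        rw [mem_centralizer_iff]
        rintro _ ⟨r, hr, rfl⟩
        rw [← map_mul, ← map_mul]
        congr 1
        have h1 : f ∈ centralizer ((zpowers a' : Subgroup C) : Set C) := by
          rw [hcent', mem_centralizer_singleton_iff]
          apply Subtype.ext
          exact mem_centralizer_singleton_iff.mp (hFa ⟨f, hf, rfl⟩)
        exact mem_centralizer_iff.mp h1 r hr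
      have h6 := hhyp.comm_of_centralized (compIn_top_iff.mpr hK) hKc
      exact commutator_eq_bot_mono h6 le_rfl (Subgroup.map_mono (Subgroup.comap_mono (inf_le_left.trans hDB)))
  have h7 := Subgroup.map_mono (f := C.subtype) key
  rw [map_subgroupOf_eq_of_le inf_le_right] at h7
  exact h7

theorem lemmaL (hZ : H26.ZStarUse.ZStarHyp.{u}) {B B' D : Subgroup Γ} {a : Γ}
    (hB : IsPGroup 2 B) (ha2 : a * a = 1) (haB : a ∈ centralizer (B : Set Γ)) (haBB' : a ∈ B ⊔ B')
    (hD : (Nat.card D).Coprime 2) (hDa : ∀ d ∈ D, a * d = d * a)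
    (hCD : centralizer ({a} : Set Γ) ≤ normalizer (D : Set Γ)) (hBD : B ≤ normalizer (D : Set Γ))
    (hcomp : ∀ K : Subgroup (Γ ⧸ pPrimeCore 2 Γ), IsComponent K →
      K ≤ centralizer ((B.map (q 2 Γ) : Subgroup (Γ ⧸ pPrimeCore 2 Γ)) : Set (Γ ⧸ pPrimeCore 2 Γ)) ∨
      K ≤ centralizer ((B'.map (q 2 Γ) : Subgroup (Γ ⧸ pPrimeCore 2 Γ)) : Set (Γ ⧸ pPrimeCore 2 Γ))) :
    ⁅D, B⁆ ⊓ centralizer (B : Set Γ) ≤ ppc 2 (centralizer (B : Set Γ)) := by
  have hcB : ∀ x ∈ centralizer (B : Set Γ), q 2 Γ x ∈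
      centralizer ((B.map (q 2 Γ) : Subgroup (Γ ⧸ pPrimeCore 2 Γ)) : Set (Γ ⧸ pPrimeCore 2 Γ)) := by
    intro x hx
    rw [mem_centralizer_iff]
    rintro _ ⟨b, hb, rfl⟩
    rw [← map_mul, ← map_mul, mem_centralizer_iff.mp hx b hb]
  have hL' : ⁅D.map (q 2 Γ), B.map (q 2 Γ)⁆ ⊓
      centralizer ((B.map (q 2 Γ) : Subgroup (Γ ⧸ pPrimeCore 2 Γ)) : Set (Γ ⧸ pPrimeCore 2 Γ)) ≤
      ppc 2 (centralizer ((B.map (q 2 Γ) : Subgroup (Γ ⧸ pPrimeCore 2 Γ)) : Set (Γ ⧸ pPrimeCore 2 Γ))) := by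
    refine lemmaL' hZ (H1.Cores.pPrimeCore_quotient_pPrimeCore 2) (a := q 2 Γ a) (B' := B'.map (q 2 Γ))
      (hB.map _) ?_ (hcB a haB) ?_ ?_ ?_ ?_ ?_ hcomp
    · rw [← map_mul, ha2, map_one]
    · rw [← Subgroup.map_sup]; exact mem_map_of_mem _ haBB'
    · exact Nat.Coprime.coprime_dvd_left (Subgroup.card_map_dvd _ _) hD
    · rintro _ ⟨d, hd, rfl⟩
      rw [← map_mul, ← map_mul, hDa d hd]
    · have h1 := centralizer_map_q_le (isPGroup_zpowers ha2)
      have h2 : centralizer ((zpowers a : Subgroup Γ) : Set Γ) = centralizer ({a} : Set Γ) := by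
        rw [zpowers_eq_closure, centralizer_closure]
      have h3 : centralizer (((zpowers a).map (q 2 Γ) : Subgroup (Γ ⧸ pPrimeCore 2 Γ)) :
          Set (Γ ⧸ pPrimeCore 2 Γ)) = centralizer ({q 2 Γ a} : Set (Γ ⧸ pPrimeCore 2 Γ)) := by
        rw [MonoidHom.map_zpowers, zpowers_eq_closure, centralizer_closure]
      rw [h2, h3] at h1
      exact h1.trans ((Subgroup.map_mono hCD).trans (Subgroup.le_normalizer_map _))
    · exact (Subgroup.map_mono hBD).trans (Subgroup.le_normalizer_map _)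
  set P := ppc 2 (centralizer ((B.map (q 2 Γ) : Subgroup (Γ ⧸ pPrimeCore 2 Γ)) : Set (Γ ⧸ pPrimeCore 2 Γ))) with hP
  have hT : centralizer (B : Set Γ) ⊓ P.comap (q 2 Γ) ≤ ppc 2 (centralizer (B : Set Γ)) := by
    apply le_ppc inf_le_left
    · apply le_normalizer_of_conj_mem
      intro x hx t ht
      refine mem_inf.mpr ⟨mul_mem (mul_mem hx ht.1) (inv_mem hx), ?_⟩
      have ht2 : q 2 Γ t ∈ P := (mem_inf.mp ht).2
      rw [mem_comap, map_mul, map_mul, map_inv]
      exact conj_mem_of_le_normalizer (le_normalizer_ppc 2 _) (hcB x hx) ht2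
    · refine Nat.Coprime.coprime_dvd_left (Subgroup.card_dvd_of_le inf_le_right) ?_
      rw [show Nat.card (P.comap (q 2 Γ)) = _ from H1.Cores.card_comap_mk' _ _]
      exact Nat.Coprime.mul_left (H1.Cores.coprime_card_pPrimeCore 2) (card_ppc 2 _)
  refine le_trans ?_ hT
  intro x hx
  refine mem_inf.mpr ⟨hx.2, ?_⟩
  rw [mem_comap]
  apply hL'
  refine mem_inf.mpr ⟨?_, hcB x hx.2⟩
  rw [← Subgroup.map_commutator]
  exact mem_map_of_mem _ hx.1

end local2

section global

local instance instFactTwo' : Fact (Nat.Prime 2) := ⟨Nat.prime_two⟩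

variable {G : Type u} [Group G] [Finite G]

theorem symm {A₁ A₂ : Subgroup G} (h : IsCoreSeparated A₁ A₂) : IsCoreSeparated A₂ A₁ := by
  obtain ⟨h1, h2, h3, h4, h5, h6, h7, h8⟩ := h
  refine ⟨h2, h1, h4, h3, h5.symm, by rw [inf_comm]; exact h6, fun x hx y hy => (h7 y hy x hx).symm, ?_⟩
  intro a ha ha1 E hE
  rw [sup_comm] at ha
  exact (h8 a ha ha1 E hE).symm

variable {A₁ A₂ : Subgroup G}

theorem elabSup (h : IsCoreSeparated A₁ A₂) : IsElementaryAbelian 2 (A₁ ⊔ A₂ : Subgroup G) :=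
  ElAb.sup h.1 h.2.1 (commutator_eq_bot_iff_forall.mpr h.2.2.2.2.2.2.1)

theorem le_cent (h : IsCoreSeparated A₁ A₂) {a : G} (ha : a ∈ A₁ ⊔ A₂) : A₁ ⊔ A₂ ≤ centralizer ({a} : Set G) :=
  ElAb.le_centralizer (elabSup h) ha

/-- components of `C(t)/O(C(t))` -/
theorem hcomp (h : IsCoreSeparated A₁ A₂) {t : G} (ht : t ∈ A₁ ⊔ A₂) (ht1 : t ≠ 1)
    (K : Subgroup (↥(centralizer ({t} : Set G)) ⧸ pPrimeCore 2 ↥(centralizer ({t} : Set G)))) (hK : IsComponent K) :
    K ≤ centralizer (((A₁.subgroupOf (centralizer {t})).map (q 2 _) :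
      Subgroup (↥(centralizer ({t} : Set G)) ⧸ pPrimeCore 2 ↥(centralizer ({t} : Set G)))) :
      Set (↥(centralizer ({t} : Set G)) ⧸ pPrimeCore 2 ↥(centralizer ({t} : Set G)))) ∨
    K ≤ centralizer (((A₂.subgroupOf (centralizer {t})).map (q 2 _) :
      Subgroup (↥(centralizer ({t} : Set G)) ⧸ pPrimeCore 2 ↥(centralizer ({t} : Set G)))) :
      Set (↥(centralizer ({t} : Set G)) ⧸ pPrimeCore 2 ↥(centralizer ({t} : Set G)))) := by
  obtain ⟨hF, hFK⟩ := isPComponent_opp_comap (p := 2) hK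
  set F := H26.OPPrime.opp 2 (K.comap (q 2 (centralizer ({t} : Set G)))) with hFdef
  have hA := le_cent h ht
  have key : ∀ B : Subgroup G, B ≤ A₁ ⊔ A₂ → ⁅F.map (centralizer ({t} : Set G)).subtype, B⁆ ≤ centralizerPPrimeCore 2 t →
      K ≤ centralizer (((B.subgroupOf (centralizer {t})).map (q 2 _) :
      Subgroup (↥(centralizer ({t} : Set G)) ⧸ pPrimeCore 2 ↥(centralizer ({t} : Set G)))) :
      Set (↥(centralizer ({t} : Set G)) ⧸ pPrimeCore 2 ↥(centralizer ({t} : Set G)))) := by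
    intro B hB hle
    rw [← commutator_eq_bot_iff_le_centralizer, ← hFK, ← Subgroup.map_commutator, Subgroup.map_eq_bot_iff, ker_q]
    have h1 : (⁅F, B.subgroupOf (centralizer {t})⁆).map (centralizer ({t} : Set G)).subtype ≤
        (pPrimeCore 2 (centralizer ({t} : Set G))).map (centralizer ({t} : Set G)).subtype := by
      rw [Subgroup.map_commutator, map_subgroupOf_eq_of_le (hB.trans hA)]
      exact hle
    exact (Subgroup.map_le_map_iff_of_injective (centralizer ({t} : Set G)).subtype_injective).mp h1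
  rcases h.2.2.2.2.2.2.2 t ht ht1 F hF with h1 | h1
  · exact Or.inl (key A₁ le_sup_left h1)
  · exact Or.inr (key A₂ le_sup_right h1)

theorem cop (a : G) : (Nat.card (centralizerPPrimeCore 2 a)).Coprime 2 := card_ppc 2 _

theorem cent_le_norm (a : G) : centralizer ({a} : Set G) ≤ normalizer (centralizerPPrimeCore 2 a : Set G) :=
  le_normalizer_ppc 2 (centralizer ({a} : Set G))

theorem core_le (a : G) : centralizerPPrimeCore 2 a ≤ centralizer ({a} : Set G) :=
  SigBasic.centralizerPPrimeCore_le 2 a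

theorem card_subgroupOf_coprime {D H : Subgroup G} (hD : (Nat.card D).Coprime 2) :
    (Nat.card (D.subgroupOf H)).Coprime 2 := by
  have h1 : Nat.card ((D.subgroupOf H).map H.subtype) ∣ Nat.card D := by
    apply Subgroup.card_dvd_of_le
    rw [Subgroup.subgroupOf_map_subtype]; exact inf_le_left
  rw [Subgroup.card_map_of_injective H.subtype_injective] at h1
  exact Nat.Coprime.coprime_dvd_left h1 hD

theorem sq (h : IsCoreSeparated A₁ A₂) {a : G} (ha : a ∈ A₁ ⊔ A₂) : a * a = 1 := by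
  rw [← pow_two]; exact (elabSup h).2 a ha

/-- the local step -/
theorem step (hZ : H26.ZStarUse.ZStarHyp.{u}) (h : IsCoreSeparated A₁ A₂) {a t : G} (ha : a ∈ A₁ ⊔ A₂)
    (ht : t ∈ A₁) (ht1 : t ≠ 1) :
    ⁅centralizerPPrimeCore 2 a ⊓ centralizer ({t} : Set G), A₁⁆ ⊓ centralizer (A₁ : Set G) ≤
      ppc 2 (centralizer (A₁ : Set G)) := by
  set Γ := centralizer ({t} : Set G) with hΓ
  have ht' : t ∈ A₁ ⊔ A₂ := mem_sup_left ht
  have hAΓ : A₁ ⊔ A₂ ≤ Γ := le_cent h ht'
  have haΓ : a ∈ Γ := hAΓ ha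
  have hA1 : A₁ ≤ Γ := le_sup_left.trans hAΓ
  have hL := lemmaL (Γ := Γ) hZ (B := A₁.subgroupOf Γ) (B' := A₂.subgroupOf Γ)
    (D := (centralizerPPrimeCore 2 a).subgroupOf Γ) (a := ⟨a, haΓ⟩)
    ((ElAb.isPGroup h.1).comap_subtype) (Subtype.ext (sq h ha)) (by
      rw [mem_centralizer_iff]
      intro b hb
      exact Subtype.ext (ElAb.comm (elabSup h) b (mem_sup_left hb) a ha)) (by
      rw [← Subgroup.subgroupOf_sup (le_sup_left.trans hAΓ) (le_sup_right.trans hAΓ)]
      exact ha) (card_subgroupOf_coprime (cop a)) (by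
      intro d hd
      exact Subtype.ext (mem_centralizer_singleton_iff.mp (core_le a hd)).symm) (by
      intro g hg
      rw [mem_normalizer_iff]
      intro d
      have h1 : (g : G) ∈ normalizer (centralizerPPrimeCore 2 a : Set G) := by
        apply cent_le_norm
        rw [mem_centralizer_singleton_iff] at hg ⊢
        exact congrArg Subtype.val hg
      exact mem_normalizer_iff.mp h1 (d : G)) (by
      intro g hg
      rw [mem_normalizer_iff]
      intro d
      have h1 : (g : G) ∈ normalizer (centralizerPPrimeCore 2 a : Set G) := by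
        apply cent_le_norm
        exact le_cent h ha (mem_sup_left hg)
      exact mem_normalizer_iff.mp h1 (d : G)) (hcomp h ht' ht1)
  have hcent : centralizer (A₁ : Set G) ≤ Γ := by
    intro x hx
    rw [hΓ, mem_centralizer_singleton_iff]
    exact (mem_centralizer_iff.mp hx t ht).symm
  have hcm : (centralizer ((A₁.subgroupOf Γ : Subgroup Γ) : Set Γ)).map Γ.subtype = centralizer (A₁ : Set G) := by
    apply le_antisymm
    · rintro _ ⟨x, hx, rfl⟩
      rw [mem_centralizer_iff]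
      intro b hb
      exact congrArg Subtype.val (mem_centralizer_iff.mp hx ⟨b, hA1 hb⟩ hb)
    · intro x hx
      refine ⟨⟨x, hcent hx⟩, ?_, rfl⟩
      rw [SetLike.mem_coe, mem_centralizer_iff]
      intro b hb
      exact Subtype.ext (mem_centralizer_iff.mp hx (b : G) hb)
  have hfin : (ppc 2 (centralizer ((A₁.subgroupOf Γ : Subgroup Γ) : Set Γ))).map Γ.subtype ≤
      ppc 2 (centralizer (A₁ : Set G)) := by
    apply le_ppc
    · rw [← hcm]; exact Subgroup.map_mono (ppc_le 2 _)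
    · rw [← hcm]
      exact (Subgroup.map_mono (le_normalizer_ppc 2 _)).trans (Subgroup.le_normalizer_map _)
    · rw [Subgroup.card_map_of_injective Γ.subtype_injective]; exact card_ppc 2 _
  refine le_trans ?_ ((Subgroup.map_mono (f := Γ.subtype) hL).trans hfin)
  rw [Subgroup.map_inf_eq _ _ _ Γ.subtype_injective, hcm, Subgroup.map_commutator,
    Subgroup.subgroupOf_map_subtype, map_subgroupOf_eq_of_le hA1]

theorem mainL (hFT : ∀ H : Subgroup G, (Nat.card H).Coprime 2 → Group.IsSolvable H)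
    (hZ : H26.ZStarUse.ZStarHyp.{u}) (h : IsCoreSeparated A₁ A₂) {a : G} (ha : a ∈ A₁ ⊔ A₂) :
    ⁅centralizerPPrimeCore 2 a, A₁⁆ ⊓ centralizer (A₁ : Set G) ≤ ppc 2 (centralizer (A₁ : Set G)) := by
  set O := centralizerPPrimeCore 2 a with hO
  have hA1O : A₁ ≤ normalizer (O : Set G) := (le_sup_left.trans (le_cent h ha)).trans (cent_le_norm a)
  have hYO : ⁅O, A₁⁆ ≤ O := commutator_le_left hA1O
  have hp2 : IsPGroup 2 A₁ := ElAb.isPGroup h.1
  have hndvd : ¬ 2 ∣ Nat.card O := (Nat.Prime.coprime_iff_not_dvd Nat.prime_two).mp (cop a).symm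
  have hcop : (Nat.card A₁).Coprime (Nat.card O) := GenSub.coprime_of_isPGroup hp2 hndvd
  have hy : GenCyc.Hy 2 A₁ A₁ ⁅O, A₁⁆ := by
    refine ⟨hp2, ElAb.comm h.1, le_rfl, ?_, ?_, le_normalizer_commutator_right _ _, ?_⟩
    · exact hFT _ (Nat.Coprime.coprime_dvd_left (Subgroup.card_dvd_of_le hYO) (cop a))
    · exact fun h' => hndvd (h'.trans (Subgroup.card_dvd_of_le hYO))
    · exact commutator_commutator_eq A₁ O hA1O hcop (Or.inl (GenSub.isSolvable_of_isPGroup hp2))
  rw [GenCyc.final hy]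
  refine iSup_le ?_
  rintro ⟨B₀, hB₀⟩
  obtain ⟨hB₀le, b, hb, hBb⟩ := hB₀
  have hne : B₀ ≠ ⊥ := by
    rintro rfl
    rw [bot_sup_eq] at hBb
    have h1 := Subgroup.card_le_of_le hBb
    rw [h.2.2.1, Nat.card_zpowers] at h1
    have h2 : orderOf b ≤ 2 := Nat.le_of_dvd (by norm_num) (orderOf_dvd_of_pow_eq_one (h.1.2 b hb))
    omega
  obtain ⟨t, ht, ht1⟩ := B₀.bot_or_exists_ne_one.resolve_left hne
  refine le_trans ?_ (step hZ h (a := a) ha (hB₀le ht) ht1)
  refine le_inf (inf_le_right.trans ?_) (inf_le_left.trans inf_le_right)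
  apply Subgroup.commutator_mono _ le_rfl
  refine inf_le_inf hYO ?_
  intro x hx
  rw [mem_centralizer_singleton_iff]
  exact (mem_centralizer_iff.mp hx t ht).symm

/-- the local functor -/
def th (B : Subgroup G) (a : G) : Subgroup G :=
  ⁅centralizerPPrimeCore 2 a, B⁆ ⊔ (centralizerPPrimeCore 2 a ⊓ ppc 2 (centralizer (B : Set G)))

theorem th_le (h : IsCoreSeparated A₁ A₂) {a : G} (ha : a ∈ A₁ ⊔ A₂) : th A₁ a ≤ centralizerPPrimeCore 2 a := by
  have hA1O : A₁ ≤ normalizer (centralizerPPrimeCore 2 a : Set G) :=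
    (le_sup_left.trans (le_cent h ha)).trans (cent_le_norm a)
  exact sup_le (commutator_le_left hA1O) inf_le_left

theorem th_cent (hFT : ∀ H : Subgroup G, (Nat.card H).Coprime 2 → Group.IsSolvable H)
    (hZ : H26.ZStarUse.ZStarHyp.{u}) (h : IsCoreSeparated A₁ A₂) {a : G} (ha : a ∈ A₁ ⊔ A₂) :
    th A₁ a ⊓ centralizer (A₁ : Set G) ≤ ppc 2 (centralizer (A₁ : Set G)) := by
  intro x hx
  obtain ⟨y, hy, d, hd, rfl⟩ := (mem_sup_of_le_normalizer' (inf_le_left.trans
    (le_normalizer_commutator_left _ _))).mp (mem_inf.mp hx).1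
  have hd2 : d ∈ ppc 2 (centralizer (A₁ : Set G)) := (mem_inf.mp hd).2
  refine mul_mem (mainL hFT hZ h ha (mem_inf.mpr ⟨hy, ?_⟩)) hd2
  have h1 : y = y * d * d⁻¹ := by group
  rw [h1]
  exact mul_mem (mem_inf.mp hx).2 (inv_mem (ppc_le 2 _ hd2))

theorem norm_th (h : IsCoreSeparated A₁ A₂) {a : G} (ha : a ∈ A₁ ⊔ A₂) :
    A₁ ⊔ A₂ ≤ normalizer (th A₁ a : Set G) := by
  have hO : A₁ ⊔ A₂ ≤ normalizer (centralizerPPrimeCore 2 a : Set G) := (le_cent h ha).trans (cent_le_norm a)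
  have hc : A₁ ⊔ A₂ ≤ centralizer (A₁ : Set G) := by
    intro x hx
    rw [mem_centralizer_iff]
    intro y hy
    exact ElAb.comm (elabSup h) y (mem_sup_left hy) x hx
  apply le_normalizer_sup
  · apply le_normalizer_commutator hO
    exact hc.trans (Subgroup.centralizer_le_normalizer (A₁ : Set G))
  · exact le_normalizer_inf hO (hc.trans (le_normalizer_ppc 2 _))

/-- if `X` is contained in `O_b`, then it is contained in `th A₁ b` -/
theorem le_th (hFT : ∀ H : Subgroup G, (Nat.card H).Coprime 2 → Group.IsSolvable H)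
    (hZ : H26.ZStarUse.ZStarHyp.{u}) (h : IsCoreSeparated A₁ A₂) {a b : G} (ha : a ∈ A₁ ⊔ A₂)
    {X : Subgroup G} (hX : X ≤ th A₁ a) (hAX : A₁ ≤ normalizer (X : Set G)) (hXb : X ≤ centralizerPPrimeCore 2 b) :
    X ≤ th A₁ b := by
  have hp2 : IsPGroup 2 A₁ := ElAb.isPGroup h.1
  have hndvd : ¬ 2 ∣ Nat.card X := fun h' =>
    (Nat.Prime.coprime_iff_not_dvd Nat.prime_two).mp (cop b).symm (h'.trans (Subgroup.card_dvd_of_le hXb))
  have h1 := commutator_sup_centralizer A₁ X hAX (GenSub.coprime_of_isPGroup hp2 hndvd)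
    (Or.inl (GenSub.isSolvable_of_isPGroup hp2))
  rw [← h1]
  apply sup_le_sup (Subgroup.commutator_mono hXb le_rfl)
  refine le_inf (inf_le_left.trans hXb) ?_
  exact (inf_le_inf_right _ hX).trans (th_cent hFT hZ h ha)

/-- one case of the balance -/
theorem comm_of (hFT : ∀ H : Subgroup G, (Nat.card H).Coprime 2 → Group.IsSolvable H)
    (hZ : H26.ZStarUse.ZStarHyp.{u}) (h : IsCoreSeparated A₁ A₂) {a b : G} (ha : a ∈ A₁ ⊔ A₂) (hb : b ∈ A₁ ⊔ A₂)
    {X : Subgroup G} (hX : X ≤ th A₁ a) (hAX : A₁ ≤ normalizer (X : Set G)) (hXb : X ≤ centralizer ({b} : Set G))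
    (K : Subgroup (↥(centralizer ({b} : Set G)) ⧸ pPrimeCore 2 ↥(centralizer ({b} : Set G)))) (hK : IsComponent K)
    (hKB : K ≤ centralizer (((A₁.subgroupOf (centralizer {b})).map (q 2 _) :
      Subgroup (↥(centralizer ({b} : Set G)) ⧸ pPrimeCore 2 ↥(centralizer ({b} : Set G)))) :
      Set (↥(centralizer ({b} : Set G)) ⧸ pPrimeCore 2 ↥(centralizer ({b} : Set G)))))
    (hnorm : ((centralizerPPrimeCore 2 a).subgroupOf (centralizer {b})).map (q 2 _) ≤ normalizer (K : Set _)) :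
    ⁅K, (X.subgroupOf (centralizer ({b} : Set G))).map (q 2 _)⁆ = ⊥ := by
  set Γ := centralizer ({b} : Set G) with hΓ
  have hAΓ : A₁ ⊔ A₂ ≤ Γ := le_cent h hb
  have hA1 : A₁ ≤ Γ := le_sup_left.trans hAΓ
  have hp2 : IsPGroup 2 A₁ := ElAb.isPGroup h.1
  have hXO : X ≤ centralizerPPrimeCore 2 a := hX.trans (th_le h ha)
  have hndvd : ¬ 2 ∣ Nat.card X := fun h' =>
    (Nat.Prime.coprime_iff_not_dvd Nat.prime_two).mp (cop a).symm (h'.trans (Subgroup.card_dvd_of_le hXO))
  have h1 := commutator_sup_centralizer A₁ X hAX (GenSub.coprime_of_isPGroup hp2 hndvd)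
    (Or.inl (GenSub.isSolvable_of_isPGroup hp2))
  have hcl : ⁅X, A₁⁆ ≤ X := commutator_le_left hAX
  have h2 : X.subgroupOf Γ = (⁅X.subgroupOf Γ, A₁.subgroupOf Γ⁆) ⊔ (X ⊓ centralizer (A₁ : Set G)).subgroupOf Γ := by
    apply Subgroup.map_injective Γ.subtype_injective
    rw [Subgroup.map_sup, Subgroup.map_commutator, map_subgroupOf_eq_of_le hXb, map_subgroupOf_eq_of_le hA1,
      map_subgroupOf_eq_of_le (inf_le_left.trans hXb), h1]
  rw [h2, Subgroup.map_sup]
  apply commutator_sup_right_eq_bot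
  · rw [Subgroup.map_commutator]
    apply comm_centralizes _ hKB
    exact (Subgroup.map_mono (Subgroup.comap_mono hXO)).trans hnorm
  · -- the group `D₂`
    set D₂ := (ppc 2 (centralizer (A₁ : Set G))).subgroupOf Γ with hD₂
    have hyp : Hyp 2 (⊤ : Subgroup (Γ ⧸ pPrimeCore 2 Γ)) ((A₁.subgroupOf Γ).map (q 2 Γ)) (D₂.map (q 2 Γ)) := by
      apply hyp_quot hp2.comap_subtype (card_subgroupOf_coprime (card_ppc 2 _))
      · intro r hr d hd
        exact Subtype.ext (mem_centralizer_iff.mp (ppc_le 2 _ hd) (r : G) hr)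
      · intro g hg
        rw [mem_normalizer_iff]
        intro d
        have h1 : (g : G) ∈ normalizer (ppc 2 (centralizer (A₁ : Set G)) : Set G) := by
          apply le_normalizer_ppc
          rw [mem_centralizer_iff]
          intro x hx
          exact congrArg Subtype.val (mem_centralizer_iff.mp hg ⟨x, hA1 hx⟩ hx)
        exact mem_normalizer_iff.mp h1 (d : G)
    have h3 := hyp.comm_of_centralized (compIn_top_iff.mpr hK) hKB
    refine commutator_eq_bot_mono h3 le_rfl (Subgroup.map_mono (Subgroup.comap_mono ?_))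
    exact (inf_le_inf_right _ hX).trans (th_cent hFT hZ h ha)

theorem balance (hFT : ∀ H : Subgroup G, (Nat.card H).Coprime 2 → Group.IsSolvable H)
    (hZ : H26.ZStarUse.ZStarHyp.{u}) (h : IsCoreSeparated A₁ A₂) {a b : G} (ha : a ∈ A₁ ⊔ A₂) (ha1 : a ≠ 1)
    (hb : b ∈ A₁ ⊔ A₂) (hb1 : b ≠ 1) :
    (th A₁ a ⊓ th A₂ a) ⊓ centralizer {b} ≤ th A₁ b ⊓ th A₂ b := by
  have hs := symm h
  have ha' : a ∈ A₂ ⊔ A₁ := by rw [sup_comm]; exact ha
  have hb' : b ∈ A₂ ⊔ A₁ := by rw [sup_comm]; exact hb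
  set X := (th A₁ a ⊓ th A₂ a) ⊓ centralizer {b} with hXdef
  have hX1 : X ≤ th A₁ a := inf_le_left.trans inf_le_left
  have hX2 : X ≤ th A₂ a := inf_le_left.trans inf_le_right
  have hXb : X ≤ centralizer ({b} : Set G) := inf_le_right
  have hXO : X ≤ centralizerPPrimeCore 2 a := hX1.trans (th_le h ha)
  have hn2 : A₁ ⊔ A₂ ≤ normalizer (th A₂ a : Set G) := by
    rw [sup_comm]; exact norm_th hs ha'
  have hAX : A₁ ⊔ A₂ ≤ normalizer (X : Set G) :=
    le_normalizer_inf (le_normalizer_inf (norm_th h ha) hn2)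
      ((le_cent h hb).trans Subgroup.le_normalizer)
  have hAX1 : A₁ ≤ normalizer (X : Set G) := le_sup_left.trans hAX
  have hAX2 : A₂ ≤ normalizer (X : Set G) := le_sup_right.trans hAX
  have hcore : X ≤ centralizerPPrimeCore 2 b := by
    set Γ := centralizer ({b} : Set G) with hΓ
    have haΓ : a ∈ Γ := le_cent h hb ha
    let a' : Γ := ⟨a, haΓ⟩
    have hcent' : centralizer ((zpowers a' : Subgroup Γ) : Set Γ) = centralizer ({a'} : Set Γ) := by
      rw [zpowers_eq_closure, centralizer_closure]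
    have hR : IsPGroup 2 (zpowers a') := isPGroup_zpowers (Subtype.ext (sq h ha))
    have hRD : ∀ r ∈ zpowers a', ∀ d ∈ (centralizerPPrimeCore 2 a).subgroupOf Γ, r * d = d * r := by
      intro r hr d hd
      have h1 : d ∈ centralizer ((zpowers a' : Subgroup Γ) : Set Γ) := by
        rw [hcent', mem_centralizer_singleton_iff]
        exact Subtype.ext (mem_centralizer_singleton_iff.mp (core_le a hd))
      exact mem_centralizer_iff.mp h1 r hr
    have hCD : centralizer ((zpowers a' : Subgroup Γ) : Set Γ) ≤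
        normalizer (((centralizerPPrimeCore 2 a).subgroupOf Γ : Subgroup Γ) : Set Γ) := by
      rw [hcent']
      intro g hg
      rw [mem_normalizer_iff]
      intro d
      have h1 : (g : G) ∈ normalizer (centralizerPPrimeCore 2 a : Set G) := by
        apply cent_le_norm
        rw [mem_centralizer_singleton_iff] at hg ⊢
        exact congrArg Subtype.val hg
      exact mem_normalizer_iff.mp h1 (d : G)
    have hD : (Nat.card ((centralizerPPrimeCore 2 a).subgroupOf Γ)).Coprime 2 := card_subgroupOf_coprime (cop a)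
    have hhyp := hyp_quot hR hD hRD hCD
    have hle : X.subgroupOf Γ ≤ pPrimeCore 2 Γ := by
      apply le_core hR hD hRD hCD (Subgroup.comap_mono hXO)
      intro K hK
      have hnorm := hhyp.le_normalizer_comp (compIn_top_iff.mpr hK)
      rcases hcomp h hb hb1 K hK with h1 | h1
      · exact comm_of hFT hZ h ha hb hX1 hAX1 hXb K hK h1 hnorm
      · exact comm_of hFT hZ hs ha' hb' hX2 hAX2 hXb K hK h1 hnorm
    have h2 := Subgroup.map_mono (f := Γ.subtype) hle
    rwa [map_subgroupOf_eq_of_le hXb] at h2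
  exact le_inf (le_th hFT hZ h ha hX1 hAX1 hcore) (le_th hFT hZ hs ha' hX2 hAX2 hcore)

theorem main (hFT : ∀ H : Subgroup G, (Nat.card H).Coprime 2 → Group.IsSolvable H)
    (hZ : H26.ZStarUse.ZStarHyp.{u}) (h : IsCoreSeparated A₁ A₂) :
    IsSignalizerFunctor 2 (A₁ ⊔ A₂) (fun a => th A₁ a ⊓ th A₂ a) := by
  have hs := symm h
  refine ⟨?_, ?_, ?_, ?_⟩
  · intro a ha ha1
    exact inf_le_left.trans ((th_le h ha).trans (core_le a))
  · intro a ha ha1 h'
    exact (Nat.Prime.coprime_iff_not_dvd Nat.prime_two).mp (cop a).symm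
      (h'.trans (Subgroup.card_dvd_of_le (inf_le_left.trans (th_le h ha))))
  · intro a ha ha1 b hb x hx
    have ha' : a ∈ A₂ ⊔ A₁ := by rw [sup_comm]; exact ha
    have hn2 : A₁ ⊔ A₂ ≤ normalizer (th A₂ a : Set G) := by
      rw [sup_comm]; exact norm_th hs ha'
    exact conj_mem_of_le_normalizer (le_normalizer_inf (norm_th h ha) hn2) hb hx
  · intro a ha ha1 b hb hb1
    exact balance hFT hZ h ha ha1 hb hb1

end global

end H27.CoreSep
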