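import Cfsg.Agent.Lib.H27.L8End
import Cfsg.Agent.Lib.H28.GW8Final
import Cfsg.Agent.S0201

set_option autoImplicit false

/-!
# Endgame for S3250, with the theorems of Gorenstein–Walter and Brauer–Suzuki plugged in
-/

namespace H27.L8

open Cfsg Subgroup

universe u

/-- the endgame -/
theorem endgame {G : Type u} [Group G] [Finite G] [IsSimpleGroup G] (hG : ¬ IsMulCommutative G) (S : Sylow 2 G)
    (hS : Nat.card ↥(S : Subgroup G) = 2 ^ 7)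
    (hz : ∀ z ∈ (S : Subgroup G), z ≠ 1 → (∀ s ∈ (S : Subgroup G), s * z = z * s) →
      ∀ g, g * z = z * g → g ∈ (S : Subgroup G))
    (h4 : ∀ U : Subgroup G, U ≤ S → (∀ s ∈ (S : Subgroup G), ∀ u ∈ U, s * u * s⁻¹ ∈ U) → Nat.card U = 4 →
      (∀ u ∈ U, u * u = 1) → False)
    (hess : ∀ T0 : Subgroup G, T0 ≤ (S : Subgroup G) → T0 ≠ (S : Subgroup G) →
      (∀ s ∈ (S : Subgroup G), ∀ t ∈ T0, s * t * s⁻¹ ∈ T0) →
      (∀ a ∈ (S : Subgroup G), ∀ b ∈ (S : Subgroup G), a ∉ T0 → b ∉ T0 → a * b ∈ T0) →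
      ∃ E : Subgroup G, E ≤ S ∧ ¬ E ≤ T0 ∧ (∀ c ∈ (S : Subgroup G), (∀ e ∈ E, c * e = e * c) → c ∈ E) ∧
        (∃ g ∈ Subgroup.normalizer (E : Set G), g ∉ (S : Subgroup G))) :
    ∃ (F : Type) (_ : Field F) (_ : Fintype F), Fintype.card F = 127 ∧
      Nonempty (G ≃* Matrix.ProjectiveSpecialLinearGroup (Fin 2) F) :=
  endgame_of hG S hS (fun ⟨n, h2, e⟩ => H28.GW8.gw G inferInstance ⟨S, n, h2, e⟩)
    (fun n e hO => Cfsg.Agent.S0201.result S n e hO) hz h4 hess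

end H27.L8
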