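import Mathlib
import Cfsg.Agent.Lib.H3.SFHone

/-!
Solvable signalizer functors: the prime 2 (part A): the subgroup generated by the `[O_{2'}(θ a), Z]`.
-/

set_option autoImplicit false
set_option linter.all false

open Subgroup Cfsg H27 H27.ElAb H27.SigBasic H27.GenSub H1.Coprime H1.Coprime2 H26.LocalFitting H26.Basic
open H3.SF
open scoped Pointwise commutatorElement

universe u

namespace H27.SFTwo

variable {G : Type u} [Group G] [Finite G] {r : ℕ} [hr : Fact r.Prime] {A : Subgroup G}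
  {θ : G → Subgroup G}

/-! ### generation -/

theorem pg_core {V M Z : Subgroup G} (hcop : (Nat.card Z).Coprime (Nat.card V))
    (hZs : Group.IsSolvable Z) (hZV : Z ≤ normalizer (V : Set G)) (hVV : ⁅V, Z⁆ = V) {X : Subgroup G}
    (hXV : X ≤ V) (hZX : Z ≤ normalizer (X : Set G)) (h : ⁅X, Z⁆ ≤ M) :
    X ≤ (M ⊓ V) ⊔ ⁅V, V⁆ := by
  have h1 := commutator_sup_centralizer Z X hZX
    (Nat.Coprime.coprime_dvd_right (Subgroup.card_dvd_of_le hXV) hcop) (Or.inl hZs)
  rw [← h1]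
  refine sup_le (le_sup_of_le_left (le_inf h ((commutator_le_left hZX).trans hXV))) (le_sup_of_le_right ?_)
  have h3 := H65.HallHigman.commutator_inf_centralizer_le Z V hZV hcop
  rw [hVV] at h3
  exact (inf_le_inf_right _ hXV).trans h3

theorem pg_final {V M : Subgroup G} {q : ℕ} [Fact q.Prime] (hVq : IsPGroup q V)
    (h1 : V ≤ (M ⊓ V) ⊔ ⁅V, V⁆) : V ≤ M := by
  have hnil : Group.IsNilpotent V := hVq.isNilpotent
  have h2 : (M ⊓ V).subgroupOf V = ⊤ := by
    apply H27.Gen.eq_top_of_sup_commutator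
    have h3 : (⁅V, V⁆ : Subgroup G) = (commutator V).map V.subtype := by
      rw [commutator_def, Subgroup.map_commutator, ← MonoidHom.range_eq_map, Subgroup.range_subtype]
    rw [eq_top_iff]
    rintro ⟨x, hx⟩ _
    have h4 := h1 hx
    rw [h3] at h4
    have h5 : (M ⊓ V) ⊔ (commutator V).map V.subtype =
        (((M ⊓ V).subgroupOf V) ⊔ commutator V).map V.subtype := by
      rw [Subgroup.map_sup, Subgroup.map_subgroupOf_eq_of_le inf_le_right]
    rw [h5] at h4
    obtain ⟨y, hy, hyx⟩ := h4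
    have : y = ⟨x, hx⟩ := Subtype.ext hyx
    rwa [this] at hy
  exact (Subgroup.subgroupOf_eq_top.mp h2).trans inf_le_left

omit [Finite G] in
theorem le_centralizer_symm {Z : Subgroup G} (hZA : Z ≤ centralizer (A : Set G)) : A ≤ centralizer (Z : Set G) :=
  (Subgroup.le_centralizer_iff).mp hZA

omit [Finite G] in
theorem norm_of_cent {Z D : Subgroup G} (hZA : Z ≤ centralizer (A : Set G)) (hD : D ≤ A) :
    Z ≤ normalizer ((centralizer (D : Set G) : Subgroup G) : Set G) := by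
  refine le_trans (hZA.trans (Subgroup.centralizer_le ?_)) Subgroup.le_normalizer
  exact_mod_cast hD

omit [Finite G] in
theorem norm_of_cent' {Z : Subgroup G} (hZA : Z ≤ centralizer (A : Set G)) {d : G} (hd : d ∈ A) :
    Z ≤ normalizer ((centralizer ({d} : Set G) : Subgroup G) : Set G) := by
  refine le_trans (hZA.trans (Subgroup.centralizer_le ?_)) Subgroup.le_normalizer
  simpa using hd

section gg

variable {V Z M : Subgroup G} {t q : ℕ} [ht : Fact t.Prime] [hq : Fact q.Prime]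

/-- generation of `[V, Z]`, `V` a `q`-group, over all lines -/
theorem gg_all (hA : IsElementaryAbelian r A) (hA3 : r ^ 3 ≤ Nat.card A)
    (hZ : IsPGroup t Z) (hZA : Z ≤ centralizer (A : Set G)) (hVq : IsPGroup q V)
    (hVr : ¬ r ∣ Nat.card V) (hVt : ¬ t ∣ Nat.card V)
    (hAV : A ≤ normalizer (V : Set G)) (hZV : Z ≤ normalizer (V : Set G))
    (h : ∀ D : Subgroup G, D ≤ A → Nat.card D = r ^ 2 → ⁅V ⊓ centralizer (D : Set G), Z⁆ ≤ M) :
    ⁅V, Z⁆ ≤ M := by
  have hZs : Group.IsSolvable Z := isSolvable_of_isPGroup hZ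
  have hcop : (Nat.card Z).Coprime (Nat.card V) := coprime_of_isPGroup hZ hVt
  have hVV := commutator_commutator_eq Z V hZV hcop (Or.inl hZs)
  have hle : ⁅V, Z⁆ ≤ V := commutator_le_left hZV
  have hAZ : A ≤ normalizer (Z : Set G) := (le_centralizer_symm hZA).trans (Subgroup.centralizer_le_normalizer _)
  set V₁ := ⁅V, Z⁆ with hV₁
  have hAV₁ : A ≤ normalizer (V₁ : Set G) := le_normalizer_commutator hAV hAZ
  have hZV₁ : Z ≤ normalizer (V₁ : Set G) := le_normalizer_commutator_right _ _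
  refine pg_final (hVq.to_le hle) ?_
  refine gen_all hA hA3 hAV₁ (fun h' => hVr (h'.trans (Subgroup.card_dvd_of_le hle))) fun D hD hDc => ?_
  refine pg_core (Nat.Coprime.coprime_dvd_right (Subgroup.card_dvd_of_le hle) hcop) hZs hZV₁ hVV inf_le_left
    (le_normalizer_inf hZV₁ (norm_of_cent hZA hD)) ?_
  exact (Subgroup.commutator_mono (inf_le_inf_right _ hle) le_rfl).trans (h D hD hDc)

/-- generation of `[V, Z]`, `V` a `q`-group, over the points of a line -/
theorem gg_pgroup (hA : IsElementaryAbelian r A)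
    (hZ : IsPGroup t Z) (hZA : Z ≤ centralizer (A : Set G)) (hVq : IsPGroup q V)
    (hVr : ¬ r ∣ Nat.card V) (hVt : ¬ t ∣ Nat.card V)
    (hAV : A ≤ normalizer (V : Set G)) (hZV : Z ≤ normalizer (V : Set G)) {D : Subgroup G} (hD : D ≤ A)
    (hDc : Nat.card D = r ^ 2)
    (h : ∀ d ∈ D, d ≠ 1 → ⁅V ⊓ centralizer {d}, Z⁆ ≤ M) :
    ⁅V, Z⁆ ≤ M := by
  have hZs : Group.IsSolvable Z := isSolvable_of_isPGroup hZ
  have hcop : (Nat.card Z).Coprime (Nat.card V) := coprime_of_isPGroup hZ hVt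
  have hVV := commutator_commutator_eq Z V hZV hcop (Or.inl hZs)
  have hle : ⁅V, Z⁆ ≤ V := commutator_le_left hZV
  have hAZ : A ≤ normalizer (Z : Set G) := (le_centralizer_symm hZA).trans (Subgroup.centralizer_le_normalizer _)
  set V₁ := ⁅V, Z⁆ with hV₁
  have hAV₁ : A ≤ normalizer (V₁ : Set G) := le_normalizer_commutator hAV hAZ
  have hZV₁ : Z ≤ normalizer (V₁ : Set G) := le_normalizer_commutator_right _ _
  refine pg_final (hVq.to_le hle) ?_
  refine gen_line hA hD hDc (hD.trans hAV₁) (fun h' => hVr (h'.trans (Subgroup.card_dvd_of_le hle))) fun d hd hd1 => ?_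
  refine pg_core (Nat.Coprime.coprime_dvd_right (Subgroup.card_dvd_of_le hle) hcop) hZs hZV₁ hVV inf_le_left
    (le_normalizer_inf hZV₁ (norm_of_cent' hZA (hD hd))) ?_
  exact (Subgroup.commutator_mono (inf_le_inf_right _ hle) le_rfl).trans (h d hd hd1)

/-- **(GG)** -/
theorem gg (hA : IsElementaryAbelian r A)
    (hZ : IsPGroup t Z) (hZA : Z ≤ centralizer (A : Set G)) (hVs : Group.IsSolvable V)
    (hVr : ¬ r ∣ Nat.card V) (hVt : ¬ t ∣ Nat.card V)
    (hAV : A ≤ normalizer (V : Set G)) (hZV : Z ≤ normalizer (V : Set G)) {D : Subgroup G} (hD : D ≤ A)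
    (hDc : Nat.card D = r ^ 2) (hAM : A ≤ normalizer (M : Set G)) (hZM : Z ≤ normalizer (M : Set G))
    (h : ∀ d ∈ D, d ≠ 1 → ⁅V ⊓ centralizer {d}, Z⁆ ≤ M) :
    ⁅V, Z⁆ ≤ M := by
  have hZs : Group.IsSolvable Z := isSolvable_of_isPGroup hZ
  have hcop : (Nat.card Z).Coprime (Nat.card V) := coprime_of_isPGroup hZ hVt
  have hVV := commutator_commutator_eq Z V hZV hcop (Or.inl hZs)
  have hle : ⁅V, Z⁆ ≤ V := commutator_le_left hZV
  have hAZ : A ≤ normalizer (Z : Set G) := (le_centralizer_symm hZA).trans (Subgroup.centralizer_le_normalizer _)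
  set V₁ := ⁅V, Z⁆ with hV₁
  have hAV₁ : A ≤ normalizer (V₁ : Set G) := le_normalizer_commutator hAV hAZ
  have hZV₁ : Z ≤ normalizer (V₁ : Set G) := le_normalizer_commutator_right _ _
  have hV₁s : Group.IsSolvable V₁ := isSolvable_of_le hle hVs
  have hAZV₁ : A ⊔ Z ≤ normalizer (V₁ : Set G) := sup_le hAV₁ hZV₁
  -- coprimality
  have hcAZ : (Nat.card (A ⊔ Z : Subgroup G)).Coprime (Nat.card V₁) := by
    have h1 : Nat.card (A ⊔ Z : Subgroup G) ∣ Nat.card A * Nat.card Z := Sig.card_sup_dvd_mul hAZ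
    refine Nat.Coprime.coprime_dvd_left h1 (Nat.Coprime.mul_left ?_ ?_)
    · exact Nat.Coprime.coprime_dvd_right (Subgroup.card_dvd_of_le hle) (Sig.coprime_card hA hVr)
    · exact Nat.Coprime.coprime_dvd_right (Subgroup.card_dvd_of_le hle) hcop
  set M₁ := M ⊓ V₁ with hM₁
  have key : ∀ i : ℕ, V₁ ≤ M₁ ⊔ (derivedSeries V₁ i).map V₁.subtype := by
    intro i
    induction i with
    | zero =>
      rw [derivedSeries_zero, ← MonoidHom.range_eq_map, Subgroup.range_subtype]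
      exact le_sup_right
    | succ i ih =>
      set E := (derivedSeries V₁ i).map V₁.subtype with hE
      have hEV : E ≤ V₁ := Subgroup.map_subtype_le _
      have hE1 : (derivedSeries V₁ (i + 1)).map V₁.subtype = ⁅E, E⁆ := by
        rw [derivedSeries_succ, Subgroup.map_commutator]
      rw [hE1]
      have hEn : normalizer (V₁ : Set G) ≤ normalizer (E : Set G) :=
        normalizer_le_normalizer_map_char V₁ (derivedSeries V₁ i)
      have hEAZ : A ⊔ Z ≤ normalizer (E : Set G) := hAZV₁.trans hEn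
      apply le_of_comm_step (Z := Z) inf_le_right hEV (Subgroup.le_normalizer.trans hEn)
        (hZV₁.trans hEn) (le_normalizer_inf hZM hZV₁) hVV.ge hZV₁ ih
      intro q hq
      have := Fact.mk hq
      obtain ⟨P, hP, hPA⟩ := exists_invariant_sylow (A ⊔ Z) E hEAZ
        (Nat.Coprime.coprime_dvd_right (Subgroup.card_dvd_of_le hEV) hcAZ)
        (Or.inr (isSolvable_of_le hEV hV₁s)) q
      have hPV₁ : P ≤ V₁ := hP.1.trans hEV
      have hPV : P ≤ V := hPV₁.trans hle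
      refine ⟨P, hP, le_trans ?_ le_sup_left⟩
      have hAP : A ≤ normalizer (P : Set G) := le_sup_left.trans hPA
      have hZP : Z ≤ normalizer (P : Set G) := le_sup_right.trans hPA
      refine le_inf ?_ ((commutator_le_left hZP).trans hPV₁)
      refine gg_pgroup hA hZ hZA hP.isPGroup (fun h' => hVr (h'.trans (Subgroup.card_dvd_of_le hPV)))
        (fun h' => hVt (h'.trans (Subgroup.card_dvd_of_le hPV))) hAP hZP hD hDc fun d hd hd1 => ?_
      exact (Subgroup.commutator_mono (inf_le_inf_right _ hPV) le_rfl).trans (h d hd hd1)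
  obtain ⟨n, hn⟩ := hV₁s.solvable
  have := key n
  rw [hn, Subgroup.map_bot, sup_bot_eq] at this
  exact this.trans inf_le_left

end gg

/-! ### Hall-Higman -/

theorem comm_le_ppc_of_sylow {H P Z U : Subgroup G} {p : ℕ} [hp : Fact p.Prime] (hH : Group.IsSolvable H)
    (hP : IsSylIn p H P) (hZH : Z ≤ H) (hPZ : P ≤ centralizer (Z : Set G)) (hUH : U ≤ H)
    (hU : (Nat.card U).Coprime p) (hZU : Z ≤ normalizer (U : Set G)) : ⁅U, Z⁆ ≤ ppc p H := by
  obtain ⟨P', hP'⟩ := hP.exists_sylow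
  set W := pPrimeCore p H with hW
  let π := QuotientGroup.mk' W
  have hπs : Function.Surjective π := QuotientGroup.mk'_surjective W
  have hXs : Group.IsSolvable (H ⧸ W) := Group.isSolvable_of_surjective hπs
  have hXO : pPrimeCore p (H ⧸ W) = ⊥ := H1.Cores.pPrimeCore_quotient_pPrimeCore p
  have hc := H1.Solv.centralizer_pCore_le hXs p hXO
  set Q : Sylow p (H ⧸ W) := P'.mapSurjective hπs with hQ
  have hQc : (Q : Subgroup (H ⧸ W)) = (P' : Subgroup H).map π := Sylow.coe_mapSurjective _ _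
  have hle : pCore p (H ⧸ W) ≤ (Q : Subgroup (H ⧸ W)) := H1.Cores.pCore_le_sylow Q
  have hZ1 : (Z.subgroupOf H).map π ≤ pCore p (H ⧸ W) := by
    refine le_trans ?_ hc
    refine le_trans ?_ (Subgroup.centralizer_le
      (show (pCore p (H ⧸ W) : Set (H ⧸ W)) ⊆ ((Q : Subgroup (H ⧸ W)) : Set (H ⧸ W)) from hle))
    rw [hQc]
    rintro _ ⟨z, hz, rfl⟩
    rw [mem_centralizer_iff]
    rintro _ ⟨x, hx, rfl⟩
    rw [← map_mul, ← map_mul]
    congr 1
    apply Subtype.ext
    have h1 : (x : G) ∈ P := by rw [← hP']; exact ⟨x, hx, rfl⟩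
    exact (mem_centralizer_iff.mp (hPZ h1) (z : G) hz).symm
  have hZU' : Z.subgroupOf H ≤ normalizer ((U.subgroupOf H : Subgroup H) : Set H) := by
    intro z hz
    rw [mem_normalizer_iff]
    intro u
    exact mem_normalizer_iff.mp (hZU hz) (u : G)
  have h2 : ⁅(U.subgroupOf H).map π, (Z.subgroupOf H).map π⁆ ≤ ⊥ := by
    have h3 : ⁅(U.subgroupOf H).map π, (Z.subgroupOf H).map π⁆ ≤ (U.subgroupOf H).map π :=
      commutator_le_left ((Subgroup.map_mono hZU').trans (Subgroup.le_normalizer_map π))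
    have h4 : ⁅(U.subgroupOf H).map π, (Z.subgroupOf H).map π⁆ ≤ pCore p (H ⧸ W) := by
      refine le_trans (Subgroup.commutator_mono le_top hZ1) ?_
      exact Subgroup.commutator_le_right _ _
    have h5 : (Nat.card ((U.subgroupOf H).map π)).Coprime p := by
      refine Nat.Coprime.coprime_dvd_left (Subgroup.card_map_dvd _ _) ?_
      rw [Nat.card_congr (Subgroup.subgroupOfEquivOfLe hUH).toEquiv]; exact hU
    rw [← H26.LocalFitting.inf_eq_bot_of_coprime (H1.Cores.isPGroup_pCore p) h5]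
    exact le_inf h4 h3
  rw [← Subgroup.map_commutator, le_bot_iff, Subgroup.map_eq_bot_iff, QuotientGroup.ker_mk'] at h2
  have h3 := Subgroup.map_mono (f := H.subtype) h2
  rwa [Subgroup.map_commutator, map_subgroupOf_eq_of_le hUH, map_subgroupOf_eq_of_le hZH] at h3

omit [Finite G] in
theorem comm_centralizes {K D B : Subgroup G} (h1 : D ≤ normalizer (K : Set G))
    (h2 : K ≤ centralizer (B : Set G)) : ⁅K, ⁅D, B⁆⁆ = ⊥ := by
  rw [commutator_comm, commutator_eq_bot_iff_le_centralizer, commutator_le]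
  intro d hd b hb
  rw [mem_centralizer_iff]
  intro k hk
  have hk1 : d⁻¹ * k * d ∈ K := by
    have := (mem_normalizer_iff.mp (h1 (D.inv_mem hd)) k).mp hk
    rwa [inv_inv] at this
  have e1 : ∀ x ∈ K, b * x = x * b := fun x hx => mem_centralizer_iff.mp (h2 hx) b hb
  have e2 : ∀ x ∈ K, b⁻¹ * x = x * b⁻¹ := fun x hx => mem_centralizer_iff.mp (h2 hx) b⁻¹ (B.inv_mem hb)
  rw [commutatorElement_def]
  calc k * (d * b * d⁻¹ * b⁻¹) = d * ((d⁻¹ * k * d) * b) * d⁻¹ * b⁻¹ := by group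
    _ = d * b * d⁻¹ * (k * b⁻¹) := by rw [← e1 _ hk1]; group
    _ = d * b * d⁻¹ * b⁻¹ * k := by rw [← e2 k hk]; group

/-- `C_M(F(M)) ≤ F(M)` in terms of the `O_s(M)`: a `p`-subgroup of `M` centralising all `O_s(M)` lies
in `O_p(M)` -/
theorem le_pc_of_centralizes {M X : Subgroup G} {p : ℕ} [hp : Fact p.Prime] (hM : Group.IsSolvable M)
    (hX : X ≤ M) (hXp : IsPGroup p X)
    (h : ∀ s : ℕ, s.Prime → pc s M ≤ centralizer (X : Set G)) : X ≤ pc p M := by
  have h1 := H1.Solv.centralizer_fitting_le hM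
  have h2 : X.subgroupOf M ≤ fittingSubgroup M := by
    refine le_trans ?_ h1
    rw [Subgroup.le_centralizer_iff, H1.Cores.fittingSubgroup_eq_iSup_pCore]
    refine iSup_le fun s u hu => ?_
    rw [mem_centralizer_iff]
    intro x hx
    apply Subtype.ext
    exact mem_centralizer_iff.mp (h s s.2 ⟨u, hu, rfl⟩) (x : G) hx
  -- a p-subgroup of the nilpotent group F(M) is in its Sylow p-subgroup
  have hX' : IsPGroup p (X.subgroupOf M) := hXp.comap_subtype
  set C := pCore p M with hC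
  set T := X.subgroupOf M ⊔ C with hT
  have hTp : IsPGroup p T := hX'.to_sup_of_normal_right (H1.Cores.isPGroup_pCore p)
  have hCF : C ≤ fittingSubgroup M := H1.Cores.pCore_le_fittingSubgroup p
  have hTF : T ≤ fittingSubgroup M := sup_le h2 hCF
  have h3 := Subgroup.relIndex_mul_relIndex C T (fittingSubgroup M) le_sup_right hTF
  obtain ⟨n, hn⟩ := IsPGroup.iff_card.mp hTp
  have h4 : C.relIndex T ∣ p ^ n := by rw [← hn]; exact Subgroup.relIndex_dvd_card C T
  obtain ⟨k, -, hk⟩ := (Nat.dvd_prime_pow hp.out).mp h4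
  have h5 : C.relIndex T = 1 := by
    rcases Nat.eq_zero_or_pos k with h0 | h0
    · rw [hk, h0, pow_zero]
    · exfalso
      apply H1.Cores.not_dvd_relIndex_pCore_fittingSubgroup (G := M) p
      rw [← h3, hk]
      exact (dvd_pow_self p h0.ne').mul_right _
  have h6 : T ≤ C := Subgroup.relIndex_eq_one.mp h5
  have h7 := Subgroup.map_mono (f := M.subtype) ((le_sup_left : X.subgroupOf M ≤ T).trans h6)
  rwa [map_subgroupOf_eq_of_le hX] at h7

/-! ### (A1) -/

section A1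

variable (c : Ctx r A θ)

include c in
/-- **(A1)** -/
theorem center_le (hR2 : RR r A θ 2 = ⊥) {P : Subgroup G} (hP : Sig.IsMaxQ r A θ 2 P) {y : G} (hy : y ∈ A)
    (hy1 : y ≠ 1) {M : Subgroup G} (hM : IsMax r A θ M) (hyM : θ y ≤ M)
    (hs : ∀ s : ℕ, s.Prime → s ≠ 2 → pc s M ≤ centralizer {y}) (hM2 : pc 2 M ≠ ⊥) :
    (center P).map P.subtype ≤ centralizer {y} := by
  have hA := c.hA
  have hA3 := c.A3
  have hθ := c.hθ
  set Z : Subgroup G := (center P).map P.subtype with hZdef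
  have hZP : Z ≤ P := Subgroup.map_subtype_le _
  have hPZ : P ≤ centralizer (Z : Set G) := by
    intro x hx
    rw [mem_centralizer_iff]
    rintro _ ⟨z, hz, rfl⟩
    exact (congrArg Subtype.val (mem_center_iff.mp hz ⟨x, hx⟩)).symm
  have hZA : A ≤ normalizer (Z : Set G) := (Sig.inv hP.1).trans (normalizer_le_normalizer_map_char P (center P))
  have hZm : Z ∈ signalizerFamily r A θ := Sig.mono hP.1 hZP hZA
  have hZ2 : IsPGroup 2 Z := hP.2.1.to_le hZP
  have hOm : pc 2 M ∈ signalizerFamily r A θ := pc_mem hM.1 2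
  have hO2 : IsPGroup 2 (pc 2 M) := isPGroup_pc 2 M
  have hIM : signalizerInf A θ ≤ M := Sig.signalizerInf_le_member hy hy1 hyM
  have hOP : pc 2 M ≤ P := le_isMaxQ hA hA3 hθ hP hOm hO2 (hIM.trans (le_normalizer_pc 2 M))
  have hZO : Z ≤ centralizer (pc 2 M : Set G) := by
    rw [Subgroup.le_centralizer_iff]; exact hOP.trans hPZ
  have hZM : Z ≤ M := c.le_of_le_normalizer hM hOm hM2 (le_normalizer_pc 2 M) hZm
    (hZO.trans (Subgroup.centralizer_le_normalizer _))
  have hzyZ : zpowers y ≤ normalizer (Z : Set G) := by rw [zpowers_le]; exact hZA hy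
  have hcl : ⁅Z, zpowers y⁆ ≤ Z := commutator_le_left hzyZ
  -- `[Z, y] ≤ O_2(M)`
  have h1 : ⁅Z, zpowers y⁆ ≤ pc 2 M := by
    apply le_pc_of_centralizes (Sig.solvable hM.1) (hcl.trans hZM) (hZ2.to_le hcl)
    intro s hsp
    by_cases h2 : s = 2
    · subst h2
      rw [Subgroup.le_centralizer_iff]
      exact hcl.trans hZO
    · have h3 := comm_centralizes (K := pc s M) (D := Z) (B := zpowers y)
        (hZM.trans (le_normalizer_pc s M)) (by rw [centralizer_zpowers]; exact hs s hsp h2)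
      rwa [commutator_eq_bot_iff_le_centralizer] at h3
  -- the abelian group `Z(O_2(M))`
  set B := pc 2 M ⊓ centralizer (pc 2 M : Set G) with hB
  have hMB : M ≤ normalizer (B : Set G) :=
    le_normalizer_inf (le_normalizer_pc 2 M) (le_normalizer_centralizer (le_normalizer_pc 2 M))
  have hBm : B ∈ signalizerFamily r A θ :=
    Sig.mono hOm inf_le_left (le_normalizer_inf (Sig.inv hOm) (le_normalizer_centralizer (Sig.inv hOm)))
  have hab : ⁅B, B⁆ = ⊥ := by
    rw [commutator_eq_bot_iff_le_centralizer]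
    exact inf_le_right.trans (Subgroup.centralizer_le (show (B : Set G) ⊆ pc 2 M from fun x hx => hx.1))
  have h2 : ⁅B, zpowers y⁆ ≤ RR r A θ 2 :=
    comm_le_RR_of_abelian hA c.hA3 hθ hy hy1 hBm (hO2.to_le inf_le_left) (hyM.trans hMB) hab
  have h3 : ⁅Z, zpowers y⁆ ≤ B := le_inf h1 (hcl.trans hZO)
  have h4 : ⁅⁅Z, zpowers y⁆, zpowers y⁆ = ⊥ := by
    rw [eq_bot_iff, ← hR2]
    exact (Subgroup.commutator_mono h3 le_rfl).trans h2
  have h5 := commutator_eq_bot_of (zpowers y) Z hzyZ (c.coprime_zpowers hZm hy) (Or.inr (Sig.solvable hZm)) h4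
  rwa [commutator_eq_bot_iff_le_centralizer, centralizer_zpowers] at h5

end A1

/-! ### the subgroup `TT` -/

/-- generated by the `[O_{2'}(θ a), Z]` -/
def TT (A : Subgroup G) (θ : G → Subgroup G) (Z : Subgroup G) : Subgroup G :=
  ⨆ a : {a : G // a ∈ A ∧ a ≠ 1}, ⁅ppc 2 (θ (a : G)), Z⁆

omit [Finite G] in
theorem le_TT {Z : Subgroup G} {a : G} (ha : a ∈ A) (h1 : a ≠ 1) : ⁅ppc 2 (θ a), Z⁆ ≤ TT A θ Z :=
  le_iSup (fun a : {a : G // a ∈ A ∧ a ≠ 1} => ⁅ppc 2 (θ (a : G)), Z⁆) ⟨a, ha, h1⟩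

section A2

variable (c : Ctx r A θ) {P Z : Subgroup G} (hP : Sig.IsMaxQ r A θ 2 P) (hZP : Z ≤ P)
  (hPZ : P ≤ centralizer (Z : Set G)) (hZθ : Z ≤ signalizerInf A θ)

include c hP hPZ hZθ in
/-- **(A2)** -/
theorem odd_comm_le {a : G} (ha : a ∈ A) (h1 : a ≠ 1) {U : Subgroup G} (hU : U ≤ θ a)
    (hodd : (Nat.card U).Coprime 2) (hZU : Z ≤ normalizer (U : Set G)) : ⁅U, Z⁆ ≤ ppc 2 (θ a) := by
  have hm := c.theta_mem ha h1
  have hI : signalizerInf A θ ≤ θ a := Sig.signalizerInf_le θ ha h1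
  have hS := Sig.inf_isSylIn c.hA c.A3 c.hθ 2 hP hm hI
  exact comm_le_ppc_of_sylow (Sig.solvable hm) hS (hZθ.trans hI) (inf_le_left.trans hPZ) hU hodd hZU

include c hZθ in
theorem Z_le_centralizer : Z ≤ centralizer (A : Set G) := by
  obtain ⟨a, ha, h1⟩ := c.exists_point
  refine hZθ.trans (Sig.signalizerInf_le_centralizer c.hθ.1 ?_)
  rintro rfl
  exact h1 ha

include hP hZP in
theorem isPGroup_Z : IsPGroup 2 Z := hP.2.1.to_le hZP

include hZθ in
omit [Finite G] hr in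
theorem Z_le_norm_ppc [Finite G] {a : G} (ha : a ∈ A) (h1 : a ≠ 1) : Z ≤ normalizer (ppc 2 (θ a) : Set G) :=
  (hZθ.trans (Sig.signalizerInf_le θ ha h1)).trans (le_normalizer_ppc 2 (θ a))

include c hP hZP hZθ in
theorem comm_comm_eq {a : G} (ha : a ∈ A) (h1 : a ≠ 1) {U : Subgroup G} 
    (hodd : (Nat.card U).Coprime 2) (hZU : Z ≤ normalizer (U : Set G)) : ⁅⁅U, Z⁆, Z⁆ = ⁅U, Z⁆ := by
  have hZ2 := isPGroup_Z hP hZP
  exact commutator_commutator_eq Z U hZU
    (coprime_of_isPGroup hZ2 ((Nat.Prime.coprime_iff_not_dvd Nat.prime_two).mp hodd.symm))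
    (Or.inl (isSolvable_of_isPGroup hZ2))

include c hP hZP hZθ in
/-- the existence of an odd order member containing all `O_{2'}(θ a)` -/
theorem exists_Y (hZ1 : Z ≠ ⊥) : ∃ Y ∈ signalizerFamily r A θ, (Nat.card Y).Coprime 2 ∧
    ∀ a ∈ A, a ≠ 1 → ppc 2 (θ a) ≤ Y := by
  obtain ⟨b, hb, hb1⟩ := c.exists_point
  have hZ2 := isPGroup_Z hP hZP
  have hne : ∃ b ∈ A, b ≠ 1 ∧ ¬ H28.RelHall.PiG {s | s ≠ 2} (θ b) := by
    refine ⟨b, hb, hb1, fun h => ?_⟩
    obtain ⟨n, hn⟩ := IsPGroup.iff_card.mp hZ2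
    rcases Nat.eq_zero_or_pos n with h0 | h0
    · rw [h0, pow_zero] at hn
      exact hZ1 (Subgroup.card_eq_one.mp hn)
    · exact h 2 Nat.prime_two ((by rw [hn]; exact dvd_pow_self 2 h0.ne' : 2 ∣ Nat.card Z).trans
        (Subgroup.card_dvd_of_le (hZθ.trans (Sig.signalizerInf_le θ hb hb1)))) rfl
  obtain ⟨Y, hY, hYπ, hYle⟩ := c.exists_pi {s | s ≠ 2} hne
  refine ⟨Y, hY, ?_, fun a ha h1 => ?_⟩
  · rw [Nat.coprime_comm, Nat.Prime.coprime_iff_not_dvd Nat.prime_two]
    exact fun h => hYπ 2 Nat.prime_two h rfl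
  · refine le_trans ?_ (hYle a ha h1)
    have hma := c.theta_mem ha h1
    apply le_phi (ppc_le 2 _) (Sig.inv (ppc_mem hma 2))
      ((Sig.signalizerInf_le θ ha h1).trans (le_normalizer_ppc 2 _))
    intro s hs hsd
    rintro rfl
    exact absurd (Nat.Coprime.eq_one_of_dvd (card_ppc 2 (θ a)).symm hsd) hs.one_lt.ne'

include c hP hZP hZθ in
/-- **(A3)** -/
theorem TT_mem_aux (hZ1 : Z ≠ ⊥) : TT A θ Z ∈ signalizerFamily r A θ ∧ (Nat.card (TT A θ Z)).Coprime 2 := by
  obtain ⟨Y, hY, hYodd, hYle⟩ := exists_Y c hP hZP hZθ hZ1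
  have hTY : TT A θ Z ≤ Y := by
    refine iSup_le fun a => ?_
    exact (commutator_le_left (Z_le_norm_ppc hZθ a.2.1 a.2.2)).trans (hYle a.1 a.2.1 a.2.2)
  have hAZ : A ≤ normalizer (Z : Set G) :=
    (le_centralizer_symm (Z_le_centralizer c hZθ)).trans (Subgroup.centralizer_le_normalizer _)
  refine ⟨Sig.mono hY hTY ?_, Nat.Coprime.coprime_dvd_left (Subgroup.card_dvd_of_le hTY) hYodd⟩
  exact le_normalizer_iSup fun a =>
    le_normalizer_commutator (Sig.inv (ppc_mem (c.theta_mem a.2.1 a.2.2) 2)) hAZ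

include c hP hZP hZθ in
theorem TT_mem (hZ1 : Z ≠ ⊥) : TT A θ Z ∈ signalizerFamily r A θ := (TT_mem_aux c hP hZP hZθ hZ1).1

include c hP hZP hZθ in
theorem TT_odd (hZ1 : Z ≠ ⊥) : (Nat.card (TT A θ Z)).Coprime 2 := (TT_mem_aux c hP hZP hZθ hZ1).2

theorem Z_le_norm_TT : Z ≤ normalizer (TT A θ Z : Set G) :=
  le_normalizer_iSup fun a => le_normalizer_commutator_right _ _

include c hP hZP hZθ in
theorem comm_TT : ⁅TT A θ Z, Z⁆ = TT A θ Z := by
  apply le_antisymm (commutator_le_left Z_le_norm_TT)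
  refine iSup_le fun a => ?_
  rw [← comm_comm_eq c hP hZP hZθ a.2.1 a.2.2 (card_ppc 2 _) (Z_le_norm_ppc hZθ a.2.1 a.2.2)]
  exact Subgroup.commutator_mono (le_TT a.2.1 a.2.2) le_rfl

include c hZθ in
theorem Z_le_norm_RR (s : ℕ) : Z ≤ normalizer (RR r A θ s : Set G) :=
  le_normalizer_iInf fun E => (hZθ.trans (Sig.signalizerInf_anti E.2.1)).trans (le_normalizer_XI _)

omit [Finite G] in
theorem pc_normal_le {N H : Subgroup G} {s : ℕ} (hNH : N ≤ H) (hn : H ≤ normalizer (N : Set G)) :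
    pc s N ≤ pc s H :=
  le_pc ((pc_le s N).trans hNH) (hn.trans (normalizer_le_normalizer_pc s N)) (isPGroup_pc s N)

include c hP hZP hPZ hZθ in
/-- **(A4)** -/
theorem comm_pc_TT_le (hZ1 : Z ≠ ⊥) {s : ℕ} (hs : s.Prime) (hs2 : s ≠ 2) :
    ⁅pc s (TT A θ Z), Z⁆ ≤ RR r A θ s := by
  have := Fact.mk hs
  have hTm := TT_mem c hP hZP hZθ hZ1
  have hTo := TT_odd c hP hZP hZθ hZ1
  have hZ2 := isPGroup_Z hP hZP
  have hZA := Z_le_centralizer c hZθ
  set V := pc s (TT A θ Z) with hV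
  have hVm : V ∈ signalizerFamily r A θ := pc_mem hTm s
  have hVo : (Nat.card V).Coprime 2 := Nat.Coprime.coprime_dvd_left (Subgroup.card_dvd_of_le (pc_le s _)) hTo
  have hZV : Z ≤ normalizer (V : Set G) := Z_le_norm_TT.trans (normalizer_le_normalizer_pc s _)
  refine gg_all (t := 2) (q := s) c.hA c.A3 hZ2 hZA (isPGroup_pc s _) (Sig.not_dvd hVm)
    ((Nat.Prime.coprime_iff_not_dvd Nat.prime_two).mp hVo.symm) (Sig.inv hVm) hZV ?_
  intro D hD hDc
  refine le_RR_of_pc c.hA c.hA3 c.hθ hD hDc fun d hd hd1 => ?_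
  have hdA := hD hd
  set U := V ⊓ centralizer (D : Set G) with hU
  have hUθ : U ≤ θ d := (mem_inf_centralizer_le hVm hD).trans (Sig.signalizerInf_le θ hd hd1)
  have hUo : (Nat.card U).Coprime 2 := Nat.Coprime.coprime_dvd_left (Subgroup.card_dvd_of_le inf_le_left) hVo
  have hZU : Z ≤ normalizer (U : Set G) := le_normalizer_inf hZV (norm_of_cent hZA hD)
  have h1 : ⁅U, Z⁆ ≤ ppc 2 (θ d) := odd_comm_le c hP hPZ hZθ hdA hd1 hUθ hUo hZU
  have h2 : ⁅U, Z⁆ ≤ ⁅ppc 2 (θ d), Z⁆ := by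
    rw [← comm_comm_eq c hP hZP hZθ hdA hd1 hUo hZU]
    exact Subgroup.commutator_mono h1 le_rfl
  have h3 : ⁅U, Z⁆ ≤ V := (commutator_le_left hZU).trans inf_le_left
  set N := ⁅ppc 2 (θ d), Z⁆ with hN
  have hNT : N ≤ TT A θ Z := le_TT hdA hd1
  have hNK : N ≤ ppc 2 (θ d) := commutator_le_left (Z_le_norm_ppc hZθ hdA hd1)
  have h4 : V ⊓ N ≤ pc s N := by
    apply le_pc inf_le_right
    · exact le_normalizer_inf (hNT.trans (le_normalizer_pc s _)) Subgroup.le_normalizer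
    · exact (isPGroup_pc s _).to_le inf_le_left
  refine (le_inf h3 h2).trans (h4.trans ?_)
  exact (pc_normal_le hNK (le_normalizer_commutator_left _ _)).trans
    (pc_normal_le (ppc_le 2 _) (le_normalizer_ppc 2 _))

include c hP hZP hPZ hZθ in
/-- **(A5)** -/
theorem TT_ne_bot (hR2 : RR r A θ 2 = ⊥) (hZ1 : Z ≠ ⊥) : TT A θ Z ≠ ⊥ := by
  intro hT
  apply hZ1
  have hZ2 := isPGroup_Z hP hZP
  obtain ⟨D, hD, hDc⟩ := c.exists_line
  rw [eq_bot_iff, ← hR2]
  refine le_RR_of_pc c.hA c.hA3 c.hθ hD hDc fun a haD h1 => ?_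
  have ha := hD haD
  have hm := c.theta_mem ha h1
  have hI : signalizerInf A θ ≤ θ a := Sig.signalizerInf_le θ ha h1
  apply le_pc_of_centralizes (Sig.solvable hm) (hZθ.trans hI) hZ2
  intro s hs
  by_cases h2 : s = 2
  · subst h2
    have h3 : pc 2 (θ a) ≤ P := le_isMaxQ c.hA c.A3 c.hθ hP (pc_mem hm 2) (isPGroup_pc 2 _)
      (hI.trans (le_normalizer_pc 2 _))
    exact h3.trans hPZ
  · have h3 : pc s (θ a) ≤ ppc 2 (θ a) := by
      apply le_ppc (pc_le s _) (le_normalizer_pc s _)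
      obtain ⟨n, hn⟩ := (@IsPGroup.iff_card s (pc s (θ a)) _ (Fact.mk hs) _).mp (isPGroup_pc s (θ a))
      rw [hn]
      exact Nat.Coprime.pow_left _ ((Nat.coprime_primes hs Nat.prime_two).mpr h2)
    have h4 : ⁅ppc 2 (θ a), Z⁆ = ⊥ := by
      rw [eq_bot_iff, ← hT]; exact le_TT ha h1
    rw [commutator_eq_bot_iff_le_centralizer] at h4
    exact h3.trans h4

include c hP hZP hPZ hZθ in
/-- **(A6)** -/
theorem exists_RR_active (hR2 : RR r A θ 2 = ⊥) (hZ1 : Z ≠ ⊥) :
    ∃ s : ℕ, s.Prime ∧ s ≠ 2 ∧ ¬ Z ≤ centralizer (RR r A θ s : Set G) := by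
  have hTm := TT_mem c hP hZP hZθ hZ1
  have hTo := TT_odd c hP hZP hZθ hZ1
  have hZ2 := isPGroup_Z hP hZP
  by_contra hcon
  push Not at hcon
  apply TT_ne_bot c hP hZP hPZ hZθ hR2 hZ1
  -- `Z` centralises all the `O_s(TT)`
  have key : ∀ s : ℕ, s.Prime → pc s (TT A θ Z) ≤ centralizer (Z : Set G) := by
    intro s hs
    have := Fact.mk hs
    by_cases h2 : s = 2
    · subst h2
      obtain ⟨n, hn⟩ := IsPGroup.iff_card.mp (isPGroup_pc 2 (TT A θ Z))
      have h3 : (Nat.card (pc 2 (TT A θ Z))).Coprime 2 :=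
        Nat.Coprime.coprime_dvd_left (Subgroup.card_dvd_of_le (pc_le 2 _)) hTo
      have h4 : pc 2 (TT A θ Z) = ⊥ := by
        rcases Nat.eq_zero_or_pos n with h0 | h0
        · rw [h0, pow_zero] at hn
          exact Subgroup.card_eq_one.mp hn
        · exfalso
          rw [hn] at h3
          exact (Nat.Prime.coprime_iff_not_dvd Nat.prime_two).mp h3.symm (dvd_pow_self 2 h0.ne')
      rw [h4]; exact bot_le
    · have h3 := comm_pc_TT_le c hP hZP hPZ hZθ hZ1 hs h2
      have h4 := hcon s hs h2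
      rw [← commutator_eq_bot_iff_le_centralizer]
      have hZV : Z ≤ normalizer (pc s (TT A θ Z) : Set G) := Z_le_norm_TT.trans (normalizer_le_normalizer_pc s _)
      have hVo : (Nat.card (pc s (TT A θ Z))).Coprime 2 :=
        Nat.Coprime.coprime_dvd_left (Subgroup.card_dvd_of_le (pc_le s _)) hTo
      apply commutator_eq_bot_of Z _ hZV
        (coprime_of_isPGroup hZ2 ((Nat.Prime.coprime_iff_not_dvd Nat.prime_two).mp hVo.symm))
        (Or.inl (isSolvable_of_isPGroup hZ2))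
      rw [eq_bot_iff]
      refine (Subgroup.commutator_mono h3 le_rfl).trans ?_
      rw [le_bot_iff, commutator_comm, commutator_eq_bot_iff_le_centralizer]
      exact h4
  rw [← comm_TT c hP hZP hZθ, commutator_comm, commutator_eq_bot_iff_le_centralizer]
  intro z hz
  have h5 : TT A θ Z ≤ centralizer {z} := by
    apply le_centralizer_of_pc (Sig.solvable hTm) (Z_le_norm_TT hz)
    · obtain ⟨k, hk⟩ := hZ2 ⟨z, hz⟩
      have h6 : orderOf z ∣ 2 ^ k := by
        apply orderOf_dvd_of_pow_eq_one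
        exact congrArg Subtype.val hk
      exact Nat.Coprime.coprime_dvd_left h6 (Nat.Coprime.pow_left _ hTo.symm)
    · intro s hs
      refine (key s hs).trans (Subgroup.centralizer_le ?_)
      simpa using hz
  rw [mem_centralizer_iff]
  intro x hx
  exact mem_centralizer_singleton_iff.mp (h5 hx)

include c hP hZP hPZ hZθ in
/-- the `[O_{2'}(θ d), Z]`, `d` in a line, generate `TT` -/
theorem TT_le_line {D : Subgroup G} (hD : D ≤ A) (hDc : Nat.card D = r ^ 2) :
    TT A θ Z ≤ ⨆ d : {d : G // d ∈ D ∧ d ≠ 1}, ⁅ppc 2 (θ (d : G)), Z⁆ := by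
  have hZ2 := isPGroup_Z hP hZP
  have hZA := Z_le_centralizer c hZθ
  have hAZ : A ≤ normalizer (Z : Set G) :=
    (le_centralizer_symm hZA).trans (Subgroup.centralizer_le_normalizer _)
  set T := ⨆ d : {d : G // d ∈ D ∧ d ≠ 1}, ⁅ppc 2 (θ (d : G)), Z⁆ with hT
  have hAT : A ≤ normalizer (T : Set G) := le_normalizer_iSup fun d =>
    le_normalizer_commutator (Sig.inv (ppc_mem (c.theta_mem (hD d.2.1) d.2.2) 2)) hAZ
  have hZT : Z ≤ normalizer (T : Set G) := le_normalizer_iSup fun d => le_normalizer_commutator_right _ _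
  refine iSup_le fun a => ?_
  have hm := c.theta_mem a.2.1 a.2.2
  have hpm := ppc_mem hm 2
  set V := ppc 2 (θ (a : G)) with hV
  have hZV : Z ≤ normalizer (V : Set G) := Z_le_norm_ppc hZθ a.2.1 a.2.2
  have hVo : (Nat.card V).Coprime 2 := card_ppc 2 _
  refine gg (t := 2) c.hA hZ2 hZA (Sig.solvable hpm) (Sig.not_dvd hpm)
    ((Nat.Prime.coprime_iff_not_dvd Nat.prime_two).mp hVo.symm) (Sig.inv hpm) hZV hD hDc hAT hZT ?_
  intro d hd hd1
  have hdA := hD hd
  set U := V ⊓ centralizer {d} with hU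
  have hUo : (Nat.card U).Coprime 2 := Nat.Coprime.coprime_dvd_left (Subgroup.card_dvd_of_le inf_le_left) hVo
  have hZU : Z ≤ normalizer (U : Set G) := le_normalizer_inf hZV (norm_of_cent' hZA hdA)
  have hUθ : U ≤ θ d := Sig.inf_le hpm hdA hd1
  have h1 : ⁅U, Z⁆ ≤ ppc 2 (θ d) := odd_comm_le c hP hPZ hZθ hdA hd1 hUθ hUo hZU
  rw [← comm_comm_eq c hP hZP hZθ hdA hd1 hUo hZU]
  refine (Subgroup.commutator_mono h1 le_rfl).trans ?_
  exact le_iSup (fun d : {d : G // d ∈ D ∧ d ≠ 1} => ⁅ppc 2 (θ (d : G)), Z⁆) ⟨d, hd, hd1⟩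

include c hP hZP hPZ hZθ in
/-- **(A7)** -/
theorem theta_inf_le_normalizer_TT {a : G} (ha : a ∈ A) (h1 : a ≠ 1) :
    θ a ⊓ centralizer (Z : Set G) ≤ normalizer (TT A θ Z : Set G) := by
  have hZA := Z_le_centralizer c hZθ
  have hAZ : A ≤ centralizer (Z : Set G) := le_centralizer_symm hZA
  have hm := c.theta_mem ha h1
  have hU : A ≤ normalizer ((θ a ⊓ centralizer (Z : Set G) : Subgroup G) : Set G) :=
    le_normalizer_inf (Sig.inv hm) (hAZ.trans Subgroup.le_normalizer)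
  refine le_trans ?_ (gen_point c.hA c.A3 hU
    (fun h' => Sig.not_dvd hm (h'.trans (Subgroup.card_dvd_of_le inf_le_left))) ha h1 ?_)
  · exact le_inf le_rfl (inf_le_left.trans (c.hθ.1.1 a ha h1))
  · intro D hD hDc haD
    have h2 : TT A θ Z = ⨆ d : {d : G // d ∈ D ∧ d ≠ 1}, ⁅ppc 2 (θ (d : G)), Z⁆ := by
      apply le_antisymm (TT_le_line c hP hZP hPZ hZθ hD hDc)
      exact iSup_le fun d => le_TT (hD d.2.1) d.2.2
    rw [h2]
    refine le_normalizer_iSup fun d => ?_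
    have h3 : (θ a ⊓ centralizer (Z : Set G)) ⊓ centralizer (D : Set G) ≤ θ (d : G) :=
      ((inf_le_inf_right _ inf_le_left).trans (theta_inf_centralizer_le c.hθ.1 hD ha h1)).trans
        (Sig.signalizerInf_le θ d.2.1 d.2.2)
    apply le_normalizer_commutator (h3.trans (le_normalizer_ppc 2 _))
    exact (inf_le_left.trans inf_le_right).trans (Subgroup.centralizer_le_normalizer _)

end A2

end H27.SFTwo
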